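import Cfsg.Agent.H5.Sy2

set_option autoImplicit false

namespace CfsgH5.Sy
open Equiv Equiv.Perm MulAction
open scoped Pointwise

variable {α : Type*} [Fintype α] [DecidableEq α] {β : Type*} [DecidableEq β]

/-- partition stabiliser -/
def Wf (f : α → β) : Subgroup (Perm α) where
  carrier := {g | ∀ x y, f x = f y ↔ f (g x) = f (g y)}
  one_mem' := fun _ _ => Iff.rfl
  mul_mem' := fun {_ _} ha hb x y => (hb x y).trans (ha _ _)
  inv_mem' := fun {a} ha x y => by simpa using (ha (a⁻¹ x) (a⁻¹ y)).symm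

omit [Fintype α] [DecidableEq α] [DecidableEq β] in
theorem closure_W (f : α → β) : Subgroup.closure {g : Perm α | ∀ x y, f x = f y ↔ f (g x) = f (g y)} = Wf f :=
  Subgroup.closure_eq (Wf f)

omit [Fintype α] [DecidableEq α] [DecidableEq β] in
theorem mem_W_of (f : α → β) (g : Perm α) (σ : Perm β) (h : ∀ x, f (g x) = σ (f x)) : g ∈ Wf f :=
  fun x y => by rw [h, h, σ.apply_eq_iff_eq]

omit [Fintype α] [DecidableEq β] in
theorem f_swap (f : α → β) {a b : α} (h : f a = f b) (x : α) : f (swap a b x) = f x := by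
  rw [swap_apply_def]; split_ifs <;> simp [*]

omit [Fintype α] [DecidableEq β] in
theorem swap_W (f : α → β) {a b : α} (h : f a = f b) : swap a b ∈ Wf f :=
  mem_W_of f _ 1 (f_swap f h)

omit [DecidableEq α] [DecidableEq β] in
theorem exists_equiv (f : α → β) (a : ℕ) (hf : ∀ i, Nat.card {x // f x = i} = a) :
    ∃ E : α ≃ β × Fin a, ∀ x, (E x).1 = f x :=
  ⟨(Equiv.sigmaFiberEquiv f).symm.trans ((Equiv.sigmaCongrRight fun i => Finite.equivFinOfCardEq (hf i)).trans (Equiv.sigmaEquivProd β (Fin a))),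
    fun _ => rfl⟩

omit [DecidableEq α] [DecidableEq β] in
theorem lift (f : α → β) (a : ℕ) (hf : ∀ i, Nat.card {x // f x = i} = a) (σ : Perm β) :
    ∃ g : Perm α, ∀ x, f (g x) = σ (f x) := by
  obtain ⟨E, hE⟩ := exists_equiv f a hf
  exact ⟨E.trans ((Equiv.prodCongr σ (Equiv.refl _)).trans E.symm), fun x => by rw [← hE, ← hE]; simp⟩

theorem W_two (f : α → β) (a : ℕ) (hf : ∀ i, Nat.card {x // f x = i} = a) {x y u v : α} (h1 : f x ≠ f y) (h2 : f u ≠ f v) :
    ∃ w ∈ Wf f, w x = u ∧ w y = v := by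
  obtain ⟨g, hg⟩ := lift f a hf (swap (swap (f x) (f u) (f y)) (f v) * swap (f x) (f u))
  have e1 : f (g x) = f u := by
    rw [hg, mul_apply, swap_apply_left, swap_apply_of_ne_of_ne _ h2]
    intro e; rw [eq_comm, swap_apply_eq_iff, swap_apply_right] at e; exact h1 e.symm
  have e2 : f (g y) = f v := by rw [hg, mul_apply, swap_apply_left]
  refine ⟨swap (g x) u * (swap (g y) v * g), mul_mem (swap_W f e1) (mul_mem (swap_W f e2) (mem_W_of f g _ hg)), ?_, ?_⟩
  · rw [mul_apply, mul_apply, swap_apply_of_ne_of_ne (a := g y), swap_apply_left]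
    · intro e; exact h1 (congrArg f (g.injective e))
    · intro e; exact h2 (by rw [← e1, e])
  · rw [mul_apply, mul_apply, swap_apply_left, swap_apply_of_ne_of_ne]
    · intro e; exact h2 (by rw [← e1, e])
    · intro e; exact h2 (by rw [e])

omit [DecidableEq β] in
theorem fix_sign (f : α → β) {w : Perm α} (hw : w ∈ Wf f) {p q : α} (hpq : p ≠ q) (h : f p = f q) :
    ∃ w' ∈ Wf f ⊓ alternatingGroup α, ∀ x, w x ≠ p → w x ≠ q → w' x = w x := by
  rcases Int.units_eq_one_or (sign w) with hs | hs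
  · exact ⟨w, ⟨hw, hs⟩, fun _ _ _ => rfl⟩
  · exact ⟨swap p q * w, ⟨mul_mem (swap_W f h) hw, by simp [hs, hpq]⟩, fun x h1 h2 => swap_apply_of_ne_of_ne h1 h2⟩

omit [DecidableEq α] [DecidableEq β] in
theorem fib_out (f : α → β) (a : ℕ) (hf : ∀ i, Nat.card {x // f x = i} = a) (i : β) (T : Finset α) (h : T.card < a) :
    ∃ p, f p = i ∧ p ∉ T := by
  classical
  obtain ⟨p, h1, h2⟩ := Finset.exists_mem_notMem_of_card_lt_card (s := T) (t := Finset.univ.filter (fun x => f x = i))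
    (by rwa [← Fintype.card_subtype, ← Nat.card_eq_fintype_card, hf])
  exact ⟨p, by simpa using h1, h2⟩

omit [DecidableEq α] in
theorem card_eq (f : α → β) [Fintype β] (a : ℕ) (hf : ∀ i, Nat.card {x // f x = i} = a) : Fintype.card α = Fintype.card β * a := by
  obtain ⟨E, -⟩ := exists_equiv f a hf
  simpa using Fintype.card_congr E

theorem not_W (f : α → β) {g : Perm α} (hg : g ∉ Wf f) :
    ∃ h : Perm α, (h = g ∨ h = g⁻¹) ∧ ∃ x y, f x = f y ∧ f (h x) ≠ f (h y) := by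
  by_contra hc
  push Not at hc
  exact hg fun x y => ⟨hc g (Or.inl rfl) x y, fun h => by simpa using hc g⁻¹ (Or.inr rfl) _ _ h⟩

theorem W_ne (f : α → β) (a : ℕ) (ha : 2 ≤ a) (hf : ∀ i, Nat.card {x // f x = i} = a) [Nontrivial β] :
    ∃ x x' y, f x = f x' ∧ x ≠ x' ∧ f x ≠ f y := by
  obtain ⟨i, j, hij⟩ := exists_pair_ne β
  obtain ⟨x, hx, -⟩ := fib_out f a hf i ∅ (by simp; omega)
  obtain ⟨x', hx', h⟩ := fib_out f a hf i {x} (by simp; omega)
  obtain ⟨y, hy, -⟩ := fib_out f a hf j ∅ (by simp; omega)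
  exact ⟨x, x', y, hx.trans hx'.symm, fun e => h (by simp [e]), by rwa [hx, hy]⟩

theorem W_coatom (f : α → β) (a : ℕ) (ha : 2 ≤ a) (hf : ∀ i, Nat.card {x // f x = i} = a) [Nontrivial β] :
    IsCoatom (Wf f) := by
  constructor
  · intro h
    obtain ⟨x, x', y, h1, h2, h3⟩ := W_ne f a ha hf
    have := ((h ▸ Subgroup.mem_top (swap x y) : swap x y ∈ Wf f) x x').mp h1
    rw [swap_apply_left, swap_apply_of_ne_of_ne h2.symm (fun e => h3 (by rw [h1, e]))] at this
    exact h3 (h1.trans this.symm)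
  · intro K hK
    obtain ⟨g, hg, hn⟩ := SetLike.exists_of_lt hK
    obtain ⟨h, hh, x, y, h1, h2⟩ := not_W f hn
    have hh : h ∈ K := by rcases hh with rfl | rfl; exacts [hg, inv_mem hg]
    have conj : ∀ k ∈ K, ∀ a b, swap a b ∈ K → swap (k a) (k b) ∈ K := fun k hk a b hab => by
      rw [swap_apply_apply]; exact mul_mem (mul_mem hk hab) (inv_mem hk)
    rw [eq_top_iff, ← closure_isSwap, Subgroup.closure_le]
    rintro _ ⟨u, v, -, rfl⟩
    by_cases huv : f u = f v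
    · exact hK.le (swap_W f huv)
    obtain ⟨w, hw, rfl, rfl⟩ := W_two f a hf h2 huv
    exact conj w (hK.le hw) _ _ (conj h hh _ _ (hK.le (swap_W f h1)))

theorem WA_two (f : α → β) [Fintype β] (a : ℕ) (ha : 2 ≤ a) (hf : ∀ i, Nat.card {x // f x = i} = a) (h4 : 4 < Fintype.card α)
    {x y u v : α} (h1 : f x ≠ f y) (h2 : f u ≠ f v) : ∃ w ∈ Wf f ⊓ alternatingGroup α, w x = u ∧ w y = v := by
  obtain ⟨w, hw, e1, e2⟩ := W_two f a hf h1 h2
  obtain ⟨p, q, hpq, h, hp, hq⟩ : ∃ p q, p ≠ q ∧ f p = f q ∧ p ∉ ({u, v} : Finset α) ∧ q ∉ ({u, v} : Finset α) := by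
    by_cases h3 : 3 ≤ a
    · obtain ⟨p, hp, hp'⟩ := fib_out f a hf (f u) {u} (by simp; omega)
      obtain ⟨q, hq, hq'⟩ := fib_out f a hf (f u) {u, p} (lt_of_le_of_lt Finset.card_le_two h3)
      simp only [Finset.mem_insert, Finset.mem_singleton, not_or] at *
      exact ⟨p, q, Ne.symm hq'.2, hp.trans hq.symm, ⟨hp', fun e => h2 (by rw [← hp, e])⟩, hq'.1, fun e => h2 (by rw [← hq, e])⟩
    · obtain rfl : a = 2 := by omega
      have := card_eq f 2 hf
      obtain ⟨i, -, hi⟩ := Finset.exists_mem_notMem_of_card_lt_card (s := {f u, f v}) (t := Finset.univ)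
        (lt_of_le_of_lt Finset.card_le_two (by rw [Finset.card_univ]; omega))
      obtain ⟨p, hp, -⟩ := fib_out f 2 hf i ∅ (by simp)
      obtain ⟨q, hq, hq'⟩ := fib_out f 2 hf i {p} (by simp)
      simp only [Finset.mem_insert, Finset.mem_singleton, not_or] at *
      exact ⟨p, q, Ne.symm hq', hp.trans hq.symm, ⟨fun e => hi.1 (by rw [← hp, e]), fun e => hi.2 (by rw [← hp, e])⟩,
        fun e => hi.1 (by rw [← hq, e]), fun e => hi.2 (by rw [← hq, e])⟩
  obtain ⟨w', hw', e⟩ := fix_sign f hw hpq h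
  simp only [Finset.mem_insert, Finset.mem_singleton, not_or] at *
  exact ⟨w', hw', by rw [e x (e1 ▸ Ne.symm hp.1) (e1 ▸ Ne.symm hq.1), e1], by rw [e y (e2 ▸ Ne.symm hp.2) (e2 ▸ Ne.symm hq.2), e2]⟩

theorem alt_le_of_three (f : α → β) [Fintype β] (a : ℕ) (ha : 2 ≤ a) (hf : ∀ i, Nat.card {x // f x = i} = a) (h4 : 4 < Fintype.card α)
    (K : Subgroup (Perm α)) (hK : Wf f ⊓ alternatingGroup α ≤ K) (c : Perm α) (hc : c.IsThreeCycle) (hcK : c ∈ K)
    (x : α) (hx : f x ≠ f (c x)) : alternatingGroup α ≤ K := by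
  let S : Set (Perm α) := {c | c.IsThreeCycle ∧ c ∈ K}
  have cross : ∀ u v, f u ≠ f v → ∃ s ∈ Subgroup.closure S, s u = v := fun u v huv => by
    obtain ⟨w, hw, rfl, rfl⟩ := WA_two f a ha hf h4 hx huv
    exact ⟨w * c * w⁻¹, Subgroup.subset_closure ⟨by rw [IsThreeCycle, cycleType_conj]; exact hc,
      mul_mem (mul_mem (hK hw) hcK) (inv_mem (hK hw))⟩, by simp⟩
  refine (trans_three S (fun c h => h.1) ⟨c, hc, hcK⟩ ⟨fun u v => ?_⟩).trans ((Subgroup.closure_le _).mpr fun c h => h.2)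
  by_cases huv : f u = f v
  · obtain ⟨z, hz⟩ : ∃ z, f u ≠ f z := by
      by_contra h; push Not at h; exact hx ((h _).symm.trans (h _))
    obtain ⟨s, hs, e1⟩ := cross u z hz
    obtain ⟨t, ht, e2⟩ := cross z v (huv ▸ hz.symm)
    exact ⟨⟨t * s, mul_mem ht hs⟩, show t (s u) = v by rw [e1, e2]⟩
  · obtain ⟨s, hs, e⟩ := cross u v huv
    exact ⟨⟨s, hs⟩, e⟩

end CfsgH5.Sy
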