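import Cfsg.Agent.H5.Sy1

set_option autoImplicit false

namespace CfsgH5.Sy
open Equiv Equiv.Perm MulAction
open scoped Pointwise

variable {α : Type*} [Fintype α] [DecidableEq α]

theorem pow60 (r : Perm α) (h : r.support.card ≤ 6) : r ^ 60 = 1 := by
  rw [← orderOf_dvd_iff_pow_eq_one, ← lcm_cycleType, Multiset.lcm_dvd]
  intro c hc
  have h1 := two_le_of_mem_cycleType hc
  have h2 := (le_card_support_of_mem_cycleType hc).trans h
  interval_cases c <;> norm_num

theorem exists_out (s : Perm α) (T : Finset α) (h : T.card < s.support.card) : ∃ d, s d ≠ d ∧ d ∉ T := by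
  obtain ⟨d, h1, h2⟩ := Finset.exists_mem_notMem_of_card_lt_card h
  exact ⟨d, mem_support.mp h1, h2⟩

theorem three_of (h6 : Fintype.card α ≠ 6) (s : Perm α) (h3 : s ^ 3 = 1) (h1 : s ≠ 1)
    (h : ∀ u ∈ alternatingGroup α, (s * (u * s * u⁻¹)) ^ 60 = 1) : s.IsThreeCycle := by
  by_contra hn
  have hs3 : ∀ x, s (s (s x)) = x := fun x => by
    have := congrArg (fun f : Perm α => f x) h3
    simpa [pow_succ] using this
  have hd : 3 ∣ s.support.card := by
    rw [← sum_cycleType]
    haveI : Fact (Nat.Prime 3) := ⟨Nat.prime_three⟩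
    apply Multiset.dvd_sum
    intro c hc
    have := (Nat.dvd_prime Nat.prime_three).mp ((dvd_of_mem_cycleType hc).trans (orderOf_dvd_of_pow_eq_one h3))
    have := two_le_of_mem_cycleType hc
    omega
  have hc0 : s.support.card ≠ 0 := by simpa using h1
  have hc3 : s.support.card ≠ 3 := fun e => hn (card_support_eq_three_iff.mp e)
  have hc6 : 6 ≤ s.support.card := by omega
  have hle := Finset.card_le_univ s.support
  obtain ⟨a, ha, -⟩ := exists_out s ∅ (by rw [Finset.card_empty]; omega)
  obtain ⟨d, hd, hd'⟩ := exists_out s {a, s a, s (s a)} (lt_of_le_of_lt Finset.card_le_three (by omega))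
  obtain ⟨g, -, hg⟩ := Finset.exists_mem_notMem_of_card_lt_card (s := ({a, s a, s (s a)} ∪ {d, s d, s (s d)} : Finset α)) (t := Finset.univ)
    (lt_of_le_of_lt (Finset.card_union_le _ _) (by
      have := Finset.card_le_three (a := a) (b := s a) (c := s (s a))
      have := Finset.card_le_three (a := d) (b := s d) (c := s (s d))
      rw [Finset.card_univ]; omega))
  simp only [Finset.mem_union, Finset.mem_insert, Finset.mem_singleton, not_or] at hd' hg
  have tri : ∀ x, s x ≠ x → s (s x) ≠ x ∧ s (s x) ≠ s x := fun x hx =>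
    ⟨fun e => hx (by have := hs3 x; rwa [e] at this), fun e => hx (s.injective e)⟩
  have out : ∀ x y, y ≠ x ∧ y ≠ s x ∧ y ≠ s (s x) → s y ≠ x ∧ s y ≠ s x ∧ s y ≠ s (s x) := fun x y hy =>
    ⟨fun e => hy.2.2 (s.injective (e.trans (hs3 x).symm)), fun e => hy.1 (s.injective e), fun e => hy.2.1 (s.injective e)⟩
  have hu := h (swap a d * swap (s a) g) (mul_mem_alternatingGroup_of_isSwap (swap_isSwap_iff.mpr (Ne.symm hd'.1)) (swap_isSwap_iff.mpr (Ne.symm hg.1.2.1)))
  obtain ⟨t1, t2⟩ := tri a ha
  obtain ⟨t3, t4⟩ := tri d hd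
  obtain ⟨e1, e2, e3⟩ := out a d hd'
  obtain ⟨f1, f2, f3⟩ := out a _ ⟨e1, e2, e3⟩
  obtain ⟨d1, d2, d3⟩ := hd'
  obtain ⟨⟨g1, g2, g3⟩, g4, g5, g6⟩ := hg
  have ca := hs3 a
  have cd := hs3 d
  set r := s * ((swap a d * swap (s a) g) * s * (swap a d * swap (s a) g)⁻¹) with hr
  have hrx : ∀ x, r x = s (swap a d (swap (s a) g (s (swap (s a) g (swap a d x))))) := fun x => by simp [hr]
  by_cases hgf : s g = g
  · generalize hb : s a = b at *
    generalize hc : s b = c at *
    generalize he : s d = e at *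
    generalize hf : s e = f at *
    have r1 : r a = f := by simp [hrx, swap_apply_def, *, Ne.symm]
    have r2 : r f = b := by simp [hrx, swap_apply_def, *, Ne.symm]
    have r3 : r b = c := by simp [hrx, swap_apply_def, *, Ne.symm]
    have r4 : r c = e := by simp [hrx, swap_apply_def, *, Ne.symm]
    have r5 : r e = d := by simp [hrx, swap_apply_def, *, Ne.symm]
    have r6 : r d = g := by simp [hrx, swap_apply_def, *, Ne.symm]
    have r7 : r g = a := by simp [hrx, swap_apply_def, *, Ne.symm]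
    have := congrArg (fun f : Perm α => f a) hu
    simp only [pow_succ, pow_zero, mul_apply, r1, r2, r3, r4, r5, r6, r7, one_apply] at this
    exact e1 this
  · obtain ⟨t5, t6⟩ := tri g hgf
    obtain ⟨k1, k2, k3⟩ := out a g ⟨g1, g2, g3⟩
    obtain ⟨k4, k5, k6⟩ := out d g ⟨g4, g5, g6⟩
    obtain ⟨i1, i2, i3⟩ := out a _ ⟨k1, k2, k3⟩
    obtain ⟨i4, i5, i6⟩ := out d _ ⟨k4, k5, k6⟩
    have cg := hs3 g
    generalize hb : s a = b at *
    generalize hc : s b = c at *
    generalize he : s d = e at *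
    generalize hf : s e = f at *
    generalize hk : s g = k at *
    generalize hi : s k = i at *
    have r1 : r a = f := by simp [hrx, swap_apply_def, *, Ne.symm]
    have r2 : r f = b := by simp [hrx, swap_apply_def, *, Ne.symm]
    have r3 : r b = i := by simp [hrx, swap_apply_def, *, Ne.symm]
    have r4 : r i = c := by simp [hrx, swap_apply_def, *, Ne.symm]
    have r5 : r c = e := by simp [hrx, swap_apply_def, *, Ne.symm]
    have r6 : r e = d := by simp [hrx, swap_apply_def, *, Ne.symm]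
    have r7 : r d = k := by simp [hrx, swap_apply_def, *, Ne.symm]
    have r8 : r k = g := by simp [hrx, swap_apply_def, *, Ne.symm]
    have r9 : r g = a := by simp [hrx, swap_apply_def, *, Ne.symm]
    have := congrArg (fun f : Perm α => f a) hu
    simp only [pow_succ, pow_zero, mul_apply, r1, r2, r3, r4, r5, r6, r7, r8, r9, one_apply] at this
    exact d1 this

theorem three_of_aut (h6 : Fintype.card α ≠ 6) (φ : alternatingGroup α ≃* alternatingGroup α)
    (t : alternatingGroup α) (ht : IsThreeCycle t.1) : IsThreeCycle (φ t).1 := by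
  have h3 : t ^ 3 = 1 := Subtype.ext (by rw [Subgroup.coe_pow, ← ht.orderOf, pow_orderOf_eq_one]; rfl)
  apply three_of h6
  · rw [← Subgroup.coe_pow, ← map_pow, h3, map_one]; rfl
  · intro h
    have : t = 1 := φ.injective (Subtype.ext (by rw [h, map_one]; rfl))
    exact ht.ne_one (by rw [this]; rfl)
  · intro u hu
    obtain ⟨v, hv⟩ := φ.surjective ⟨u, hu⟩
    have h1 : (t * (v * t * v⁻¹)) ^ 60 = 1 := Subtype.ext (by
      rw [Subgroup.coe_pow]
      apply pow60
      refine (Finset.card_le_card (support_mul_le _ _)).trans ((Finset.card_union_le _ _).trans ?_)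
      simp only [Subgroup.coe_mul, InvMemClass.coe_inv, card_support_conj, ht.card_support]
      norm_num)
    have := congrArg (fun x => (φ x).1) h1
    simpa [hv] using this

theorem perm_inner_of_three (h4 : 4 ≤ Fintype.card α) (φ : Perm α ≃* Perm α)
    (h : ∀ t : Perm α, IsThreeCycle t → IsThreeCycle (φ t)) : ∃ π : Perm α, ∀ g, φ g = π * g * π⁻¹ := by
  have hA : (alternatingGroup α).map φ.toMonoidHom = alternatingGroup α := Subgroup.characteristic_iff_map_eq.mp inferInstance φ
  obtain ⟨π, hπ⟩ := inner_of_three h4 ((φ.subgroupMap _).trans (MulEquiv.subgroupCongr hA)) (fun t ht => h t ht)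
  have hπ' : ∀ a ∈ alternatingGroup α, φ a = π * a * π⁻¹ := fun a ha => hπ ⟨a, ha⟩
  refine ⟨π, fun g => ?_⟩
  have := cent_triv h4 (g⁻¹ * (π⁻¹ * φ g * π)) (fun a ha => by
    have h1 := hπ' _ ((inferInstance : (alternatingGroup α).Normal).conj_mem a ha g)
    rw [map_mul, map_mul, map_inv, hπ' a ha] at h1
    calc g⁻¹ * (π⁻¹ * φ g * π) * a = g⁻¹ * π⁻¹ * (φ g * (π * a * π⁻¹) * (φ g)⁻¹) * φ g * π := by group
      _ = _ := by rw [h1]; group)
  calc φ g = π * g * (g⁻¹ * (π⁻¹ * φ g * π)) * π⁻¹ := by group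
    _ = _ := by rw [this, mul_one]

theorem perm_inner (h4 : 4 ≤ Fintype.card α) (h6 : Fintype.card α ≠ 6) (φ : Perm α ≃* Perm α) :
    ∃ π : Perm α, ∀ g, φ g = π * g * π⁻¹ := by
  have hA : (alternatingGroup α).map φ.toMonoidHom = alternatingGroup α := Subgroup.characteristic_iff_map_eq.mp inferInstance φ
  exact perm_inner_of_three h4 φ fun t ht =>
    three_of_aut h6 ((φ.subgroupMap _).trans (MulEquiv.subgroupCongr hA)) ⟨t, ht.mem_alternatingGroup⟩ ht

theorem core_bot (h5 : 5 ≤ Fintype.card α) (H : Subgroup (Perm α)) (hH : ¬ alternatingGroup α ≤ H) : H.normalCore = ⊥ := by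
  by_contra hc
  exact hH ((alternatingGroup_le_of_normal (by rwa [Nat.card_eq_fintype_card]) ((Subgroup.nontrivial_iff_ne_bot _).mpr hc)).trans H.normalCore_le)

theorem exists_aut (h5 : 5 ≤ Fintype.card α) (H : Subgroup (Perm α)) (hH : H.index = Fintype.card α) :
    ∃ (φ : Perm α ≃* Perm α) (x : α), ∀ g, g ∈ H ↔ φ g x = x := by
  have hA : ¬ alternatingGroup α ≤ H := fun h => by
    haveI : Nontrivial α := Fintype.one_lt_card_iff_nontrivial.mp (by omega)
    have := Nat.le_of_dvd (by rw [alternatingGroup.index_eq_two]; norm_num) (Subgroup.index_dvd_of_le h)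
    rw [alternatingGroup.index_eq_two] at this; omega
  obtain ⟨e⟩ : Nonempty ((Perm α ⧸ H) ≃ α) := Finite.card_eq.mp (by rw [Nat.card_eq_fintype_card (α := α), ← hH]; rfl)
  let f : Perm α →* Perm α := (e.permCongrHom : Perm (Perm α ⧸ H) →* Perm α).comp (toPermHom (Perm α) (Perm α ⧸ H))
  have hf : Function.Injective f := by
    refine e.permCongrHom.injective.comp ?_
    rw [← MonoidHom.ker_eq_bot_iff, ← Subgroup.normalCore_eq_ker, core_bot h5 H hA]
  refine ⟨MulEquiv.ofBijective f (Finite.injective_iff_bijective.mp hf), e ((1 : Perm α) : Perm α ⧸ H), fun g => ?_⟩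
  show _ ↔ e (g • e.symm (e _)) = e _
  rw [e.symm_apply_apply, e.apply_eq_iff_eq, ← mem_stabilizer_iff, stabilizer_quotient H]

end CfsgH5.Sy
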