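import Cfsg.Agent.H2.BG0

/-! A presentation for a group of order 320. -/

namespace CfsgH5.C320
open Subgroup Function CfsgH2
open scoped commutatorElement

variable {G : Type*} [Group G] {a r x y : G} {H T Z : Subgroup G}

/-- Conjugates. -/
def cn (r a : G) (i : ℕ) : G := r ^ i * a * (r ^ i)⁻¹

theorem cn_succ (i : ℕ) : r * cn r a i * r⁻¹ = cn r a (i + 1) := by rw [cn, cn, pow_succ']; group

structure Rel (a r : G) : Prop where
  r5 : r ^ 5 = 1
  pr : a * cn r a 1 * cn r a 2 * cn r a 3 * cn r a 4 = 1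
  ua : Commute ⁅a, cn r a 1⁆ a
  ur : Commute ⁅a, cn r a 1⁆ r
  va : Commute ⁅a, cn r a 2⁆ a
  vr : Commute ⁅a, cn r a 2⁆ r
  sr : Commute (a ^ 2) r
  u2 : ⁅a, cn r a 1⁆ ^ 2 = 1
  v2 : ⁅a, cn r a 2⁆ ^ 2 = 1
  s2 : (a ^ 2) ^ 2 = 1

theorem cm_cn {w : G} (h1 : Commute w a) (h2 : Commute w r) (i : ℕ) : Commute w (cn r a i) :=
  ((h2.pow_right i).mul_right h1).mul_right (h2.pow_right i).inv_right

theorem sq_mul (h : Commute ⁅y, x⁆ x) : (x * y) ^ 2 = ⁅y, x⁆ * (x ^ 2 * y ^ 2) := by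
  calc (x * y) ^ 2 = x * ⁅y, x⁆ * x * y * y := by rw [sq]; group
    _ = _ := by rw [← h.eq, sq, sq]; group

theorem cm_left {z : G} (h : Commute ⁅y, z⁆ x) : ⁅x * y, z⁆ = ⁅y, z⁆ * ⁅x, z⁆ := by
  rw [commutator_mul_left', ← h.eq, mul_inv_cancel_right]

theorem card_le [Finite G] {n : ℕ} (hn : 0 < n) (hx : x ∈ N[H]) (h : x ^ n ∈ H) :
    Nat.card (H ⊔ zpowers x : Subgroup G) ≤ Nat.card H * n := by
  have := Nat.card_le_card_of_surjective (fun t : H × Fin n => (⟨t.1.1 * x ^ t.2.1,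
    mul_mem_sup t.1.2 (pow_mem (mem_zpowers x) _)⟩ : (H ⊔ zpowers x : Subgroup G))) fun ⟨y, hy⟩ => by
      obtain ⟨b, hb, k, rfl⟩ := (mem_sup_zpowers hx).1 hy
      obtain ⟨m, hm⟩ := mem_powers_iff_mem_zpowers.2 (zpow_mem_zpowers x k)
      refine ⟨⟨⟨b * (x ^ n) ^ (m / n), mul_mem hb (pow_mem h _)⟩, ⟨m % n, Nat.mod_lt _ hn⟩⟩, Subtype.ext ?_⟩
      change b * (x ^ n) ^ (m / n) * x ^ (m % n) = b * x ^ k
      rw [mul_assoc, ← pow_mul, ← pow_add, Nat.div_add_mod, ← hm]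
  simpa using this

theorem nm_sup [Finite G] {K : Subgroup G} (h1 : x ∈ N[H]) (l : H ≤ K) (h : ⁅x, y⁆ ∈ K) (e : K ≤ H ⊔ zpowers y) :
    x ∈ N[H ⊔ zpowers y] := mem_norm_of_map_le (by
  rw [Subgroup.map_sup, MonoidHom.map_zpowers, sup_le_iff, zpowers_le, cj_apply]
  refine ⟨(map_cj_le_iff'.2 fun w hw => conj_mem_of_norm h1 hw).trans le_sup_left, ?_⟩
  rw [show x * y * x⁻¹ = ⁅x, y⁆ * y by group]
  exact mul_mem (e h) (mem_sup_right (mem_zpowers y)))

namespace Rel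
variable (h : Rel a r)
include h

theorem cu (i : ℕ) : ⁅cn r a i, cn r a (i + 1)⁆ = ⁅a, cn r a 1⁆ := by
  induction i with
  | zero => simp [cn]
  | succ i ih => rw [← cn_succ, ← cn_succ (i + 1), ← conjugate_commutatorElement, ih, ← h.ur.eq, mul_inv_cancel_right]

theorem cv (i : ℕ) : ⁅cn r a i, cn r a (i + 2)⁆ = ⁅a, cn r a 2⁆ := by
  induction i with
  | zero => simp [cn]
  | succ i ih =>
    rw [← cn_succ, ← cn_succ (i + 2), ← conjugate_commutatorElement, ih, ← h.vr.eq, mul_inv_cancel_right]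

theorem cs (i : ℕ) : cn r a i ^ 2 = a ^ 2 := by
  rw [cn, conj_pow, ← (h.sr.pow_right i).eq, mul_inv_cancel_right]

theorem c3 : ⁅cn r a 3, a⁆ = ⁅a, cn r a 2⁆ := by
  have := h.cv 3
  rwa [show cn r a (3 + 2) = a by simp [cn, h.r5]] at this

theorem sq_eq : a ^ 2 = ⁅a, cn r a 1⁆ * ⁅a, cn r a 2⁆ := by
  have U := cm_cn h.ua h.ur
  have V := cm_cn h.va h.vr
  have a0 : cn r a 0 = a := by simp [cn]
  have ui : ⁅a, cn r a 1⁆⁻¹ = ⁅a, cn r a 1⁆ := inv_eq_of_mul_eq_one_right (by rw [← sq, h.u2])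
  have vi : ⁅a, cn r a 2⁆⁻¹ = ⁅a, cn r a 2⁆ := inv_eq_of_mul_eq_one_right (by rw [← sq, h.v2])
  have si : (a ^ 2)⁻¹ = a ^ 2 := inv_eq_of_mul_eq_one_right (by rw [← sq, h.s2])
  have e10 : ⁅cn r a 1, a⁆ = ⁅a, cn r a 1⁆ := by rw [← commutatorElement_inv, ui]
  have e20 : ⁅cn r a 2, a⁆ = ⁅a, cn r a 2⁆ := by rw [← commutatorElement_inv, vi]
  have e21 : ⁅cn r a 2, cn r a 1⁆ = ⁅a, cn r a 1⁆ := by rw [← commutatorElement_inv, h.cu 1, ui]
  have e32 : ⁅cn r a 3, cn r a 2⁆ = ⁅a, cn r a 1⁆ := by rw [← commutatorElement_inv, h.cu 2, ui]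
  have e31 : ⁅cn r a 3, cn r a 1⁆ = ⁅a, cn r a 2⁆ := by rw [← commutatorElement_inv, h.cv 1, vi]
  have uv : Commute ⁅a, cn r a 1⁆ ⁅a, cn r a 2⁆ :=
    (((h.ua.mul_right (U 2)).mul_right h.ua.inv_right).mul_right (U 2).inv_right)
  have b : a * (cn r a 1 * (cn r a 2 * cn r a 3)) = (cn r a 4)⁻¹ :=
    eq_inv_of_mul_eq_one_left (by rw [← h.pr]; group)
  have f1 : ⁅cn r a 2 * cn r a 3, cn r a 1⁆ = ⁅a, cn r a 2⁆ * ⁅a, cn r a 1⁆ := by
    rw [cm_left (by rw [e31]; exact V 2), e31, e21]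
  have f0 : ⁅cn r a 2 * cn r a 3, a⁆ = 1 := by rw [cm_left (by rw [h.c3]; exact V 2), h.c3, e20, ← sq, h.v2]
  have f2 : ⁅cn r a 1 * (cn r a 2 * cn r a 3), a⁆ = ⁅a, cn r a 1⁆ := by
    rw [cm_left (by rw [f0]; exact Commute.one_left _), f0, one_mul, e10]
  have g := congrArg (· ^ 2) b
  rw [sq_mul (by rw [f2]; exact h.ua), sq_mul (by rw [f1]; exact (V 1).mul_left (U 1)),
    sq_mul (by rw [e32]; exact U 2), f2, f1, e32, inv_pow, h.cs, h.cs, h.cs, h.cs, si, ← sq (a ^ 2), h.s2,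
    mul_one] at g
  have su : Commute ⁅a, cn r a 1⁆ (a ^ 2) := h.ua.pow_right 2
  have sv : Commute ⁅a, cn r a 2⁆ (a ^ 2) := h.va.pow_right 2
  set u := ⁅a, cn r a 1⁆
  set v := ⁅a, cn r a 2⁆
  set s := a ^ 2
  rw [← g]
  calc u * (s * (v * u * (s * u))) = u * (s * (v * (u * s) * u)) := by group
    _ = u * (s * v * s) * (u * u) := by rw [su.eq]; group
    _ = u * v * (s * s) * (u * u) := by rw [← sv.eq]; group
    _ = _ := by rw [← sq, ← sq, h.s2, h.u2, mul_one, mul_one]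

theorem card [Finite G] : Nat.card (closure {a, r} : Subgroup G) ≤ 320 := by
  have U := cm_cn h.ua h.ur
  have V := cm_cn h.va h.vr
  have a0 : cn r a 0 = a := by simp [cn]
  set u := ⁅a, cn r a 1⁆ with hu
  set v := ⁅a, cn r a 2⁆ with hv
  have n0 : ∀ x : G, x ∈ N[(⊥ : Subgroup G)] := fun x => mem_norm_of_map_le (by simp)
  have nz : ∀ x, Commute u x → Commute v x → x ∈ N[⊥ ⊔ zpowers u] ∧ x ∈ N[⊥ ⊔ zpowers u ⊔ zpowers v] :=
    fun x c d => by
      have p := nm_sup (n0 x) le_rfl (by rw [commutatorElement_eq_one_iff_commute.2 c.symm]; exact one_mem _)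
        le_sup_left
      exact ⟨p, nm_sup p le_rfl (by rw [commutatorElement_eq_one_iff_commute.2 d.symm]; exact one_mem _) le_sup_left⟩
  have uv : Commute u v := (((h.ua.mul_right (U 2)).mul_right h.ua.inv_right).mul_right (U 2).inv_right)
  set Z0 := ⊥ ⊔ zpowers u ⊔ zpowers v
  have uZ : u ∈ Z0 := mem_sup_left (mem_sup_right (mem_zpowers u))
  have vZ : v ∈ Z0 := mem_sup_right (mem_zpowers v)
  have sZ : ∀ i, cn r a i ^ 2 ∈ Z0 := fun i => by rw [h.cs, h.sq_eq]; exact mul_mem uZ vZ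
  have iv : ∀ {x y : G}, ⁅x, y⁆ ∈ Z0 → ⁅y, x⁆ ∈ Z0 := fun k => by rw [← commutatorElement_inv]; exact inv_mem k
  have k1 := card_le two_pos (n0 u) (h.u2 ▸ one_mem _)
  have k2 : Nat.card Z0 ≤ _ := card_le two_pos (nz v uv (Commute.refl v)).1 (h.v2 ▸ one_mem _)
  have m := fun i => (nz _ (U i) (V i)).2
  have k3 := card_le two_pos (m 0) (sZ 0)
  have m1 : ∀ i, ⁅cn r a i, cn r a 0⁆ ∈ Z0 → cn r a i ∈ N[Z0 ⊔ zpowers (cn r a 0)] := fun i k =>
    nm_sup (m i) le_rfl k le_sup_left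
  have k4 := card_le two_pos (m1 1 (iv (h.cu 0 ▸ uZ))) (mem_sup_left (sZ 1))
  have m2 : ∀ i, ⁅cn r a i, cn r a 0⁆ ∈ Z0 → ⁅cn r a i, cn r a 1⁆ ∈ Z0 →
      cn r a i ∈ N[Z0 ⊔ zpowers (cn r a 0) ⊔ zpowers (cn r a 1)] := fun i k k' =>
    nm_sup (m1 i k) le_rfl (mem_sup_left k') le_sup_left
  have k5 := card_le two_pos (m2 2 (iv (h.cv 0 ▸ vZ)) (iv (h.cu 1 ▸ uZ))) (mem_sup_left (mem_sup_left (sZ 2)))
  have k6 := card_le two_pos (nm_sup (y := cn r a 2) (m2 3 (by rw [a0, h.c3]; exact vZ) (iv (h.cv 1 ▸ vZ))) le_rfl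
    (mem_sup_left (mem_sup_left (iv (h.cu 2 ▸ uZ)))) le_sup_left) (mem_sup_left (mem_sup_left (mem_sup_left (sZ 3))))
  set T := Z0 ⊔ zpowers (cn r a 0) ⊔ zpowers (cn r a 1) ⊔ zpowers (cn r a 2) ⊔ zpowers (cn r a 3)
  have t0 : cn r a 0 ∈ T := mem_sup_left (mem_sup_left (mem_sup_left (mem_sup_right (mem_zpowers _))))
  have t1 : cn r a 1 ∈ T := mem_sup_left (mem_sup_left (mem_sup_right (mem_zpowers _)))
  have t2 : cn r a 2 ∈ T := mem_sup_left (mem_sup_right (mem_zpowers _))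
  have t3 : cn r a 3 ∈ T := mem_sup_right (mem_zpowers _)
  have t4 : cn r a 4 ∈ T := by
    rw [eq_inv_of_mul_eq_one_right h.pr]
    exact inv_mem (mul_mem (mul_mem (mul_mem (a0 ▸ t0) t1) t2) t3)
  have rT : r ∈ N[T] := mem_norm_of_map_le (by
    simp only [T, Subgroup.map_sup (H := _ ⊔ zpowers _), Subgroup.map_sup (H := Z0), MonoidHom.map_zpowers,
      sup_le_iff, zpowers_le, cj_apply, cn_succ]
    exact ⟨⟨⟨⟨(map_cj_le_iff'.2 fun w hw => conj_mem_of_norm (nz r h.ur h.vr).2 hw).trans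
      (le_sup_left.trans (le_sup_left.trans (le_sup_left.trans le_sup_left))), t1⟩, t2⟩, t3⟩, t4⟩)
  have k7 := card_le (by norm_num : 0 < 5) rT (h.r5 ▸ one_mem _)
  have l : closure {a, r} ≤ T ⊔ zpowers r := (closure_le _).2 (Set.insert_subset (mem_sup_left (a0 ▸ t0))
    (Set.singleton_subset_iff.2 (mem_sup_right (mem_zpowers r))))
  have := card_le_of_le l
  rw [card_bot] at k1
  omega

theorem prod {G' : Type*} [Group G'] {b s : G'} (k : Rel b s) : Rel (a, b) (r, s) := by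
  have e : ∀ i, cn (r, s) (a, b) i = (cn r a i, cn s b i) := fun _ => rfl
  exact ⟨Prod.ext h.r5 k.r5, Prod.ext h.pr k.pr, Prod.ext h.ua k.ua, Prod.ext h.ur k.ur, Prod.ext h.va k.va,
    Prod.ext h.vr k.vr, Prod.ext h.sr k.sr, Prod.ext h.u2 k.u2, Prod.ext h.v2 k.v2, Prod.ext h.s2 k.s2⟩

end Rel

theorem cn_mem (hr : r ∈ N[T]) (ha : a ∈ T) (i : ℕ) : cn r a i ∈ T := conj_mem_of_norm (pow_mem hr i) ha

theorem exists_rel (r5 : r ^ 5 = 1) (hr : r ∈ N[T]) (rZ : r ∈ C[Z]) (ZT : Z ≤ T) (ZC : Z ≤ C[T])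
    (c : ∀ x ∈ T, ∀ y ∈ T, ⁅x, y⁆ ∈ Z) (s : ∀ x ∈ T, x ^ 2 ∈ Z) (e : ∀ w ∈ Z, w ^ 2 = 1) (ha : a ∈ T)
    (p : a * cn r a 1 * cn r a 2 * cn r a 3 * cn r a 4 ∈ Z) : ∃ w ∈ Z, Rel (a * w) r := by
  set w := a * cn r a 1 * cn r a 2 * cn r a 3 * cn r a 4 with hw
  have m := mul_mem ha (ZT p)
  have A : ∀ z ∈ Z, Commute z (a * w) := fun z hz => commute_of_mem_cent (ZC hz) m
  have B : ∀ z ∈ Z, Commute z r := fun z hz => (commute_of_mem_cent rZ hz).symm
  have u := c _ m _ (cn_mem hr m 1)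
  have v := c _ m _ (cn_mem hr m 2)
  refine ⟨w, p, r5, ?_, A _ u, B _ u, A _ v, B _ v, B _ (s _ m), e _ u, e _ v, e _ (s _ m)⟩
  have k : ∀ i, cn r (a * w) i = cn r a i * w := fun i => by
    rw [cn, cn, ← mul_assoc, mul_assoc _ w, ((B w p).pow_right i).inv_right.eq, ← mul_assoc]
  have q : ∀ i, w * cn r a i = cn r a i * w := fun i => (commute_of_mem_cent (ZC p) (cn_mem hr ha i)).eq
  have q' : ∀ i x, w * (cn r a i * x) = cn r a i * (w * x) := fun i x => by rw [← mul_assoc, q, mul_assoc]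
  have w2 : ∀ x, w * (w * x) = x := fun x => by rw [← mul_assoc, ← sq, e w p, one_mul]
  simp only [k, mul_assoc, q', w2]
  have := e w p
  rw [sq] at this
  nth_rw 1 [hw] at this
  simpa only [mul_assoc] using this

theorem exists_hom {G' : Type*} [Group G'] [Finite G] [Finite G'] {b s : G'} (h : Rel a r) (k : Rel b s)
    (g : closure {a, r} = ⊤) (hc : Nat.card G = 320) : ∃ ψ : G →* G', ψ a = b ∧ ψ r = s := by
  set D := closure {(a, b), (r, s)}
  let π : D →* G := (MonoidHom.fst G G').comp D.subtype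
  have m1 : (a, b) ∈ D := subset_closure (by simp)
  have m2 : (r, s) ∈ D := subset_closure (by simp)
  have su : Surjective π := MonoidHom.range_eq_top.1 (eq_top_iff.2 (g.ge.trans ((closure_le _).2
    (Set.insert_subset ⟨⟨_, m1⟩, rfl⟩ (Set.singleton_subset_iff.2 ⟨⟨_, m2⟩, rfl⟩)))))
  let e := MulEquiv.ofBijective π (su.bijective_of_nat_card_le (hc ▸ (h.prod k).card))
  refine ⟨((MonoidHom.snd G G').comp D.subtype).comp e.symm.toMonoidHom, ?_, ?_⟩
  · change (e.symm a).1.2 = b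
    rw [show e.symm a = ⟨_, m1⟩ from e.symm_apply_eq.2 rfl]
  · change (e.symm r).1.2 = s
    rw [show e.symm r = ⟨_, m2⟩ from e.symm_apply_eq.2 rfl]

theorem modEq [Finite G] {p : ℕ} [hp : Fact p.Prime] {W : Subgroup G} (hr : r ^ p = 1) (n : r ∈ N[W]) :
    Nat.card W ≡ Nat.card (W ⊓ C1[r] : Subgroup G) [MOD p] := by
  have hP : IsPGroup p (zpowers r) := by
    obtain ⟨j, -, hj⟩ := (Nat.dvd_prime_pow (m := 1) hp.out).1 (by
      rw [pow_one]; exact orderOf_dvd_of_pow_eq_one hr : orderOf r ∣ p ^ 1)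
    exact IsPGroup.of_card (n := j) (by rw [Nat.card_zpowers, hj])
  have l := zpowers_le.2 n
  letI : MulAction (zpowers r) W :=
    { smul := fun a g => ⟨a.1 * g.1 * a.1⁻¹, conj_mem_of_norm (l a.2) g.2⟩
      one_smul := fun g => Subtype.ext (by
        change (1 : G) * g.1 * 1⁻¹ = g.1
        simp)
      mul_smul := fun a b g => Subtype.ext (by
        change a.1 * b.1 * g.1 * (a.1 * b.1)⁻¹ = a.1 * (b.1 * g.1 * b.1⁻¹) * a.1⁻¹
        group) }
  refine (hP.card_modEq_card_fixedPoints W).trans (by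
    rw [Nat.card_congr (β := (W ⊓ C1[r] : Subgroup G)) ⟨fun g => ⟨g.1.1, g.1.2, mem_centralizer_singleton_iff.2
      (mul_inv_eq_iff_eq_mul.1 (congrArg Subtype.val (g.2 ⟨r, mem_zpowers r⟩))).symm⟩,
      fun g => ⟨⟨g.1, g.2.1⟩, fun a => Subtype.ext (mul_inv_eq_iff_eq_mul.2
        (mem_centralizer_singleton_iff.1 ((zpowers_le.2 (mem_centralizer_singleton_iff.2
          (mem_centralizer_singleton_iff.1 g.2.2).symm)) a.2)))⟩, fun _ => rfl, fun _ => rfl⟩])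

theorem main [Finite G] (hG : Nat.card G = 320) (hD : Nat.card (commutator G) = 64)
    (hZ : IsKleinFour (center (commutator G))) {G' : Type*} [Group G'] [Finite G'] {b s : G'} (k : Rel b s)
    (k1 : ⁅b, cn s b 1⁆ ≠ 1) (k2 : ⁅b, cn s b 2⁆ ≠ 1) (k3 : b ^ 2 ≠ 1) :
    ∃ ψ : G →* G', Injective ψ ∧ ∀ g, Commute (ψ g) (b ^ 2) := by
  haveI : Fact (Nat.Prime 5) := ⟨by norm_num⟩
  haveI : Fact (Nat.Prime 2) := ⟨by norm_num⟩
  set T := commutator G with hT
  have n : ∀ g : G, g ∈ N[T] := fun g => by rw [normalizer_eq_top]; exact mem_top g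
  have nZ : ∀ g : G, g ∈ N[Z[T]] := fun g => le_norm_inf le_rfl (norm_le_norm_cent T) (n g)
  have pT : IsPGroup 2 T := IsPGroup.of_card (n := 6) hD
  have cZ : Nat.card Z[T] = 4 := by
    rw [← map_center_subtype, card_map_of_injective T.subtype_injective, hZ.card_four]
  have eZ : ∀ w ∈ Z[T], w ^ 2 = 1 := fun w hw => by
    rw [← map_center_subtype] at hw
    obtain ⟨w, hw, rfl⟩ := hw
    have := Monoid.pow_exponent_eq_one (⟨w, hw⟩ : center T)
    rw [hZ.exponent_two] at this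
    exact congrArg (fun t : center T => t.1.1) this
  have iT : T.relIndex ⊤ = 5 := by
    have := T.card_mul_index
    rw [hD, hG] at this
    rw [relIndex_top_right]; omega
  have T0 : T ≠ ⊥ := fun e => by rw [e, card_bot] at hD; omega
  have sup : ∀ x, x ∉ T → T ⊔ zpowers x = ⊤ := fun x hx =>
    (eq_or_eq_of_relIndex_prime (iT ▸ (by norm_num)) le_sup_left le_top).resolve_left
      fun e => hx (e.le (mem_sup_right (mem_zpowers x)))
  have cen : ∀ (H K : Subgroup G), K ≤ center G → H ⊔ K = ⊤ → T ≤ ⁅H, H⁆ := fun H K hK e => by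
    refine (commutator_le (H₁ := ⊤) (H₂ := ⊤)).2 fun x _ y _ => ?_
    haveI : K.Normal := ⟨fun a ha g => by rwa [mem_center_iff.1 (hK ha) g, mul_inv_cancel_right]⟩
    obtain ⟨x, hx, u, hu, rfl⟩ := mem_sup_of_normal_right.1 (e.ge (mem_top x))
    obtain ⟨y, hy, v, hv, rfl⟩ := mem_sup_of_normal_right.1 (e.ge (mem_top y))
    have : ⁅x * u, y * v⁆ = ⁅x, y⁆ := by
      have a := mem_center_iff.1 (hK hu)
      have b := mem_center_iff.1 (hK hv)
      calc ⁅x * u, y * v⁆ = x * (u * (y * v)) * u⁻¹ * x⁻¹ * v⁻¹ * y⁻¹ := by group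
        _ = x * y * (v * x⁻¹) * v⁻¹ * y⁻¹ := by rw [← a]; group
        _ = _ := by rw [← b]; group
    rw [this]; exact commutator_mem_commutator hx hy
  have nc : ∀ x, x ∉ T → x ∉ C[T] := fun x hx hc => by
    have : zpowers x ≤ center G := zpowers_le.2 (mem_center_iff.2 fun g => mem_centralizer_singleton_iff.1
      ((sup_le (le_cent1_iff.2 hc) (zpowers_le.2 (self_mem_cent1 x)) : T ⊔ zpowers x ≤ C1[x])
        ((sup x hx).ge (mem_top g))))
    exact ((comm_le_phi pT.isNilpotent).trans_lt (phi_lt T0)).not_ge (cen T _ this (sup x hx))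
  obtain ⟨r, hr⟩ := exists_prime_orderOf_dvd_card' 5 (by rw [hG]; norm_num : 5 ∣ Nat.card G)
  have r5 : r ^ 5 = 1 := hr ▸ pow_orderOf_eq_one r
  have rT : r ∉ T := fun e => by
    have := orderOf_dvd_of_mem e
    rw [hr, hD] at this
    omega
  have ZC : Z[T] ≤ C1[r] := by
    have a := modEq r5 (nZ r)
    have b := card_le_of_le (inf_le_left : Z[T] ⊓ C1[r] ≤ Z[T])
    rw [cZ] at a b
    unfold Nat.ModEq at a
    exact (eq_of_le_of_card_ge (inf_le_left : Z[T] ⊓ C1[r] ≤ Z[T]) (by omega)).ge.trans inf_le_right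
  have dv : ∀ W : Subgroup G, W ≤ T → Nat.card W % 5 = 4 → Nat.card W = 4 ∨ W = T := fun W l e => by
    have m : Nat.card W ∈ Nat.divisors 64 := Nat.mem_divisors.2 ⟨hD ▸ card_dvd_of_le l, by norm_num⟩
    rw [show Nat.divisors 64 = {1, 2, 4, 8, 16, 32, 64} by decide] at m
    simp only [Finset.mem_insert, Finset.mem_singleton] at m
    by_cases c : Nat.card W = 64
    · exact .inr (eq_of_le_of_card_ge l (by omega))
    · omega
  have CT : T ⊓ C1[r] = Z[T] := by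
    have a := modEq r5 (n r)
    rw [hD] at a
    unfold Nat.ModEq at a
    rcases dv _ (inf_le_left : T ⊓ C1[r] ≤ T) (by omega) with e | e
    · exact (eq_of_le_of_card_ge (le_inf inf_le_left ZC) (by omega)).symm
    · exact absurd (le_cent1_iff.1 (e.ge.trans inf_le_right)) (nc r rT)
  have two : ∀ W : Subgroup G, Z[T] ≤ W → W ≤ T → r ∈ N[W] → W = Z[T] ∨ W = T := fun W a b c => by
    have m := modEq r5 c
    rw [show W ⊓ C1[r] = Z[T] from le_antisymm ((inf_le_inf_right _ b).trans CT.le) (le_inf a ZC), cZ] at m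
    exact (dv W b m).imp_left fun e => (eq_of_le_of_card_ge a (by omega)).symm
  have ZT : Z[T] ≠ T := fun e => by rw [e, hD] at cZ; omega
  have ph : Φ[T] ≤ Z[T] := by
    refine le_sup_left.trans ((two (Φ[T] ⊔ Z[T]) le_sup_right (sup_le phi_le inf_le_left)
      (le_norm_sup norm_le_norm_phi (le_norm_inf le_rfl (norm_le_norm_cent T)) (n r))).resolve_right fun e => ?_).le
    exact ZT (eq_of_le_phi_sup inf_le_left e.ge)
  have c1 : ∀ x ∈ T, ∀ y ∈ T, ⁅x, y⁆ ∈ Z[T] := fun x hx y hy =>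
    ph (comm_le_phi pT.isNilpotent (commutator_mem_commutator hx hy))
  have c2 : ∀ x ∈ T, x ^ 2 ∈ Z[T] := fun x hx => ph (pow_mem_phi pT hx)
  obtain ⟨a0, a1, a2⟩ := SetLike.exists_of_lt (lt_of_le_of_ne inf_le_left ZT : Z[T] < T)
  have cm := cn_mem (n r) a1
  obtain ⟨w, hw, h⟩ := exists_rel r5 (n r) (le_cent1_iff.1 ZC) inf_le_left inf_le_right c1 c2 eZ a1 (by
    set q := a0 * cn r a0 1 * cn r a0 2 * cn r a0 3 * cn r a0 4 with hq
    have qT : q ∈ T := mul_mem (mul_mem (mul_mem (mul_mem a1 (cm 1)) (cm 2)) (cm 3)) (cm 4)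
    have e : r * q * r⁻¹ = a0⁻¹ * q * a0 := by
      have : cn r a0 5 = a0 := by simp [cn, r5]
      calc r * q * r⁻¹ = (r * cn r a0 0 * r⁻¹) * (r * cn r a0 1 * r⁻¹) * (r * cn r a0 2 * r⁻¹) *
            (r * cn r a0 3 * r⁻¹) * (r * cn r a0 4 * r⁻¹) := by rw [hq, show cn r a0 0 = a0 by simp [cn]]; group
        _ = _ := by simp only [cn_succ]; rw [this, hq]; group
    have c := card_le two_pos (nZ q) (c2 q qT)
    rcases two (Z[T] ⊔ zpowers q) le_sup_left (sup_le inf_le_left (zpowers_le.2 qT))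
      (nm_sup (nZ r) le_rfl (by
        rw [show ⁅r, q⁆ = ⁅a0⁻¹, q⁆ by rw [commutatorElement_def, e]; group]
        exact c1 _ (inv_mem a1) _ qT) le_sup_left) with e | e
    · exact e.le (mem_sup_right (mem_zpowers q))
    · rw [e] at c; omega)
  have aT := mul_mem a1 hw.1
  have aZ : a0 * w ∉ Z[T] := fun e => a2 ((mul_mem_cancel_right hw).1 e)
  set a := a0 * w
  have Zc : Z[T] ≤ center G := fun z hz => mem_center_iff.2 fun g => mem_centralizer_singleton_iff.1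
    ((sup_le (le_cent1_iff.2 hz.2) (zpowers_le.2 (mem_centralizer_singleton_iff.2
      (mem_centralizer_singleton_iff.1 (ZC hz)).symm)) : T ⊔ zpowers r ≤ C1[z]) ((sup r rT).ge (mem_top g)))
  have gen : closure {a, r} = ⊤ := by
    set H := closure {a, r}
    have aH : a ∈ H := subset_closure (by simp)
    have rH : r ∈ H := subset_closure (by simp)
    have e := (two (H ⊓ T ⊔ Z[T]) le_sup_right (sup_le inf_le_right inf_le_left)
      (le_norm_sup (zpowers_le.2 (le_norm_inf le_normalizer (fun g _ => n g) rH)) (fun g _ => nZ g)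
        (mem_zpowers r))).resolve_left fun e => aZ (e.le (mem_sup_left ⟨aH, aT⟩))
    have e2 : H ⊔ Z[T] = ⊤ := eq_top_iff.2 ((sup r rT).ge.trans (sup_le (e.ge.trans
      (sup_le_sup_right inf_le_left _)) (zpowers_le.2 (mem_sup_left rH))))
    exact eq_top_iff.2 ((sup r rT).ge.trans (sup_le ((cen H _ Zc e2).trans (commutator_le_self H)) (zpowers_le.2 rH)))
  obtain ⟨ψ, p1, p2⟩ := exists_hom h k gen hG
  have pc : ∀ i, ψ (cn r a i) = cn s b i := fun i => by simp [cn, p1, p2]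
  have uZ := c1 a aT _ (cn_mem (n r) aT 1)
  have vZ := c1 a aT _ (cn_mem (n r) aT 2)
  have pu : ψ ⁅a, cn r a 1⁆ ≠ 1 := by rwa [map_commutatorElement, p1, pc]
  have pv : ψ ⁅a, cn r a 2⁆ ≠ 1 := by rwa [map_commutatorElement, p1, pc]
  have ps : ψ (⁅a, cn r a 1⁆ * ⁅a, cn r a 2⁆) ≠ 1 := by rwa [← h.sq_eq, map_pow, p1]
  refine ⟨ψ, ?_, fun g => by
    rw [← p1, ← map_pow]; exact Commute.map (mem_center_iff.1 (Zc (c2 a aT)) g) ψ⟩
  have nK : ∀ g : G, g ∈ N[ψ.ker] := fun g => by rw [normalizer_eq_top]; exact mem_top g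
  have kz : ψ.ker ⊓ Z[T] = ⊥ := by
    by_contra e
    have d : Nat.card (Z[T].map ψ) ≤ 2 := by
      have e1 := card_inf_mul_relIndex ψ.ker Z[T]
      rw [relIndex_ker, cZ] at e1
      have := (one_lt_card_iff_ne_bot _).2 e
      nlinarith
    have := (Nat.card_le_card_of_injective (fun i : Fin 3 => (![⟨1, one_mem _⟩, ⟨_, mem_map_of_mem ψ uZ⟩,
      ⟨_, mem_map_of_mem ψ vZ⟩] i : Z[T].map ψ)) fun i j e => by
        have e := congrArg Subtype.val e
        have q : ψ ⁅a, cn r a 1⁆ ≠ ψ ⁅a, cn r a 2⁆ := fun e => ps (by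
          rw [map_mul, e, ← map_mul, ← sq, h.v2, map_one])
        fin_cases i <;> fin_cases j <;> simp only [Fin.zero_eta, Fin.mk_one, Fin.reduceFinMk, Matrix.cons_val] at e ⊢ <;>
          first | rfl | exact absurd e.symm pu | exact absurd e pu | exact absurd e.symm pv | exact absurd e pv |
            exact absurd e q | exact absurd e.symm q).trans d
    simp at this
  have kt : ψ.ker ⊓ T = ⊥ := by
    rcases two (ψ.ker ⊓ T ⊔ Z[T]) le_sup_right (sup_le inf_le_right inf_le_left)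
      (le_norm_sup (fun g _ => le_norm_inf (fun g _ => nK g) (fun g _ => n g) (mem_top g)) (fun g _ => nZ g)
        (mem_top r)) with e | e
    · exact eq_bot_iff.2 ((le_inf inf_le_left (le_sup_left.trans e.le)).trans kz.le)
    · haveI : (Z[T]).Normal := normalizer_eq_top_iff.1 (eq_top_iff.2 fun g _ => nZ g)
      obtain ⟨x, hx, z, hz, e1⟩ := mem_sup_of_normal_right.1 (e.ge aT)
      refine absurd ?_ pu
      rw [map_commutatorElement, commutatorElement_eq_one_iff_commute, ← e1, map_mul, show ψ x = 1 from hx.1, one_mul,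
        e1]
      exact Commute.map (mem_center_iff.1 (Zc hz) _).symm ψ
  rw [← MonoidHom.ker_eq_bot_iff, eq_bot_iff]
  intro g hg
  by_cases e : g ∈ T
  · exact kt.le ⟨hg, e⟩
  · refine absurd (mem_cent_iff.2 fun t ht => commutatorElement_eq_one_iff_mul_comm.1 (mem_bot.1 (kt.le ⟨?_, ?_⟩))) (nc g e)
    · change ψ ⁅t, g⁆ = 1
      rw [map_commutatorElement, show ψ g = 1 from hg, commutatorElement_one_right]
    · exact commutator_mem_commutator (mem_top _) (mem_top _)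

end CfsgH5.C320
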