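import Cfsg.Agent.H5.SLBasic
import Cfsg.Agent.H9.Comp

/-! Block matrices with a corner entry: centralizers of reflections in linear groups. -/

set_option autoImplicit false

namespace CfsgH5.Ct

open Matrix

variable {F : Type*} [Field F] {m : ℕ}

/-- block diagonal matrix with last entry `c` -/
def blk (A : Matrix (Fin m) (Fin m) F) (c : F) : Matrix (Fin (m + 1)) (Fin (m + 1)) F :=
  of fun i j => Fin.lastCases (Fin.lastCases c (fun _ => 0) j) (fun i => Fin.lastCases 0 (fun j => A i j) j) i

variable (A B : Matrix (Fin m) (Fin m) F) (c d : F)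

@[simp] theorem blk_ll : blk A c (Fin.last m) (Fin.last m) = c := by simp [blk]
@[simp] theorem blk_lc (j : Fin m) : blk A c (Fin.last m) j.castSucc = 0 := by simp [blk]
@[simp] theorem blk_cl (i : Fin m) : blk A c i.castSucc (Fin.last m) = 0 := by simp [blk]
@[simp] theorem blk_cc (i j : Fin m) : blk A c i.castSucc j.castSucc = A i j := by simp [blk]

theorem ext' {M N : Matrix (Fin (m + 1)) (Fin (m + 1)) F} (h1 : M (Fin.last m) (Fin.last m) = N (Fin.last m) (Fin.last m))
    (h2 : ∀ j : Fin m, M (Fin.last m) j.castSucc = N (Fin.last m) j.castSucc)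
    (h3 : ∀ j : Fin m, M j.castSucc (Fin.last m) = N j.castSucc (Fin.last m))
    (h4 : ∀ i j : Fin m, M i.castSucc j.castSucc = N i.castSucc j.castSucc) : M = N := by
  ext i j
  induction i using Fin.lastCases <;> induction j using Fin.lastCases <;> simp [*]

theorem blk_mul : blk A c * blk B d = blk (A * B) (c * d) := by
  refine ext' ?_ ?_ ?_ ?_ <;> simp [mul_apply, Fin.sum_univ_castSucc]

theorem blk_one : blk (1 : Matrix (Fin m) (Fin m) F) 1 = 1 := by
  refine ext' ?_ ?_ ?_ ?_ <;> simp [one_apply, (Fin.castSucc_ne_last _).symm]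

theorem det_blk : (blk A c).det = A.det * c := by
  rw [det_succ_row _ (Fin.last m), Fin.sum_univ_castSucc]
  simp only [blk_lc, mul_zero, zero_mul, Finset.sum_const_zero, zero_add, blk_ll, Fin.succAbove_last]
  rw [show (blk A c).submatrix Fin.castSucc Fin.castSucc = A by ext; simp, ← two_mul, pow_mul]
  simp [mul_comm]

variable {A B c d} in
theorem blk_inj (h : blk A c = blk B d) : A = B ∧ c = d :=
  ⟨by ext i j; simpa using congrFun (congrFun h i.castSucc) j.castSucc,
    by simpa using congrFun (congrFun h (Fin.last m)) (Fin.last m)⟩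

theorem of_comm (h2 : (2 : F) ≠ 0) {M : Matrix (Fin (m + 1)) (Fin (m + 1)) F} (h : blk (-1) 1 * M = M * blk (-1) 1) :
    ∃ A c, M = blk A c := by
  refine ⟨of fun i j => M i.castSucc j.castSucc, M (Fin.last m) (Fin.last m), ext' (by simp) (fun j => ?_) (fun j => ?_)
    (by simp)⟩
  · have := congrFun (congrFun h (Fin.last m)) j.castSucc
    simp [mul_apply, Fin.sum_univ_castSucc, one_apply, apply_ite] at this
    rw [blk_lc]
    exact (mul_eq_zero.1 (by linear_combination this : 2 * M (Fin.last m) j.castSucc = 0)).resolve_left h2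
  · have := congrFun (congrFun h j.castSucc) (Fin.last m)
    simp [mul_apply, Fin.sum_univ_castSucc, one_apply, apply_ite] at this
    rw [blk_cl]
    exact (mul_eq_zero.1 (by linear_combination -this : 2 * M j.castSucc (Fin.last m) = 0)).resolve_left h2

theorem comm_t : blk (-1) 1 * blk A c = blk A c * blk (-1) 1 := by simp [blk_mul]

variable (F m) in
/-- the corner embedding -/
def φ : SpecialLinearGroup (Fin m) F →* SpecialLinearGroup (Fin (m + 1)) F where
  toFun g := ⟨blk g.1 1, by simp [det_blk]⟩
  map_one' := Subtype.ext blk_one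
  map_mul' g h := Subtype.ext (by change blk (g.1 * h.1) 1 = blk g.1 1 * blk h.1 1; rw [blk_mul, one_mul])

theorem φ_coe (g : SpecialLinearGroup (Fin m) F) : (φ F m g).1 = blk g.1 1 := rfl

theorem φ_inj : Function.Injective (φ F m) := fun _ _ h => Subtype.ext (blk_inj (congrArg Subtype.val h)).1

theorem qs_SL [Fintype F] (hm : 2 ≤ m) (h : 3 ≤ m ∨ 4 ≤ Fintype.card F) :
    CfsgH9.QS (⊤ : Subgroup (SpecialLinearGroup (Fin m) F)) := by
  haveI : Nontrivial (Fin m) := Fin.nontrivial_iff_two_le.2 hm
  have : commutator (SpecialLinearGroup (Fin m) F) = ⊤ := by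
    by_cases h3 : 3 ≤ m
    · exact commutator_SL_eq_top (by simpa using h3)
    obtain rfl : m = 2 := by omega
    classical
    obtain ⟨a, ha⟩ : ∃ a : F, a ∉ ({0, 1, -1} : Finset F) := by
      by_contra! k
      have := Finset.card_le_card (show Finset.univ ⊆ ({0, 1, -1} : Finset F) from fun a _ => k a)
      have := (Finset.card_le_three (a := (0 : F)) (b := 1) (c := -1))
      rw [Finset.card_univ] at *
      omega
    simp only [Finset.mem_insert, Finset.mem_singleton, not_or] at ha
    exact SL_eq_top_of_transvections _ fun i j h c => transvection_mem_commutator ha.1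
      (fun e => by rcases mul_self_eq_one_iff.1 ((sq a).symm.trans e) with e | e <;> simp_all) h c
  exact CfsgH9.qs_top.2 ⟨⟨this⟩, PSL_isSimpleGroup_of_perfect this⟩

theorem two_ne [Fintype F] (hF : Odd (Fintype.card F)) : (2 : F) ≠ 0 := fun h => by
  obtain ⟨k, hk⟩ := hF
  have := FiniteField.cast_card_eq_zero F
  rw [hk] at this
  push_cast at this
  simp [h] at this

end CfsgH5.Ct
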