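import Cfsg.Agent.H5.Wr2
import Cfsg.Agent.H8.U3e
import Cfsg.Agent.S0243

/-! The Heisenberg group over the field of four elements. -/

set_option synthInstance.maxSize 100000
set_option synthInstance.maxHeartbeats 400000

namespace CfsgH5.He4
open Function CfsgH5.Wr2 Matrix

variable {B : Type*} [Group B]

abbrev E := (C × C) × (C × C)

def t1 : MulAut E := MulEquiv.mk' (Involutive.toPerm (fun n : E => (n.1, n.1 * n.2)) (by unfold Involutive; decide +kernel))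
  (by decide +kernel)

def t2 : MulAut E := MulEquiv.mk' (Involutive.toPerm (fun n : E => (n.1, (n.1.2, n.1.1 * n.1.2) * n.2))
  (by unfold Involutive; decide +kernel)) (by decide +kernel)

theorem h1 : t1 * t1 = 1 := MulEquiv.ext (by decide +kernel)

abbrev H1 := E ⋊[iv t1 h1] C

def t3 : MulAut H1 := SemidirectProduct.congr t2 (MulEquiv.refl _) fun g => by ext1 n; revert g n; decide +kernel

theorem h3 : t3 * t3 = 1 := MulEquiv.ext (by rintro ⟨a, b⟩; revert a b; decide +kernel)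

abbrev H := H1 ⋊[iv t3 h3] C

theorem cardH : Nat.card H = 64 := by simp [SemidirectProduct.card]

theorem iv_mem {t : B} (h : t * t = 1) {K : Subgroup B} (e : t ∈ K) (c : C) : iv t h c ∈ K := by
  rw [iv_apply]; split_ifs; exacts [one_mem _, e]

theorem genE (S : Subgroup E) (a : ((g, 1), 1) ∈ S) (b : ((1, g), 1) ∈ S) (c : (1, (g, 1)) ∈ S) (d : (1, (1, g)) ∈ S)
    (n : E) : n ∈ S := by
  have k : ∀ {x : E} (_ : x ∈ S) (t : C), (if t = 1 then 1 else x) ∈ S := fun h t => by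
    split_ifs; exacts [one_mem _, h]
  convert mul_mem (mul_mem (k a n.1.1) (k b n.1.2)) (mul_mem (k c n.2.1) (k d n.2.2)) using 1
  revert n
  clear * -
  decide +kernel

theorem hom {a1 a2 b1 b2 z1 z2 : B} (s1 : a1 * a1 = 1) (s2 : a2 * a2 = 1) (s3 : b1 * b1 = 1) (s4 : b2 * b2 = 1)
    (s5 : z1 * z1 = 1) (s6 : z2 * z2 = 1) (ca : Commute a1 a2) (cb : Commute b2 b1)
    (c1 : ∀ u ∈ [a1, a2, b1, b2, z2], Commute u z1) (c2 : ∀ u ∈ [a1, a2, b1, b2], Commute u z2)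
    (r1 : b1 * a1 = a1 * z1 * b1) (r2 : b1 * a2 = a2 * z2 * b1) (r3 : b2 * a1 = a1 * z2 * b2)
    (r4 : b2 * a2 = a2 * (z1 * z2) * b2) (n1 : z1 ≠ 1) (n2 : z2 ≠ 1) (n3 : z1 * z2 ≠ 1) :
    ∃ f : H →* B, Injective f ∧ ∀ K : Subgroup B, a1 ∈ K → a2 ∈ K → b1 ∈ K → b2 ∈ K → z1 ∈ K → z2 ∈ K → ∀ w, f w ∈ K := by
  simp only [List.mem_cons, List.not_mem_nil, or_false, forall_eq_or_imp, forall_eq] at c1 c2
  have g1 : g ≠ 1 := by decide
  let fa := (iv a1 s1).noncommCoprod (iv a2 s2) fun m n => iv_comm s2 (iv_comm s1 ca.symm m).symm n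
  let fz := (iv z1 s5).noncommCoprod (iv z2 s6) fun m n => iv_comm s6 (iv_comm s5 c1.2.2.2.2 m).symm n
  have kz : ∀ u, Commute u z1 → Commute u z2 → ∀ n, Commute u (fz n) := fun u a b n =>
    (iv_comm s5 a n.1).mul_right (iv_comm s6 b n.2)
  let f0 := fa.noncommCoprod fz fun m n => ((iv_comm s1 (kz _ c1.1 c2.1 n).symm m.1).mul_right
    (iv_comm s2 (kz _ c1.2.1 c2.2.1 n).symm m.2)).symm
  have e0 : ∀ p q r s, f0 ((p, q), (r, s)) = iv a1 s1 p * iv a2 s2 q * (iv z1 s5 r * iv z2 s6 s) := fun _ _ _ _ => rfl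
  have k1 : ∀ n, f0 (t1 n) = b1 * f0 n * b1⁻¹ := genE ((f0.comp t1.toMonoidHom).eqLocus ((MulAut.conj b1).toMonoidHom.comp f0))
    (by change f0 ((g, 1), (g, 1)) = b1 * f0 ((g, 1), (1, 1)) * b1⁻¹; simp [e0, iv_apply, g1, r1])
    (by change f0 ((1, g), (1, g)) = b1 * f0 ((1, g), (1, 1)) * b1⁻¹; simp [e0, iv_apply, g1, r2])
    (by change f0 ((1, 1), (g, 1)) = b1 * f0 ((1, 1), (g, 1)) * b1⁻¹; simp [e0, iv_apply, g1, c1.2.2.1.eq])
    (by change f0 ((1, 1), (1, g)) = b1 * f0 ((1, 1), (1, g)) * b1⁻¹; simp [e0, iv_apply, g1, c2.2.2.1.eq])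
  have k2 : ∀ n, f0 (t2 n) = b2 * f0 n * b2⁻¹ := genE ((f0.comp t2.toMonoidHom).eqLocus ((MulAut.conj b2).toMonoidHom.comp f0))
    (by change f0 ((g, 1), (1, g)) = b2 * f0 ((g, 1), (1, 1)) * b2⁻¹; simp [e0, iv_apply, g1, r3])
    (by change f0 ((1, g), (g, g)) = b2 * f0 ((1, g), (1, 1)) * b2⁻¹; simp [e0, iv_apply, g1, r4])
    (by change f0 ((1, 1), (g, 1)) = b2 * f0 ((1, 1), (g, 1)) * b2⁻¹; simp [e0, iv_apply, g1, c1.2.2.2.1.eq])
    (by change f0 ((1, 1), (1, g)) = b2 * f0 ((1, 1), (1, g)) * b2⁻¹; simp [e0, iv_apply, g1, c2.2.2.2.eq])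
  refine ⟨Wr2.ext (Wr2.ext f0 b1 s3 k1) b2 s4 fun ⟨n, c⟩ => ?_, inj (IsPGroup.of_card (n := 6) cardH) _ fun w hw e => ?_,
    fun K m1 m2 m3 m4 m5 m6 ⟨⟨((p, q), (r, s)), c⟩, d⟩ => mul_mem (mul_mem (mul_mem (mul_mem (iv_mem s1 m1 p) (iv_mem s2 m2 q))
      (mul_mem (iv_mem s5 m5 r) (iv_mem s6 m6 s))) (iv_mem s3 m3 c)) (iv_mem s4 m4 d)⟩
  · change f0 (t2 n) * iv b1 s3 c = b2 * (f0 n * iv b1 s3 c) * b2⁻¹
    rw [k2, mul_assoc _ b2⁻¹, (iv_comm s3 cb.inv_left c).eq]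
    group
  have : ∀ w : H, (⟨⟨((g, 1), 1), 1⟩, 1⟩ * w = w * ⟨⟨((g, 1), 1), 1⟩, 1⟩) → (⟨⟨1, g⟩, 1⟩ * w = w * ⟨⟨1, g⟩, 1⟩) →
      w = 1 ∨ w = ⟨⟨((1, 1), (g, 1)), 1⟩, 1⟩ ∨ w = ⟨⟨((1, 1), (1, g)), 1⟩, 1⟩ ∨ w = ⟨⟨((1, 1), (g, g)), 1⟩, 1⟩ := by
    rintro ⟨⟨a, b⟩, c⟩
    revert a b c
    decide +kernel
  rcases this w (hw _) (hw _) with h | rfl | rfl | rfl
  · exact h
  all_goals
    change f0 _ * 1 * 1 = 1 at e
    simp [e0, iv_apply, g1, n1, n2, n3] at e

def UT {F : Type*} [Field F] (x y z : F) : SpecialLinearGroup (Fin 3) F :=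
  ⟨!![1, x, z; 0, 1, y; 0, 0, 1], by simp [det_fin_three]⟩

theorem UT_mul {F : Type*} [Field F] (x y z x' y' z' : F) :
    UT x y z * UT x' y' z' = UT (x + x') (y + y') (z + z' + x * y') := by
  refine Subtype.ext ?_
  change !![1, x, z; 0, 1, y; 0, 0, 1] * !![1, x', z'; 0, 1, y'; 0, 0, 1] =
    !![1, x + x', z + z' + x * y'; 0, 1, y + y'; 0, 0, 1]
  ext i j; fin_cases i <;> fin_cases j <;> simp [Matrix.mul_apply, Fin.sum_univ_three] <;> ring

theorem syl {F : Type} [Field F] [Fintype F] (hF : Fintype.card F = 4)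
    (S : Sylow 2 (ProjectiveSpecialLinearGroup (Fin 3) F)) : Nonempty (S ≃* H) := by
  haveI : CharP F 2 := charP_of_card_eq_prime_pow (p := 2) (f := 2) hF
  haveI : Fact (Nat.Prime 3) := ⟨by norm_num⟩
  obtain ⟨u, hu⟩ := exists_prime_orderOf_dvd_card' (G := Fˣ) 3 (by rw [Nat.card_units, Nat.card_eq_fintype_card, hF])
  have hζ : IsPrimitiveRoot (u : F) 3 := IsPrimitiveRoot.coe_units_iff.2 (hu ▸ IsPrimitiveRoot.orderOf u)
  generalize (u : F) = w at hζ
  have hw := hζ.geom_sum_eq_zero (by norm_num)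
  simp only [Finset.sum_range_succ, Finset.sum_range_zero] at hw
  have two : (2 : F) = 0 := CharTwo.two_eq_zero
  let π : SpecialLinearGroup (Fin 3) F →* ProjectiveSpecialLinearGroup (Fin 3) F := QuotientGroup.mk' _
  let V : F → F → F → ProjectiveSpecialLinearGroup (Fin 3) F := fun x y z => π (UT x y z)
  have m : ∀ x y z x' y' z', V x y z * V x' y' z' = V (x + x') (y + y') (z + z' + x * y') := fun _ _ _ _ _ _ => by
    simp only [V]; rw [← map_mul, UT_mul]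
  have o : 1 = V 0 0 0 := by
    rw [← map_one π]; congr 1
    ext i j; fin_cases i <;> fin_cases j <;> simp [UT]
  have n : ∀ z, z ≠ 0 → V 0 0 z ≠ 1 := fun z hz e => by
    obtain ⟨r, -, hr⟩ := Matrix.SpecialLinearGroup.mem_center_iff.1 ((QuotientGroup.eq_one_iff (UT 0 0 z)).1 e)
    exact hz (by simpa [UT] using (congrFun (congrFun hr 0) 2).symm)
  clear_value V
  have ee : ∀ {x y z x' y' z'}, x = x' ∧ y = y' ∧ z = z' → V x y z = V x' y' z' := fun ⟨a, b, c⟩ => by rw [a, b, c]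
  obtain ⟨f, hf, -⟩ := hom (a1 := V 1 0 0) (a2 := V w 0 0) (b1 := V 0 1 0) (b2 := V 0 w 0) (z1 := V 0 0 1) (z2 := V 0 0 w)
    (by rw [m, o]; exact ee (by clear * - two hw; grind))
    (by rw [m, o]; exact ee (by clear * - two hw; grind))
    (by rw [m, o]; exact ee (by clear * - two hw; grind))
    (by rw [m, o]; exact ee (by clear * - two hw; grind))
    (by rw [m, o]; exact ee (by clear * - two hw; grind))
    (by rw [m, o]; exact ee (by clear * - two hw; grind))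
    (by simp [commute_iff_eq, m, add_comm]) (by simp [commute_iff_eq, m, add_comm]) (by simp [commute_iff_eq, m, add_comm])
    (by simp [commute_iff_eq, m, add_comm])
    (by simp only [m]; exact ee (by clear * - two hw; grind))
    (by simp only [m]; exact ee (by clear * - two hw; grind))
    (by simp only [m]; exact ee (by clear * - two hw; grind))
    (by simp only [m]; exact ee (by clear * - two hw; grind)) (n _ one_ne_zero) (n _ (by clear * - two hw; grind))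
    (by rw [m, add_zero]; exact n _ (by clear * - two hw; grind))
  have c := Cfsg.Agent.S0243.result hF 3 (by norm_num)
  simp only [Fin.prod_univ_three] at c
  exact CfsgH8.sylow_iso_of_inj f hf (IsPGroup.of_card (n := 6) cardH) (a := 1) (m := 315) (by
    rw [cardH]; norm_num at c; omega) (by norm_num) _

end CfsgH5.He4
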