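import Cfsg.Agent.H5.Fm2

set_option autoImplicit false

/-!
Maximal subgroups of classical groups, part 1: the calculus of Eichler transformations in a subgroup.
-/

namespace CfsgH5.Mx

open Module CForm

universe u v

variable {F : Type u} [Field F] {P : FP F} {V : Type v} [AddCommGroup V] [Module F V]
  [FiniteDimensional F V] {f : CForm P V}

theorem fr_sup (U W : Submodule F V) : finrank F (U ⊔ W : Submodule F V) ≤ finrank F U + finrank F W := by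
  have := Submodule.finrank_sup_add_finrank_inf_eq U W; omega

theorem fr_line (U : Submodule F V) (x : V) : finrank F (U ⊔ F ∙ x : Submodule F V) ≤ finrank F U + 1 :=
  (fr_sup _ _).trans (Nat.add_le_add_left (Au.finrank_line_le x) _)

theorem fr_perp (hf : f.Nondeg) (Y U : Submodule F V) :
    finrank F Y ≤ finrank F (Y ⊓ f.perp U : Submodule F V) + finrank F U := by
  have := Submodule.finrank_sup_add_finrank_inf_eq Y (f.perp U)
  have := hf.finrank_perp U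
  have := Submodule.finrank_le (Y ⊔ f.perp U)
  omega

theorem exists_disj (W U : Submodule F V) :
    ∃ C ≤ W, C ⊓ U = ⊥ ∧ finrank F W ≤ finrank F C + finrank F U := by
  obtain ⟨C, hC⟩ := Submodule.exists_isCompl (U.comap W.subtype)
  refine ⟨C.map W.subtype, Submodule.map_subtype_le _ _, ?_, ?_⟩
  · rw [eq_bot_iff]
    rintro _ ⟨⟨c, hc, rfl⟩, h⟩
    have : c ∈ U.comap W.subtype ⊓ C := ⟨h, hc⟩
    rw [hC.inf_eq_bot] at this
    simpa using this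
  · rw [Submodule.finrank_map_subtype_eq, ← Submodule.finrank_add_eq_of_isCompl hC, add_comm,
      ← Submodule.finrank_map_subtype_eq W (U.comap _), Submodule.map_comap_subtype]
    exact Nat.add_le_add_left (Submodule.finrank_mono inf_le_right) _

theorem exists_not_mem {W U : Submodule F V} (h : finrank F U < finrank F W) : ∃ w ∈ W, w ∉ U :=
  SetLike.not_le_iff_exists.1 fun k => absurd (Submodule.finrank_mono k) (by omega)

omit [FiniteDimensional F V] in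
theorem exchange {X : Submodule F V} {u z : V} (hu : u ∉ X) (h : u ∈ X ⊔ F ∙ z) : z ∈ X ⊔ F ∙ u := by
  obtain ⟨x, hx, _, hz, rfl⟩ := Submodule.mem_sup.1 h
  obtain ⟨a, rfl⟩ := Submodule.mem_span_singleton.1 hz
  have ha : a ≠ 0 := by rintro rfl; simp [hx] at hu
  refine Submodule.mem_sup.2 ⟨-(a⁻¹ • x), X.neg_mem (X.smul_mem _ hx), _,
    Submodule.mem_span_singleton.2 ⟨a⁻¹, rfl⟩, ?_⟩
  simp [smul_smul, ha]

omit [FiniteDimensional F V] in
theorem perp_sup_line {X : Submodule F V} {u z : V} :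
    (∀ w ∈ X ⊔ F ∙ u, f.B w z = 0) ↔ (∀ w ∈ X, f.B w z = 0) ∧ f.B u z = 0 := by
  rw [← f.mem_perp', f.perp_sup, Submodule.mem_inf, f.mem_perp', mem_perp_single, f.B_eq_zero_comm]

omit [FiniteDimensional F V] in
theorem perp_line {u z : V} : (∀ w ∈ F ∙ u, f.B w z = 0) ↔ f.B u z = 0 := by
  rw [← f.mem_perp', mem_perp_single, f.B_eq_zero_comm]

variable (f) in
/-- every three-dimensional subspace has a singular vector -/
def I3 : Prop := ∀ W : Submodule F V, 3 ≤ finrank F W → ∃ z ∈ W, z ≠ 0 ∧ f.Q z = 0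

omit [FiniteDimensional F V] in
theorem I3.res (h : I3 f) (Y : Submodule F V) : I3 (f.res Y) := fun W hW => by
  obtain ⟨_, ⟨z, hz, rfl⟩, h1, h2⟩ := h (W.map Y.subtype) (by rwa [Submodule.finrank_map_subtype_eq])
  exact ⟨z, hz, by rintro rfl; simp at h1, h2⟩

theorem I3.sing (h : I3 f) (hf : f.Nondeg) (Y U X : Submodule F V)
    (hd : finrank F U + finrank F X + 3 ≤ finrank F Y) :
    ∃ z ∈ Y, z ∉ X ∧ f.Q z = 0 ∧ ∀ u ∈ U, f.B u z = 0 := by
  obtain ⟨C, h1, h2, h3⟩ := exists_disj (Y ⊓ f.perp U) X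
  have := fr_perp hf Y U
  obtain ⟨z, hz, h0, hQ⟩ := h C (by omega)
  exact ⟨z, (h1 hz).1, fun k => h0 (h2.le ⟨hz, k⟩), hQ, f.mem_perp'.1 (h1 hz).2⟩

theorem I3.hyp (h : I3 f) (hf : f.Nondeg) (X : Submodule F V) (hd : 2 * finrank F X + 3 ≤ finrank F V) :
    ∃ x y, f.IsHyp x y ∧ (∀ w ∈ X, f.B w x = 0) ∧ ∀ w ∈ X, f.B w y = 0 := by
  obtain ⟨x, -, h1, h2, h3⟩ := h.sing hf ⊤ X X (by rw [finrank_top]; omega)
  obtain ⟨y, h4, h5⟩ := hf.exists_hyp h2 h1 h3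
  exact ⟨x, y, h4, h3, h5⟩

theorem conn (h3 : I3 f) (hf : f.Nondeg) (X : Submodule F V) (hd : 2 * finrank F X + 7 ≤ finrank F V)
    (A : AddSubgroup V) {u₀ : V} (h0 : u₀ ∈ A) (hX : u₀ ∉ X)
    (hA : ∀ u ∈ A, (u = u₀ ∨ f.Q u = 0) → ∀ z, f.Q z = 0 → (∀ w ∈ X, f.B w z = 0) → f.B u z = 0 →
      u ∉ X ⊔ F ∙ z → z ∈ A) (v : V) (hv : ∀ w ∈ X, f.B w v = 0) : v ∈ A := by
  have key : ∀ y, f.Q y = 0 → (∀ w ∈ X, f.B w y = 0) → y ∈ A := fun y hy hy' => by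
    have := fr_line (X ⊔ F ∙ u₀) y
    have := fr_line X u₀
    obtain ⟨z, -, h1, h2, h4⟩ := h3.sing hf ⊤ ((X ⊔ F ∙ u₀) ⊔ F ∙ y) ((X ⊔ F ∙ u₀) ⊔ F ∙ y)
      (by rw [finrank_top]; omega)
    rw [perp_sup_line, perp_sup_line] at h4
    exact hA z (hA u₀ h0 (.inl rfl) z h2 h4.1.1 h4.1.2 fun k => h1 (Submodule.mem_sup_left (exchange hX k)))
      (.inr h2) y hy hy' (f.B_zero_symm h4.2) fun k => h1 (SetLike.le_def.1 (sup_le_sup_right le_sup_left _) k)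
  have := fr_line X v
  obtain ⟨x, y, h, hx, hy⟩ := h3.hyp hf (X ⊔ F ∙ v) (by omega)
  rw [perp_sup_line] at hx hy
  obtain ⟨c, hc⟩ := f.exists_t v
  have e : v = ((1 : F) • x + (-P.σ c) • y + v) - x + P.σ c • y := by module
  rw [e]
  refine A.add_mem (A.sub_mem (key _ ?_ fun w hw => ?_) (key x h.hx hx.1)) (key _ ?_ fun w hw => ?_)
  · rw [h.Q_comb _ _ hx.2 hy.2]; simp [hc]
  · simp [hx.1 w hw, hy.1 w hw, hv w hw]
  · rw [f.Q_smul, h.hy, mul_zero]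
  · simp [hy.1 w hw]

theorem span_perp (h3 : I3 f) (hf : f.Nondeg) (X : Submodule F V) (hd : 2 * finrank F X + 7 ≤ finrank F V)
    (A : AddSubgroup V) {u₀ : V} (h0 : u₀ ∈ A) (hX : u₀ ∉ X)
    (hA : ∀ u ∈ A, ∀ g z b c, f.IsEich g z b c → (∀ w ∈ X, f.B w z = 0) → (∀ w ∈ X, f.B w b = 0) → g u ∈ A)
    (v : V) (hv : ∀ w ∈ X, f.B w v = 0) : v ∈ A := by
  refine conn h3 hf X hd A h0 hX (fun u hu _ z hz h1 h2 h4 => ?_) v hv
  obtain ⟨b, k1, k2⟩ := hf.exists_dual h4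
  rw [perp_sup_line] at k2
  obtain ⟨c, hc⟩ := f.exists_t b
  obtain ⟨g, hg⟩ := exists_eich hz (f.B_zero_symm k2.2) hc
  have := hA u hu g z b c hg h1 k2.1
  rw [hg.app_perp h2, k1, one_smul] at this
  exact (A.add_mem_cancel_left hu).1 this

/-- `E` is irreducible, even on additive subgroups -/
theorem E_irred (h3 : I3 f) (hf : f.Nondeg) (hd : 7 ≤ finrank F V) (A : AddSubgroup V) {u : V} (h0 : u ∈ A)
    (hu : u ≠ 0) (hA : ∀ g ∈ f.E, ∀ u ∈ A, g u ∈ A) (v : V) : v ∈ A :=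
  span_perp h3 hf ⊥ (by simpa using hd) A h0 (by simpa using hu)
    (fun u hu g _ _ _ hg _ _ => hA g hg.mem_E u hu) v (by simp)

section Calc

omit [FiniteDimensional F V]

variable (f) in
/-- vectors `a` such that `K` contains an Eichler transformation with data `x, a` -/
def RA (K : Subgroup (V ≃ₗ[F] V)) (x : V) (hx : f.Q x = 0) : AddSubgroup V where
  carrier := {a | ∃ g ∈ K, ∃ c, f.IsEich g x a c}
  add_mem' := fun ⟨_, h, _, k⟩ ⟨_, h', _, k'⟩ => ⟨_, mul_mem h h', _, k.mul k'⟩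
  zero_mem' := ⟨1, one_mem _, _, isEich_one hx⟩
  neg_mem' := fun ⟨_, h, _, k⟩ => ⟨_, inv_mem h, _, k.inv⟩

variable {K : Subgroup (V ≃ₗ[F] V)} {x : V}

theorem RA_map {hx : f.Q x = 0} {a : V} (ha : a ∈ RA f K x hx) {k : V ≃ₗ[F] V} (hk : k ∈ K)
    (hk' : k ∈ f.Isom) (e : k x = x) : k a ∈ RA f K x hx := by
  obtain ⟨g, h1, c, h2⟩ := ha
  exact ⟨_, mul_mem (mul_mem hk h1) (inv_mem hk), c, by simpa [e] using h2.conj hk'⟩

theorem mem_RA (hx : f.Q x = 0) {a : V} (ha : f.B a x = 0) (h : ∀ g c, f.IsEich g x a c → g ∈ K) :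
    a ∈ RA f K x hx := by
  obtain ⟨c, hc⟩ := f.exists_t a
  obtain ⟨g, hg⟩ := exists_eich hx ha hc
  exact ⟨g, h g c hg, c, hg⟩

variable (f) in
/-- `K` contains all Eichler transformations with centre `x` -/
def Full (K : Subgroup (V ≃ₗ[F] V)) (x : V) : Prop := ∀ g a c, f.IsEich g x a c → g ∈ K

theorem full_of (hx : f.Q x = 0) (h1 : ∀ a, f.B a x = 0 → a ∈ RA f K x hx)
    (h2 : ∀ g c, f.IsEich g x 0 c → g ∈ K) : Full f K x := fun g a c hg => by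
  obtain ⟨g', k1, d, k2⟩ := h1 a hg.ha
  have := h2 _ _ (by simpa using hg.mul k2.inv)
  simpa using mul_mem this k1

theorem Full.map (h : Full f K x) {k : V ≃ₗ[F] V} (hk : k ∈ K) (hk' : k ∈ f.Isom) : Full f K (k x) :=
  fun g a c hg => mem_of_conj_mem (inv_mem hk) (h _ _ _ (by simpa using hg.conj (inv_mem hk')))

theorem Full.smul (h : Full f K x) (hx : f.Q x = 0) {l : F} (hl : l ≠ 0) : Full f K (l • x) :=
  fun g a c hg => h _ _ _ (hg.smul hx (by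
    have := hg.ha
    simpa [hl] using this))

theorem Full.of_B (h : Full f K x) {y z : V} (k : Full f K y) (hx : f.Q x = 0) (hy : f.Q y = 0)
    (hz : f.Q z = 0) (h1 : f.B x y ≠ 0) (h2 : f.B x z ≠ 0) : Full f K z := by
  obtain ⟨g, a, c, l, k1, hl, k2, -⟩ := exists_eich_line hx hz hy h2 h1
  have := (k.map (h _ _ _ k1) k1.mem_Isom).smul (by rw [f.Isom_Q k1.mem_Isom, hy]) (inv_ne_zero hl)
  rwa [k2, smul_smul, inv_mul_cancel₀ hl, one_smul] at this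

end Calc

variable {K : Subgroup (V ≃ₗ[F] V)} {x : V}

theorem E_le_of_full (hf : f.Nondeg) {y : V} (h : Full f K x) (k : Full f K y) (hx : f.Q x = 0)
    (hy : f.Q y = 0) (hxy : f.B x y ≠ 0) : f.E ≤ K := by
  refine E_le fun g z a c hg => ?_
  by_cases hz : z = 0
  · subst hz; rw [hg.eq_one_of_x_zero]; exact one_mem _
  by_cases h1 : f.B x z = 0
  · obtain ⟨w, h2, h3, h4⟩ := exists_sing_nonperp hf hx (by rintro rfl; simp at hxy) hz h1
    exact (h.of_B k hx hy h2 hxy (fun e => h3 (f.B_zero_symm e))).of_B h h2 hx hg.hx h3 h4 _ _ _ hg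
  · exact h.of_B k hx hy hg.hx hxy h1 _ _ _ hg

/-- moving a singular vector to a non-perpendicular one while fixing `W` -/
theorem exists_move {u y a : V} {c : F} (h : f.IsHyp u y) (hc : c ≠ 0) (h1 : P.t c = f.Q a)
    (h2 : f.B a u = 0) (h3 : f.B a y = 0) : ∃ g, f.IsEich g y a c ∧ f.B u (g u) ≠ 0 := by
  obtain ⟨g, hg⟩ := exists_eich h.hy h3 h1
  refine ⟨g, hg, ?_⟩
  simp [hg.app, h.hxx, h.hxy, f.B_zero_symm h2, hc, P.ε_ne]

/-- maximal parabolic subgroups -/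
theorem max_TS (hf : f.Nondeg) {W : Submodule F V} (hW : f.TS W)
    (hr : ∀ u y, f.IsHyp u y → (∀ w ∈ W, f.B w u = 0) → (∀ w ∈ W, f.B w y = 0) →
      ∃ a c, c ≠ 0 ∧ P.t c = f.Q a ∧ f.B a u = 0 ∧ f.B a y = 0 ∧ ∀ w ∈ W, f.B w a = 0)
    (hK : stabS F (W : Set V) ⊓ f.E ≤ K) {g : V ≃ₗ[F] V} (hg : g ∈ K) (hg' : g ∈ f.Isom)
    (hn : g ∉ stabS F (W : Set V)) : f.E ≤ K := by
  have h1 : ∀ w ∈ W, Full f K w := fun w hw s a c hs => hK ⟨mem_stabS_of_le fun v hv => by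
    rw [hs.app_perp (hW.2 v hv w hw)]; exact W.add_mem hv (W.smul_mem _ hw), hs.mem_E⟩
  obtain ⟨w, hw, hu⟩ : ∃ w ∈ W, g w ∉ W := by
    by_contra hc; push Not at hc; exact hn (mem_stabS_of_le hc)
  have h2 := (h1 w hw).map hg hg'
  have h3 : f.Q (g w) = 0 := by rw [f.Isom_Q hg', hW.1 w hw]
  by_cases h4 : ∀ v ∈ W, f.B v (g w) = 0
  · obtain ⟨y, hy, h5⟩ := hf.exists_hyp h3 hu h4
    obtain ⟨a, c, k1, k2, k3, k4, k5⟩ := hr _ y hy h4 h5
    obtain ⟨s, hs, k⟩ := exists_move hy k1 k2 k3 k4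
    exact E_le_of_full hf h2 (h2.map (hK ⟨fixS_le_stabS _ fun v hv => hs.fix (h5 v hv) (k5 v hv), hs.mem_E⟩)
      hs.mem_Isom) h3 (by rw [f.Isom_Q hs.mem_Isom, h3]) k
  · push Not at h4
    obtain ⟨v, hv, k⟩ := h4
    exact E_le_of_full hf (h1 v hv) h2 (hW.1 v hv) h3 k

theorem not_stab (h3 : I3 f) (hf : f.Nondeg) (hd : 7 ≤ finrank F V) {W : Submodule F V} (h0 : W ≠ ⊥)
    (h1 : W ≠ ⊤) : ¬ f.E ≤ stabS F (W : Set V) := fun h => by
  obtain ⟨u, hu, hu0⟩ := (Submodule.ne_bot_iff _).1 h0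
  exact h1 (eq_top_iff.2 fun v _ =>
    E_irred h3 hf hd W.toAddSubgroup hu hu0 (fun g hg w hw => (h hg w).1 hw) v)

end CfsgH5.Mx
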