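import Cfsg.Agent.H5.Wr6
import Cfsg.Prelude.Def_G2

set_option autoImplicit false

/-! Identities in the split octonion algebra. -/

namespace CfsgH5.Oc

open Cfsg.Lie Module CfsgH5.CForm

universe u

variable {F : Type u} [Field F]

theorem z0 (x y : Fin 8 → F) : zornMul x y 0 = x 0 * y 0 + (x 1 * y 4 + x 2 * y 5 + x 3 * y 6) := rfl
theorem z1 (x y : Fin 8 → F) : zornMul x y 1 = x 0 * y 1 + y 7 * x 1 - (x 5 * y 6 - x 6 * y 5) := rfl
theorem z2 (x y : Fin 8 → F) : zornMul x y 2 = x 0 * y 2 + y 7 * x 2 - (x 6 * y 4 - x 4 * y 6) := rfl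
theorem z3 (x y : Fin 8 → F) : zornMul x y 3 = x 0 * y 3 + y 7 * x 3 - (x 4 * y 5 - x 5 * y 4) := rfl
theorem z4 (x y : Fin 8 → F) : zornMul x y 4 = y 0 * x 4 + x 7 * y 4 + (x 2 * y 3 - x 3 * y 2) := rfl
theorem z5 (x y : Fin 8 → F) : zornMul x y 5 = y 0 * x 5 + x 7 * y 5 + (x 3 * y 1 - x 1 * y 3) := rfl
theorem z6 (x y : Fin 8 → F) : zornMul x y 6 = y 0 * x 6 + x 7 * y 6 + (x 1 * y 2 - x 2 * y 1) := rfl
theorem z7 (x y : Fin 8 → F) : zornMul x y 7 = x 4 * y 1 + x 5 * y 2 + x 6 * y 3 + x 7 * y 7 := rfl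

theorem ext8 {x y : Fin 8 → F} (h0 : x 0 = y 0) (h1 : x 1 = y 1) (h2 : x 2 = y 2) (h3 : x 3 = y 3) (h4 : x 4 = y 4)
    (h5 : x 5 = y 5) (h6 : x 6 = y 6) (h7 : x 7 = y 7) : x = y := by
  ext i; fin_cases i <;> assumption

/-- The product as a bilinear map. -/
def m : (Fin 8 → F) →ₗ[F] (Fin 8 → F) →ₗ[F] (Fin 8 → F) :=
  LinearMap.mk₂ F zornMul
    (fun _ _ _ => by apply ext8 <;> simp only [z0, z1, z2, z3, z4, z5, z6, z7, Pi.add_apply] <;> ring)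
    (fun _ _ _ => by apply ext8 <;> simp only [z0, z1, z2, z3, z4, z5, z6, z7, Pi.smul_apply, smul_eq_mul] <;> ring)
    (fun _ _ _ => by apply ext8 <;> simp only [z0, z1, z2, z3, z4, z5, z6, z7, Pi.add_apply] <;> ring)
    (fun _ _ _ => by apply ext8 <;> simp only [z0, z1, z2, z3, z4, z5, z6, z7, Pi.smul_apply, smul_eq_mul] <;> ring)

theorem m_apply (x y : Fin 8 → F) : m x y = zornMul x y := rfl

/-- The unit. -/
def e1 : Fin 8 → F := ![1, 0, 0, 0, 0, 0, 0, 1]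

/-- Conjugation. -/
def cj : (Fin 8 → F) →ₗ[F] (Fin 8 → F) where
  toFun x := ![x 7, -x 1, -x 2, -x 3, -x 4, -x 5, -x 6, x 0]
  map_add' x y := by apply ext8 <;> simp <;> ring
  map_smul' x y := by apply ext8 <;> simp

theorem c0 (x : Fin 8 → F) : cj x 0 = x 7 := rfl
theorem c1 (x : Fin 8 → F) : cj x 1 = -x 1 := rfl
theorem c2 (x : Fin 8 → F) : cj x 2 = -x 2 := rfl
theorem c3 (x : Fin 8 → F) : cj x 3 = -x 3 := rfl
theorem c4 (x : Fin 8 → F) : cj x 4 = -x 4 := rfl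
theorem c5 (x : Fin 8 → F) : cj x 5 = -x 5 := rfl
theorem c6 (x : Fin 8 → F) : cj x 6 = -x 6 := rfl
theorem c7 (x : Fin 8 → F) : cj x 7 = x 0 := rfl
theorem u0 : (e1 : Fin 8 → F) 0 = 1 := rfl
theorem u1 : (e1 : Fin 8 → F) 1 = 0 := rfl
theorem u2 : (e1 : Fin 8 → F) 2 = 0 := rfl
theorem u3 : (e1 : Fin 8 → F) 3 = 0 := rfl
theorem u4 : (e1 : Fin 8 → F) 4 = 0 := rfl
theorem u5 : (e1 : Fin 8 → F) 5 = 0 := rfl
theorem u6 : (e1 : Fin 8 → F) 6 = 0 := rfl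
theorem u7 : (e1 : Fin 8 → F) 7 = 1 := rfl

variable (F) in
/-- The norm form. -/
def oF : CForm (FP.orth F) (Fin 8 → F) where
  B x y := x 0 * y 7 + x 7 * y 0 - (x 1 * y 4 + x 4 * y 1 + x 2 * y 5 + x 5 * y 2 + x 3 * y 6 + x 6 * y 3)
  Q x := x 0 * x 7 - (x 1 * x 4 + x 2 * x 5 + x 3 * x 6)
  B_add_left u v w := by simp; ring
  B_smul_left a u w := by simp; ring
  B_symm u v := by simp; ring
  Q_add u v := by simp; ring
  Q_smul a v := by simp; ring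
  Q_diag v := ⟨v 0 * v 7 - (v 1 * v 4 + v 2 * v 5 + v 3 * v 6), rfl, by simp; ring⟩

theorem oB (x y : Fin 8 → F) : (oF F).B x y =
    x 0 * y 7 + x 7 * y 0 - (x 1 * y 4 + x 4 * y 1 + x 2 * y 5 + x 5 * y 2 + x 3 * y 6 + x 6 * y 3) := rfl
theorem oQ (x : Fin 8 → F) : (oF F).Q x = x 0 * x 7 - (x 1 * x 4 + x 2 * x 5 + x 3 * x 6) := rfl

theorem oF_nondeg : (oF F).Nondeg := fun v hv => by
  have h := fun i => hv (Pi.single i 1)
  apply ext8
  exacts [by simpa [oB] using h 7, by simpa [oB] using h 4, by simpa [oB] using h 5, by simpa [oB] using h 6,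
    by simpa [oB] using h 1, by simpa [oB] using h 2, by simpa [oB] using h 3, by simpa [oB] using h 0]

variable (x y z : Fin 8 → F)

theorem one_m : m e1 x = x := by
  apply ext8 <;> simp only [m_apply, z0, z1, z2, z3, z4, z5, z6, z7, c0, c1, c2, c3, c4, c5, c6, c7,
    u0, u1, u2, u3, u4, u5, u6, u7, oB, oQ, Pi.add_apply, Pi.sub_apply, Pi.smul_apply, smul_eq_mul] <;> ring
theorem m_one : m x e1 = x := by
  apply ext8 <;> simp only [m_apply, z0, z1, z2, z3, z4, z5, z6, z7, c0, c1, c2, c3, c4, c5, c6, c7,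
    u0, u1, u2, u3, u4, u5, u6, u7, oB, oQ, Pi.add_apply, Pi.sub_apply, Pi.smul_apply, smul_eq_mul] <;> ring
theorem l_lin : m x (m (cj y) z) + m y (m (cj x) z) = (oF F).B x y • z := by
  apply ext8 <;> simp only [m_apply, z0, z1, z2, z3, z4, z5, z6, z7, c0, c1, c2, c3, c4, c5, c6, c7,
    u0, u1, u2, u3, u4, u5, u6, u7, oB, oQ, Pi.add_apply, Pi.sub_apply, Pi.smul_apply, smul_eq_mul] <;> ring
theorem r_lin : m (m z (cj y)) x + m (m z (cj x)) y = (oF F).B x y • z := by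
  apply ext8 <;> simp only [m_apply, z0, z1, z2, z3, z4, z5, z6, z7, c0, c1, c2, c3, c4, c5, c6, c7,
    u0, u1, u2, u3, u4, u5, u6, u7, oB, oQ, Pi.add_apply, Pi.sub_apply, Pi.smul_apply, smul_eq_mul] <;> ring
theorem l_inv : m (cj x) (m x z) = (oF F).Q x • z := by
  apply ext8 <;> simp only [m_apply, z0, z1, z2, z3, z4, z5, z6, z7, c0, c1, c2, c3, c4, c5, c6, c7,
    u0, u1, u2, u3, u4, u5, u6, u7, oB, oQ, Pi.add_apply, Pi.sub_apply, Pi.smul_apply, smul_eq_mul] <;> ring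
theorem l_inv' : m x (m (cj x) z) = (oF F).Q x • z := by
  apply ext8 <;> simp only [m_apply, z0, z1, z2, z3, z4, z5, z6, z7, c0, c1, c2, c3, c4, c5, c6, c7,
    u0, u1, u2, u3, u4, u5, u6, u7, oB, oQ, Pi.add_apply, Pi.sub_apply, Pi.smul_apply, smul_eq_mul] <;> ring
theorem r_inv : m (m z x) (cj x) = (oF F).Q x • z := by
  apply ext8 <;> simp only [m_apply, z0, z1, z2, z3, z4, z5, z6, z7, c0, c1, c2, c3, c4, c5, c6, c7,
    u0, u1, u2, u3, u4, u5, u6, u7, oB, oQ, Pi.add_apply, Pi.sub_apply, Pi.smul_apply, smul_eq_mul] <;> ring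
theorem r_inv' : m (m z (cj x)) x = (oF F).Q x • z := by
  apply ext8 <;> simp only [m_apply, z0, z1, z2, z3, z4, z5, z6, z7, c0, c1, c2, c3, c4, c5, c6, c7,
    u0, u1, u2, u3, u4, u5, u6, u7, oB, oQ, Pi.add_apply, Pi.sub_apply, Pi.smul_apply, smul_eq_mul] <;> ring
theorem Q_m : (oF F).Q (m x y) = (oF F).Q x * (oF F).Q y := by
  simp only [m_apply, z0, z1, z2, z3, z4, z5, z6, z7, c0, c1, c2, c3, c4, c5, c6, c7,
    u0, u1, u2, u3, u4, u5, u6, u7, oB, oQ, Pi.add_apply, Pi.sub_apply, Pi.smul_apply, smul_eq_mul]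
  ring
theorem B_m : (oF F).B (m x z) (m y z) = (oF F).B x y * (oF F).Q z := by
  simp only [m_apply, z0, z1, z2, z3, z4, z5, z6, z7, c0, c1, c2, c3, c4, c5, c6, c7,
    u0, u1, u2, u3, u4, u5, u6, u7, oB, oQ, Pi.add_apply, Pi.sub_apply, Pi.smul_apply, smul_eq_mul]
  ring
theorem cj_m : cj (m x y) = m (cj y) (cj x) := by
  apply ext8 <;> simp only [m_apply, z0, z1, z2, z3, z4, z5, z6, z7, c0, c1, c2, c3, c4, c5, c6, c7,
    u0, u1, u2, u3, u4, u5, u6, u7, oB, oQ, Pi.add_apply, Pi.sub_apply, Pi.smul_apply, smul_eq_mul] <;> ring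
theorem cj_cj : cj (cj x) = x := by
  apply ext8 <;> simp only [m_apply, z0, z1, z2, z3, z4, z5, z6, z7, c0, c1, c2, c3, c4, c5, c6, c7,
    u0, u1, u2, u3, u4, u5, u6, u7, oB, oQ, Pi.add_apply, Pi.sub_apply, Pi.smul_apply, smul_eq_mul] <;> ring
theorem cj_eq : cj x = (oF F).B x e1 • e1 - x := by
  apply ext8 <;> simp only [m_apply, z0, z1, z2, z3, z4, z5, z6, z7, c0, c1, c2, c3, c4, c5, c6, c7,
    u0, u1, u2, u3, u4, u5, u6, u7, oB, oQ, Pi.add_apply, Pi.sub_apply, Pi.smul_apply, smul_eq_mul] <;> ring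
theorem m_self : m x x = (oF F).B x e1 • x - (oF F).Q x • e1 := by
  apply ext8 <;> simp only [m_apply, z0, z1, z2, z3, z4, z5, z6, z7, c0, c1, c2, c3, c4, c5, c6, c7,
    u0, u1, u2, u3, u4, u5, u6, u7, oB, oQ, Pi.add_apply, Pi.sub_apply, Pi.smul_apply, smul_eq_mul] <;> ring
theorem flex : m (m x (cj y)) x = (oF F).B y x • x - (oF F).Q x • y := by
  apply ext8 <;> simp only [m_apply, z0, z1, z2, z3, z4, z5, z6, z7, c0, c1, c2, c3, c4, c5, c6, c7,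
    u0, u1, u2, u3, u4, u5, u6, u7, oB, oQ, Pi.add_apply, Pi.sub_apply, Pi.smul_apply, smul_eq_mul] <;> ring
theorem Q_cj : (oF F).Q (cj x) = (oF F).Q x := by
  simp only [m_apply, z0, z1, z2, z3, z4, z5, z6, z7, c0, c1, c2, c3, c4, c5, c6, c7,
    u0, u1, u2, u3, u4, u5, u6, u7, oB, oQ, Pi.add_apply, Pi.sub_apply, Pi.smul_apply, smul_eq_mul]
  ring
theorem Q_one : (oF F).Q e1 = 1 := by
  simp only [m_apply, z0, z1, z2, z3, z4, z5, z6, z7, c0, c1, c2, c3, c4, c5, c6, c7,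
    u0, u1, u2, u3, u4, u5, u6, u7, oB, oQ, Pi.add_apply, Pi.sub_apply, Pi.smul_apply, smul_eq_mul]
  ring

end CfsgH5.Oc
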