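import Cfsg.Agent.H5.Oc1

set_option autoImplicit false

/-! Centralizers of involutions in the automorphism group of the split octonions. -/

namespace CfsgH5.Oc

open Cfsg.Lie Module CfsgH5.CForm

universe u

variable {F : Type u} [Field F] {A M : Submodule F (Fin 8 → F)}

/-- A grading of the octonions. -/
structure Gr (A M : Submodule F (Fin 8 → F)) : Prop where
  compl : IsCompl A M
  one : e1 ∈ A
  orth : ∀ {a x}, a ∈ A → x ∈ M → (oF F).B a x = 0
  AA : ∀ {a b}, a ∈ A → b ∈ A → m a b ∈ A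
  AM : ∀ {a b}, a ∈ A → b ∈ M → m a b ∈ M
  MM : ∀ {a b}, a ∈ M → b ∈ M → m a b ∈ A

namespace Gr
variable (h : Gr A M) {a b c x v : Fin 8 → F}
include h

theorem cjA (ha : a ∈ A) : cj a ∈ A := cj_eq a ▸ sub_mem (A.smul_mem _ h.one) ha

theorem cjM (hx : x ∈ M) : cj x = -x := by rw [cj_eq, orth_B_symm, h.orth h.one hx]; simp

theorem am (ha : a ∈ A) (hx : x ∈ M) : m a x = m x (cj a) := by
  have := l_lin a x e1
  rw [m_one, m_one, h.orth ha hx, h.cjM hx, map_neg, zero_smul] at this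
  exact neg_add_eq_zero.1 this

theorem r1 (ha : a ∈ A) (hb : b ∈ A) (hx : x ∈ M) : m a (m b x) = m (m b a) x := by
  have := l_lin a (-x) (cj b)
  rw [map_neg cj, h.cjM hx, neg_neg, B_neg_right, h.orth ha hx, neg_zero, zero_smul, map_neg, LinearMap.neg_apply,
    add_neg_eq_zero] at this
  rw [h.am hb hx, this, ← cj_m, ← h.am (h.AA hb ha) hx]

theorem r2 (hb : b ∈ A) (hx : x ∈ M) : m (m a x) b = m (m a (cj b)) x := by
  have := r_lin b (-x) a
  rwa [map_neg cj, h.cjM hx, neg_neg, B_neg_right, h.orth hb hx, neg_zero, zero_smul, map_neg, add_neg_eq_zero] at this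

theorem r3 (ha : a ∈ A) (hb : b ∈ A) (hx : x ∈ M) : m (m a x) (m b x) = -(oF F).Q x • m (cj b) a := by
  have := l_lin (m a x) (cj b) x
  have k := r_inv x a
  rw [h.cjM hx, map_neg, neg_eq_iff_eq_neg] at k
  rw [cj_cj, orth_B_symm, h.orth (h.cjA hb) (h.AM ha hx), zero_smul, h.cjM (h.AM ha hx), map_neg, LinearMap.neg_apply, k,
    neg_neg, map_smul, add_eq_zero_iff_eq_neg] at this
  rw [this, neg_smul]

omit h in
theorem canc (hv : (oF F).Q v ≠ 0) (e : m a v = m b v) : a = b :=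
  smul_right_injective _ hv (by simp only [← r_inv, e])

theorem assoc (hx : v ∈ M) (hv : (oF F).Q v ≠ 0) (ha : a ∈ A) (hb : b ∈ A) (hc : c ∈ A) : m (m a b) c = m a (m b c) :=
  canc hv (by rw [← h.r1 hc (h.AA ha hb) hx, ← h.r1 (h.AA hb hc) ha hx, ← h.r1 hb ha hx, ← h.r1 hc hb (h.AM ha hx)])

theorem surj (hx : v ∈ M) (hv : (oF F).Q v ≠ 0) (h1 : x ∈ M) : ∃ b ∈ A, x = m b v :=
  ⟨((oF F).Q v)⁻¹ • m x (cj v), A.smul_mem _ (by rw [h.cjM hx, map_neg]; exact neg_mem (h.MM h1 hx)), by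
    rw [map_smul, LinearMap.smul_apply, r_inv', smul_smul, inv_mul_cancel₀ hv, one_smul]⟩

theorem ndM : ((oF F).res M).Nondeg := fun v hv => Subtype.ext (oF_nondeg _ fun u => by
  obtain ⟨a, x, rfl⟩ := exists_add_of_isCompl h.compl u
  rw [(oF F).B_add_left, h.orth a.2 v.2, zero_add]; exact hv x)

theorem ndA : ((oF F).res A).Nondeg := fun v hv => Subtype.ext (oF_nondeg _ fun u => by
  obtain ⟨a, x, rfl⟩ := exists_add_of_isCompl h.compl u
  rw [(oF F).B_add_left, orth_B_symm _ v.1 x.1, h.orth v.2 x.2, add_zero]; exact hv a)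

theorem rank (hx : v ∈ M) (hv : (oF F).Q v ≠ 0) : finrank F A = 4 ∧ finrank F M = 4 := by
  have h1 := Submodule.finrank_add_eq_of_isCompl h.compl
  have h2 := LinearEquiv.finrank_eq (LinearEquiv.ofBijective ((m.flip v).restrict (p := A) (q := M) fun a ha => h.AM ha hx)
    ⟨fun a b e => Subtype.ext (canc hv (congrArg Subtype.val e)), fun y => by
      obtain ⟨b, hb, e⟩ := h.surj hx hv y.2
      exact ⟨⟨b, hb⟩, Subtype.ext e.symm⟩⟩)
  rw [finrank_fin_fun] at h1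
  omega

theorem plus [Finite F] (hx : v ∈ M) (hv : (oF F).Q v ≠ 0) : ((oF F).res M).IsPlus := by
  obtain ⟨r1, r2⟩ := h.rank hx hv
  obtain ⟨y, y0, hy⟩ := orth_exists_sing ((oF F).res M) (by omega)
  let L := (m.flip y.1).restrict (p := A) (q := M) fun a ha => h.AM ha y.2
  have t1 : ((oF F).res M).TS (LinearMap.range L) := TS_orth.2 (by
    rintro _ ⟨a, rfl⟩
    exact (Q_m a.1 y.1).trans (mul_eq_zero_of_right _ hy))
  have t2 : ((oF F).res A).TS (LinearMap.ker L) := TS_orth.2 fun a ha => by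
    have := l_inv a.1 y.1
    rw [show m a.1 y.1 = 0 from congrArg Subtype.val ha, map_zero] at this
    exact (smul_eq_zero.1 this.symm).resolve_right fun e => y0 (Subtype.ext e)
  have := t1.two_mul_finrank_le h.ndM
  have := t2.two_mul_finrank_le h.ndA
  have := L.finrank_range_add_finrank_ker
  exact ⟨_, t1, by omega⟩

end Gr

variable (F) in
/-- Automorphisms. -/
def Au : Subgroup ((Fin 8 → F) ≃ₗ[F] (Fin 8 → F)) where
  carrier := {g | ∀ x y, g (m x y) = m (g x) (g y)}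
  mul_mem' {a b} ha hb x y := by simp [ha _, hb _]
  one_mem' _ _ := rfl
  inv_mem' {a} ha x y := a.injective (by simp [ha _])

theorem Gr.ext (h : Gr A M) (u v : M) (hu : (oF F).Q u ≠ 0) (hv : (oF F).Q v ≠ 0) : ∃ g ∈ Au F, (∀ a ∈ A, g a ∈ A) ∧
    ∀ x : M, g x = (((oF F).res M).rf u * ((oF F).res M).rf v) x := by
  obtain ⟨p, hp, e⟩ := h.surj v.2 hv u.2
  have n0 : (oF F).Q p ≠ 0 := by rw [e, Q_m] at hu; exact left_ne_zero_of_mul hu
  have hc := h.cjA hp
  let α : A ≃ₗ[F] A := LinearEquiv.ofInjectiveEndo ((((oF F).Q p)⁻¹ • (m.flip p ∘ₗ m (cj p))).restrict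
    fun a ha => A.smul_mem _ (h.AA (h.AA hc ha) hp)) fun a b e => Subtype.ext (smul_right_injective _ n0 (by
      have : m (cj p) a = m (cj p) b := Gr.canc n0 (smul_right_injective _ (inv_ne_zero n0) (congrArg Subtype.val e))
      simp only [← l_inv', this]))
  let g := sumHom h.compl (α, ((oF F).res M).rf u * ((oF F).res M).rf v)
  have g1 : ∀ a ∈ A, g a = ((oF F).Q p)⁻¹ • m (m (cj p) a) p := fun a ha => sumHom_left h.compl _ ⟨a, ha⟩
  have g2 : ∀ b ∈ A, g (m b v) = ((oF F).Q p)⁻¹ • m (m (m p b) p) v := fun b hb => by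
    refine (sumHom_right h.compl _ ⟨_, h.AM hb v.2⟩).trans ?_
    have k1 : ((((oF F).res M).rf v ⟨_, h.AM hb v.2⟩ : M) : Fin 8 → F) = m (-cj b) v := by
      have := B_m b e1 v.1
      rw [one_m] at this
      simp [rf_apply, this, cj_eq, one_m, mul_comm _ ((oF F).Q v), hv]
    have k2 := flex p (-cj b)
    rw [map_neg, cj_cj, map_neg, map_neg, LinearMap.neg_apply, neg_eq_iff_eq_neg] at k2
    simp only [LinearEquiv.mul_apply, rf_apply _ (((oF F).res M).rf v _), Submodule.coe_sub, Submodule.coe_smul, res_B, res_Q,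
      k1, e, B_m, Q_m, k2]
    simp only [map_neg m, map_sub, map_smul, LinearMap.neg_apply, LinearMap.sub_apply, LinearMap.smul_apply]
    match_scalars <;> field_simp
  refine ⟨g, fun x y => ?_, fun a ha => g1 a ha ▸ A.smul_mem _ (h.AA (h.AA hc ha) hp), fun x => sumHom_right h.compl _ x⟩
  obtain ⟨⟨a, ha⟩, ⟨x, hx⟩, rfl⟩ := exists_add_of_isCompl h.compl x
  obtain ⟨⟨a', ha'⟩, ⟨y, hy⟩, rfl⟩ := exists_add_of_isCompl h.compl y
  obtain ⟨b, hb, rfl⟩ := h.surj v.2 hv hx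
  obtain ⟨b', hb', rfl⟩ := h.surj v.2 hv hy
  have s1 := h.AA (h.AA hc ha) hp
  have s2 := h.AA (h.AA hc ha') hp
  have s3 := h.AA (h.AA hp hb) hp
  have s4 := h.AA (h.AA hp hb') hp
  simp only [map_add, LinearMap.add_apply, h.r1 ha hb' v.2, h.r2 ha' v.2, h.r3 hb hb' v.2, map_smul, g1 _ ha, g1 _ ha', g2 _ hb,
    g2 _ hb', g1 _ (h.AA ha ha'), g2 _ (h.AA hb' ha), g2 _ (h.AA hb (h.cjA ha')), g1 _ (h.AA (h.cjA hb') hb),
    LinearMap.smul_apply, h.r1 s1 s4 v.2, h.r2 s2 v.2, h.r3 s3 s4 v.2, cj_m, cj_cj]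
  simp (maxDischargeDepth := 8) only [h.assoc v.2 hv, h.AA, h.cjA, ha, ha', hb, hb', hp, l_inv, l_inv', map_smul,
    LinearMap.smul_apply]
  match_scalars <;> field_simp

theorem Au.one {g : (Fin 8 → F) ≃ₗ[F] (Fin 8 → F)} (h : g ∈ Au F) : g e1 = e1 := by
  have := h e1 (g.symm e1)
  rwa [one_m, g.apply_symm_apply, m_one, eq_comm] at this

theorem Au.isom {g : (Fin 8 → F) ≃ₗ[F] (Fin 8 → F)} (h : g ∈ Au F) : g ∈ (oF F).Isom := mem_Isom_orth.2 fun x => by
  have := h x x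
  rw [m_self, m_self, map_sub, map_smul, map_smul, Au.one h] at this
  have e0 : (e1 : Fin 8 → F) ≠ 0 := fun e => one_ne_zero (congrFun e 0)
  by_cases k : (oF F).B x e1 = (oF F).B (g x) e1
  · rw [k, sub_right_inj] at this
    exact (smul_left_injective F e0 this).symm
  have k2 : g x = g ((((oF F).B x e1 - (oF F).B (g x) e1)⁻¹ * ((oF F).Q x - (oF F).Q (g x))) • e1) := by
    rw [map_smul, Au.one h, mul_smul, eq_inv_smul_iff₀ (sub_ne_zero.2 k), sub_smul, sub_smul]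
    linear_combination (exp := 1) this
  rw [g.injective k2, map_smul, Au.one h]

/-- Eigenspace. -/
def Ez (z : (Fin 8 → F) ≃ₗ[F] (Fin 8 → F)) (c : F) : Submodule F (Fin 8 → F) where
  carrier := {v | z v = c • v}
  add_mem' {a b} ha hb := by simp [show z a = _ from ha, show z b = _ from hb]
  zero_mem' := by simp
  smul_mem' a v hv := by simp [show z v = _ from hv, smul_comm a]

theorem mem_Ez {z : (Fin 8 → F) ≃ₗ[F] (Fin 8 → F)} {c : F} {v : Fin 8 → F} : v ∈ Ez z c ↔ z v = c • v := Iff.rfl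

theorem gr_of (h2 : (2 : F) ≠ 0) {z : (Fin 8 → F) ≃ₗ[F] (Fin 8 → F)} (h : z ∈ Au F) (hz : z * z = 1) :
    Gr (Ez z 1) (Ez z (-1)) := by
  have zz : ∀ v, z (z v) = v := fun v => DFunLike.congr_fun hz v
  refine ⟨⟨Submodule.disjoint_def.2 fun v a b => smul_right_injective _ h2 ?_, codisjoint_iff.2 (eq_top_iff.2 fun v _ => ?_)⟩,
    by simp [mem_Ez, Au.one h], fun {a x} ha hx => mul_left_cancel₀ h2 ?_, fun ha hb => ?_, fun ha hb => ?_, fun ha hb => ?_⟩
  · rw [mem_Ez] at a b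
    have : (2 : F) • v = 0 := by linear_combination (norm := module) b - a
    simpa using this
  · refine Submodule.mem_sup.2 ⟨(2 : F)⁻¹ • (v + z v), Submodule.smul_mem _ _ (by simp [mem_Ez, zz, add_comm]),
      (2 : F)⁻¹ • (v - z v), Submodule.smul_mem _ _ (by simp [mem_Ez, zz]), ?_⟩
    rw [← smul_add, add_add_sub_cancel, ← two_smul F v, smul_smul, inv_mul_cancel₀ h2, one_smul]
  · have := (oF F).Isom_B (Au.isom h) a x
    rw [mem_Ez.1 ha, mem_Ez.1 hx] at this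
    simp at this
    linear_combination -this
  all_goals rw [mem_Ez, h, mem_Ez.1 ha, mem_Ez.1 hb]; simp

/-- Identification of the matrix group. -/
noncomputable def g2E : G2 F ≃* Au F :=
  equivOfRange (toLinHom ((Units.coeHom _).comp (G2 F).subtype))
    (toLinHom_injective (Units.val_injective.comp Subtype.val_injective)) _ fun g =>
    ⟨fun h => ⟨⟨glOfLin g, fun x y => by simpa [m_apply] using h x y⟩, LinearEquiv.ext fun v => by simp⟩, by
      rintro ⟨s, rfl⟩ x y; exact s.2 x y⟩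

theorem cent [Finite F] (h2 : (2 : F) ≠ 0) {z : Au F} (hz : z * z = 1) (h1 : z ≠ 1) :
    ∃ (M : Submodule F (Fin 8 → F)) (hf : ((oF F).res M).Nondeg) (ρ : Subgroup.centralizer {z} →* ((oF F).res M).Isom),
      finrank F M = 4 ∧ ((oF F).res M).IsPlus ∧ Function.Injective ρ ∧ (dick hf (split_of_two_ne h2)).ker ≤ ρ.range := by
  have h := gr_of h2 z.2 (congrArg Subtype.val hz)
  obtain ⟨v, hv⟩ := orth_exists_Q_ne h.ndM (finrank_pos_iff_exists_ne_zero.2 (by
    by_contra! k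
    refine h1 (Subtype.ext (LinearEquiv.ext fun x => ?_))
    obtain ⟨a, y, rfl⟩ := exists_add_of_isCompl h.compl x
    simpa [k y] using mem_Ez.1 a.2))
  have st : ∀ c, ∀ g : Subgroup.centralizer {z}, ∀ x ∈ Ez z.1 c, g.1.1 x ∈ Ez z.1 c := fun c g x hx => by
    have := DFunLike.congr_fun (congrArg Subtype.val (Subgroup.mem_centralizer_singleton_iff.1 g.2)) x
    rw [mem_Ez, ← map_smul, ← mem_Ez.1 hx]; exact this.symm
  let ρ : Subgroup.centralizer {z} →* ((oF F).res (Ez z.1 (-1))).Isom := ((resHom _).comp (((Au F).subtype.comp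
    (Subgroup.subtype _)).codRestrict _ fun g => mem_stabS_of_le (st _ g))).codRestrict _ fun g =>
      mem_Isom_orth.2 fun x => (oF F).Isom_Q (Au.isom g.1.2) x
  have hρ : ∀ g x, ((ρ g).1 x).1 = g.1.1 x := fun _ _ => rfl
  refine ⟨_, h.ndM, ρ, (h.rank v.2 hv).2, h.plus v.2 hv, (injective_iff_map_eq_one _).2 fun g e => ?_, ?_⟩
  · have k : ∀ x : Ez z.1 (-1), g.1.1 x = x := fun x => by rw [← hρ, e]; rfl
    refine Subtype.ext (Subtype.ext (LinearEquiv.ext fun x => ?_))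
    obtain ⟨a, y, rfl⟩ := exists_add_of_isCompl h.compl x
    have := g.1.2 a v
    rw [k v, k ⟨_, h.AM a.2 v.2⟩] at this
    rw [map_add, k y, ← Gr.canc hv this]; rfl
  have two : ∀ u w, ((oF F).res (Ez z.1 (-1))).Q u ≠ 0 → ((oF F).res (Ez z.1 (-1))).Q w ≠ 0 →
      (⟨_, rf_mem u⟩ * ⟨_, rf_mem w⟩ : ((oF F).res (Ez z.1 (-1))).Isom) ∈ ρ.range := fun u w hu hw => by
    obtain ⟨g, g1, g2, g3⟩ := h.ext u w hu hw
    refine ⟨⟨⟨g, g1⟩, Subgroup.mem_centralizer_singleton_iff.2 (Subtype.ext (LinearEquiv.ext fun x => ?_))⟩,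
      Subtype.ext (LinearEquiv.ext fun x => Subtype.ext (g3 x))⟩
    obtain ⟨a, y, rfl⟩ := exists_add_of_isCompl h.compl x
    have k : g y ∈ Ez z.1 (-1) := g3 y ▸ Subtype.prop _
    simp [mem_Ez.1 a.2, mem_Ez.1 y.2, mem_Ez.1 (g2 _ a.2), mem_Ez.1 k]
  have := rf_induction h.ndM (split_of_two_ne h2) (fun g => ∀ hg : g ∈ ((oF F).res (Ez z.1 (-1))).Isom,
    (dick h.ndM (split_of_two_ne h2) ⟨g, hg⟩ = 1 → ⟨g, hg⟩ ∈ ρ.range) ∧ (dick h.ndM (split_of_two_ne h2) ⟨g, hg⟩ = -1 →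
      ∀ w, ((oF F).res (Ez z.1 (-1))).Q w ≠ 0 → ⟨g, hg⟩ * ⟨_, rf_mem w⟩ ∈ ρ.range))
    (fun hg => ⟨fun _ => one_mem _, fun e => absurd ((map_one _).symm.trans e) (by decide)⟩) fun g d hg hd ih hg' => by
      have e : (⟨_, hg'⟩ : ((oF F).res (Ez z.1 (-1))).Isom) = ⟨g, hg⟩ * ⟨_, rf_mem d⟩ := rfl
      rw [e, map_mul, dick_rf _ _ hd]
      exact ⟨fun k => (ih hg).2 (by simpa [neg_eq_iff_eq_neg] using k) d hd, fun k w hw =>
        mul_assoc (G := ((oF F).res (Ez z.1 (-1))).Isom) _ _ _ ▸ mul_mem ((ih hg).1 (by simpa using k)) (two d w hd hw)⟩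
  exact fun g hg => (this g.1 g.2 g.2).1 hg

end CfsgH5.Oc
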