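import Mathlib

set_option autoImplicit false

namespace CfsgH5.Sy
open Equiv Equiv.Perm MulAction
open scoped Pointwise

theorem le_choose : ∀ (m j : ℕ), 1 ≤ j → j < m → m ≤ m.choose j
  | 0, _, _, h => by omega
  | _ + 1, 0, h, _ => by omega
  | m + 1, j + 1, _, h => by
    rcases Nat.eq_zero_or_pos j with rfl | hj
    · simp
    · rw [Nat.choose_succ_succ']
      have := le_choose m j hj (by omega)
      have := Nat.choose_pos (show j + 1 ≤ m by omega)
      omega

theorem lt_choose (n k : ℕ) (h2 : 2 ≤ k) (hk : k + 2 ≤ n) : n < n.choose k := by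
  obtain ⟨m, rfl⟩ : ∃ m, n = m + 1 := ⟨n - 1, by omega⟩
  obtain ⟨j, rfl⟩ : ∃ j, k = j + 1 := ⟨k - 1, by omega⟩
  rw [Nat.choose_succ_succ']
  have := le_choose m j (by omega) (by omega)
  have := le_choose m (j + 1) (by omega) (by omega)
  omega

variable {α : Type*} [Fintype α] [DecidableEq α]

theorem fix_of_intrans {G : Type*} [Group G] [Finite G] [MulAction G α]
    (htr : ∀ k, IsPretransitive G (Set.powersetCard α k)) (H : Subgroup G) (hi : H.index ≤ Fintype.card α)
    (hH : ¬ IsPretransitive H α) : ∃ x : α, H ≤ stabilizer G x := by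
  classical
  obtain ⟨x, y, hxy⟩ : ∃ x y : α, y ∉ orbit H x := by
    by_contra hc; push Not at hc
    exact hH ⟨fun x y => hc x y⟩
  let O : Finset α := (orbit H x).toFinset
  have hO : ∀ z, z ∈ O ↔ z ∈ orbit H x := fun z => Set.mem_toFinset
  have hst : H ≤ stabilizer G (⟨O, rfl⟩ : Set.powersetCard α O.card) := by
    intro h hh
    rw [Set.powersetCard.stabilizer_coe, mem_stabilizer_iff]
    have : ((O : Finset α) : Set α) = orbit H x := Set.coe_toFinset _
    show h • ((O : Finset α) : Set α) = ((O : Finset α) : Set α)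
    rw [this]
    exact smul_orbit (⟨h, hh⟩ : H) x
  have h1 := Nat.le_of_dvd (Nat.pos_of_ne_zero Subgroup.index_ne_zero_of_finite) (Subgroup.index_dvd_of_le hst)
  haveI := htr O.card
  rw [index_stabilizer_of_transitive, Set.powersetCard.card, Nat.card_eq_fintype_card] at h1
  have hx : x ∈ O := (hO x).mpr (mem_orbit_self x)
  have hy : y ∈ Oᶜ := by rw [Finset.mem_compl, hO]; exact hxy
  have hc := Finset.card_add_card_compl O
  by_cases h2 : O.card ≤ 1
  · exact ⟨x, fun h hh => Finset.card_le_one.mp h2 _ ((hO _).mpr ⟨⟨h, hh⟩, rfl⟩) _ hx⟩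
  by_cases h3 : Oᶜ.card ≤ 1
  · refine ⟨y, fun h hh => Finset.card_le_one.mp h3 _ ?_ _ hy⟩
    rw [Finset.mem_compl, hO]
    rintro ⟨k, hk⟩
    exact hxy ⟨(⟨h, hh⟩ : H)⁻¹ * k, by simp only [mul_smul, hk]; exact inv_smul_smul h y⟩
  have := lt_choose (Fintype.card α) O.card (by omega) (by omega)
  omega

theorem trans_three (S : Set (Perm α)) (hS : ∀ c ∈ S, IsThreeCycle c) (hne : S.Nonempty)
    (ht : IsPretransitive (Subgroup.closure S) α) : alternatingGroup α ≤ Subgroup.closure S := by
  obtain ⟨c0, hc0⟩ := hne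
  refine alternatingGroup_le_of_isPreprimitive_of_isThreeCycle_mem ⟨fun {B} hB => ?_⟩ (hS c0 hc0) (Subgroup.subset_closure hc0)
  by_cases h1 : B.Subsingleton
  · exact Or.inl h1
  right
  obtain ⟨x, hx, y, hy, hxy⟩ := Set.not_subsingleton_iff.mp h1
  have hst : Subgroup.closure S ≤ stabilizer (Perm α) B := by
    rw [Subgroup.closure_le]
    intro c hc
    rcases isBlock_iff_smul_eq_or_disjoint.mp hB ⟨c, Subgroup.subset_closure hc⟩ with h | h
    · exact h
    · exfalso
      have hd : ∀ z ∈ B, c z ∉ B := fun z hz h' => Set.disjoint_left.mp h ⟨z, hz, rfl⟩ h'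
      have hsub : ({x, y, c x, c y} : Finset α) ⊆ c.support := by
        have a1 : x ∈ c.support := mem_support.mpr (fun e => hd x hx (e.symm ▸ hx))
        have a2 : y ∈ c.support := mem_support.mpr (fun e => hd y hy (e.symm ▸ hy))
        simp only [Finset.insert_subset_iff, Finset.singleton_subset_iff, apply_mem_support, a1, a2, and_self]
      have := Finset.card_le_card hsub
      rw [(hS c hc).card_support, Finset.card_eq_four.mpr ⟨x, y, c x, c y, hxy, fun e => hd x hx (e ▸ hx), fun e => hd y hy (e ▸ hx),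
        fun e => hd x hx (e ▸ hy), fun e => hd y hy (e ▸ hy), fun e => hxy (c.injective e), rfl⟩] at this
      omega
  rw [Set.eq_univ_iff_forall]
  intro z
  obtain ⟨g, rfl⟩ := ht.exists_smul_eq x z
  have := mem_stabilizer_iff.mp (hst g.2)
  rw [← this]
  exact ⟨x, hx, rfl⟩

theorem stab_gen (x : α) (g : Perm α) (hg : g ∈ alternatingGroup α) (hx : g x = x) :
    g ∈ Subgroup.closure {c : Perm α | c.IsThreeCycle ∧ c x = x} := by
  have h1 : ∀ y, g y ≠ x ↔ y ≠ x := fun y => by
    constructor
    · rintro h rfl; exact h hx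
    · intro h e; exact h (g.injective (e.trans hx.symm))
  have h2 : ofSubtype (g.subtypePerm h1) = g := ofSubtype_subtypePerm (p := fun y => y ≠ x) h1 (fun y hy (e : y = x) => hy (e ▸ hx))
  have h3 : g.subtypePerm h1 ∈ alternatingGroup {y // y ≠ x} := by
    rw [mem_alternatingGroup] at hg ⊢
    rw [← sign_ofSubtype, h2, hg]
  rw [← closure_three_cycles_eq_alternating] at h3
  have := Subgroup.mem_map_of_mem (ofSubtype : Perm {y // y ≠ x} →* Perm α) h3
  rw [h2, MonoidHom.map_closure] at this
  refine Subgroup.closure_mono ?_ this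
  rintro _ ⟨c, hc, rfl⟩
  exact ⟨by rw [IsThreeCycle, cycleType_ofSubtype]; exact hc, ofSubtype_apply_of_not_mem c (by simp)⟩

theorem exists_three (h4 : 4 ≤ Fintype.card α) {x y : α} (hxy : y ≠ x) : ∃ c : Perm α, c.IsThreeCycle ∧ c x = x ∧ c y ≠ y := by
  have : 1 < (({x, y} : Finset α)ᶜ).card := by
    have := Finset.card_add_card_compl ({x, y} : Finset α)
    have := Finset.card_le_two (a := x) (b := y)
    omega
  obtain ⟨a, ha, b, hb, hab⟩ := Finset.one_lt_card.mp this
  simp only [Finset.mem_compl, Finset.mem_insert, Finset.mem_singleton, not_or] at ha hb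
  refine ⟨swap y a * swap y b, isThreeCycle_swap_mul_swap_same (Ne.symm ha.2) (Ne.symm hb.2) hab, ?_, ?_⟩
  · simp [swap_apply_def, hxy.symm, Ne.symm ha.1, Ne.symm hb.1]
  · simp [swap_apply_def, hb.2, hab.symm]

theorem stab_inj (h4 : 4 ≤ Fintype.card α) {x y : α}
    (h : stabilizer (alternatingGroup α) x ≤ stabilizer (alternatingGroup α) y) : y = x := by
  by_contra hxy
  obtain ⟨c, hc, h1, h2⟩ := exists_three h4 hxy
  exact h2 (h (show (⟨c, hc.mem_alternatingGroup⟩ : alternatingGroup α) ∈ _ from h1))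

theorem cent_triv (h4 : 4 ≤ Fintype.card α) (g : Perm α) (h : ∀ a ∈ alternatingGroup α, g * a = a * g) : g = 1 := by
  ext x
  apply stab_inj h4
  rintro ⟨a, ha⟩ hx
  have hx : a x = x := hx
  show a (g x) = g x
  rw [← mul_apply, ← h a ha, mul_apply, hx]

theorem inner_of_three (h4 : 4 ≤ Fintype.card α) (φ : alternatingGroup α ≃* alternatingGroup α)
    (h : ∀ t : alternatingGroup α, IsThreeCycle t.1 → IsThreeCycle (φ t).1) :
    ∃ π : Perm α, ∀ g : alternatingGroup α, (φ g).1 = π * g * π⁻¹ := by
  have htr : ∀ k, IsPretransitive (alternatingGroup α) (Set.powersetCard α k) := fun k =>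
    Set.powersetCard.isPretransitive_alternatingGroup (by rw [Nat.card_eq_fintype_card]; omega)
  haveI ht : IsPretransitive (alternatingGroup α) α := alternatingGroup.isPretransitive_of_three_le_card α (by rw [Nat.card_eq_fintype_card]; omega)
  have hidx : ∀ x : α, (stabilizer (alternatingGroup α) x).index = Fintype.card α := fun x => by
    rw [index_stabilizer_of_transitive, Nat.card_eq_fintype_card]
  have key : ∀ x : α, ∃ y : α, (stabilizer (alternatingGroup α) x).map φ.toMonoidHom = stabilizer (alternatingGroup α) y := by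
    intro x
    have hi : ((stabilizer (alternatingGroup α) x).map φ.toMonoidHom).index = Fintype.card α := by
      rw [← hidx x]; exact Subgroup.index_map_equiv _ φ
    obtain ⟨y, hy⟩ := fix_of_intrans htr _ hi.le (fun htr' => by
      let S : Set (Perm α) := {c | ∃ t : alternatingGroup α, IsThreeCycle t.1 ∧ t.1 x = x ∧ (φ t).1 = c}
      have hle : ∀ g : alternatingGroup α, g.1 x = x → (φ g).1 ∈ Subgroup.closure S := by
        rintro ⟨g, hg⟩ hx
        have := stab_gen x g hg hx
        induction this using Subgroup.closure_induction'' with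
        | mem c hc => exact Subgroup.subset_closure ⟨_, hc.1, hc.2, rfl⟩
        | inv_mem c hc => exact Subgroup.subset_closure ⟨_, hc.1.inv, hx, rfl⟩
        | one => exact (show (φ 1).1 ∈ _ by rw [map_one]; exact one_mem _)
        | mul a b ha hb iha ihb =>
          have hA : Subgroup.closure {c : Perm α | c.IsThreeCycle ∧ c x = x} ≤ alternatingGroup α ⊓ stabilizer (Perm α) x :=
            (Subgroup.closure_le _).mpr fun c hc => ⟨hc.1.mem_alternatingGroup, hc.2⟩
          have := mul_mem (iha (hA ha).1 (hA ha).2) (ihb (hA hb).1 (hA hb).2)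
          rwa [← Subgroup.coe_mul, ← map_mul] at this
      obtain ⟨y, hy⟩ := Fintype.exists_ne_of_one_lt_card (by omega) x
      obtain ⟨c, hc, h1, -⟩ := exists_three h4 hy
      have h3 := trans_three S (by rintro _ ⟨t, h1, -, rfl⟩; exact h t h1) ⟨_, ⟨c, hc.mem_alternatingGroup⟩, hc, h1, rfl⟩
        ⟨fun a b => by
          obtain ⟨⟨_, g, hg, rfl⟩, rfl⟩ := htr'.exists_smul_eq a b
          exact ⟨⟨_, hle g hg⟩, rfl⟩⟩
      have h5 : Subgroup.closure S ≤ ((stabilizer (alternatingGroup α) x).map φ.toMonoidHom).map (alternatingGroup α).subtype := by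
        rw [Subgroup.closure_le]
        rintro _ ⟨t, -, h2, rfl⟩
        exact ⟨_, ⟨t, h2, rfl⟩, rfl⟩
      have : (stabilizer (alternatingGroup α) x).map φ.toMonoidHom = ⊤ := by
        rw [eq_top_iff]
        intro g _
        obtain ⟨k, hk, e⟩ := h5 (h3 g.2)
        rwa [← show k = g from Subtype.ext e]
      rw [this, Subgroup.index_top] at hi
      omega)
    refine ⟨y, Subgroup.eq_of_le_of_card_ge hy (le_of_eq ?_)⟩
    have e1 := (stabilizer (alternatingGroup α) y).index_mul_card
    rw [hidx, ← hi, ← ((stabilizer (alternatingGroup α) x).map φ.toMonoidHom).index_mul_card] at e1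
    exact Nat.eq_of_mul_eq_mul_left (by omega) e1
  choose π hπ using key
  have hm : ∀ (g : alternatingGroup α) x, (φ g).1 (π x) = π x ↔ g.1 x = x := fun g x => by
    have : φ g ∈ (stabilizer (alternatingGroup α) x).map φ.toMonoidHom ↔ g ∈ stabilizer (alternatingGroup α) x :=
      Subgroup.mem_map_iff_mem φ.injective
    rw [hπ] at this; exact this
  have hinj : Function.Injective π := fun x y e => (stab_inj h4 (fun g hg => (hm g y).mp (e ▸ (hm g x).mpr hg))).symm
  refine ⟨Equiv.ofBijective π (Finite.injective_iff_bijective.mp hinj), fun g => ?_⟩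
  rw [eq_mul_inv_iff_mul_eq]
  ext x
  show (φ g).1 (π x) = π (g.1 x)
  apply stab_inj h4
  intro k hk
  obtain ⟨k, rfl⟩ := φ.surjective k
  have h1 : k.1 (g.1 x) = g.1 x := (hm k _).mp hk
  have h2 := (hm (g⁻¹ * k * g) x).mpr (by simp [h1])
  show (φ k).1 ((φ g).1 (π x)) = (φ g).1 (π x)
  simp only [map_mul, map_inv, Subgroup.coe_mul, InvMemClass.coe_inv, mul_apply] at h2
  exact Perm.inv_eq_iff_eq.mp h2

end CfsgH5.Sy
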