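import Cfsg.Agent.H5.Sy2

set_option autoImplicit false

namespace CfsgH5.Sy
open Equiv Equiv.Perm MulAction
open scoped Pointwise

variable {α : Type*} [Fintype α] [DecidableEq α]

theorem card_syl5 : Nat.card (Sylow 5 (Perm (Fin 5))) = 6 := by
  haveI : Fact (Nat.Prime 5) := ⟨by norm_num⟩
  obtain ⟨P⟩ : Nonempty (Sylow 5 (Perm (Fin 5))) := inferInstance
  have hG : Nat.card (Perm (Fin 5)) = 120 := by rw [Nat.card_perm, Nat.card_fin]; rfl
  have hP : Nat.card P = 5 := by
    rw [P.card_eq_multiplicity, hG, show 120 = 5 * 24 from rfl, Nat.factorization_mul (by norm_num) (by norm_num)]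
    simp [Nat.Prime.factorization (show Nat.Prime 5 by norm_num), Nat.factorization_eq_zero_of_not_dvd]
  have hi : (P : Subgroup (Perm (Fin 5))).index = 24 := by
    have := (P : Subgroup (Perm (Fin 5))).index_mul_card
    rw [hG, hP] at this; omega
  have h1 := card_sylow_modEq_one 5 (Perm (Fin 5))
  have h2 := P.card_dvd_index
  rw [hi] at h2
  have h3 : Nat.card (Sylow 5 (Perm (Fin 5))) ≠ 1 := by
    intro h
    haveI := (Nat.card_eq_one_iff_unique.mp h).1
    haveI := P.normal_of_subsingleton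
    have := Subgroup.card_dvd_of_le (alternatingGroup_le_of_normal (N := (P : Subgroup (Perm (Fin 5)))) (by simp)
      (Finite.one_lt_card_iff_nontrivial.mp (by rw [hP]; norm_num)))
    rw [hP] at this
    have h4 := (alternatingGroup (Fin 5)).index_mul_card
    rw [alternatingGroup.index_eq_two, hG] at h4
    have := Nat.le_of_dvd (by norm_num) this
    omega
  have := Nat.le_of_dvd (by norm_num) h2
  unfold Nat.ModEq at h1
  generalize Nat.card (Sylow 5 (Perm (Fin 5))) = k at *
  interval_cases k <;> omega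

theorem exists_trans6 (h6 : Fintype.card α = 6) : ∃ H : Subgroup (Perm α), H.index = 6 ∧ IsPretransitive H α := by
  haveI : Fact (Nat.Prime 5) := ⟨by norm_num⟩
  obtain ⟨e⟩ : Nonempty (Sylow 5 (Perm (Fin 5)) ≃ α) := Finite.card_eq.mp (by rw [card_syl5, Nat.card_eq_fintype_card, h6])
  let f : Perm (Fin 5) →* Perm α := (e.permCongrHom : Perm (Sylow 5 (Perm (Fin 5))) →* Perm α).comp (toPermHom _ _)
  have hf : Function.Injective f := by
    refine e.permCongrHom.injective.comp ?_
    rw [← MonoidHom.ker_eq_bot_iff]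
    by_contra hc
    have h1 := alternatingGroup_le_of_normal (by simp) ((Subgroup.nontrivial_iff_ne_bot _).mpr hc)
    obtain ⟨P⟩ : Nonempty (Sylow 5 (Perm (Fin 5))) := inferInstance
    have h2 : alternatingGroup (Fin 5) ≤ stabilizer _ P := fun g hg => congrArg (fun u : Perm _ => u P) (h1 hg)
    have := Subgroup.index_dvd_of_le h2
    rw [index_stabilizer_of_transitive, card_syl5, alternatingGroup.index_eq_two] at this
    omega
  refine ⟨f.range, ?_, ⟨fun x y => ?_⟩⟩
  · have := f.range.index_mul_card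
    rw [← Nat.card_congr (MonoidHom.ofInjective hf).toEquiv, Nat.card_perm, Nat.card_perm, Nat.card_fin, Nat.card_eq_fintype_card, h6] at this
    simp only [Nat.factorial] at this; omega
  · obtain ⟨g, hg⟩ := exists_smul_eq (Perm (Fin 5)) (e.symm x) (e.symm y)
    exact ⟨⟨f g, g, rfl⟩, show e (g • e.symm x) = y by rw [hg, e.apply_symm_apply]⟩

theorem outer_type (h6 : Fintype.card α = 6) (φ : Perm α ≃* Perm α) (h : ¬ ∃ π : Perm α, ∀ g, φ g = π * g * π⁻¹)
    (t : Perm α) (ht : t.IsThreeCycle) : (φ t).cycleType = {3, 3} := by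
  haveI : Fact (Nat.Prime 3) := ⟨Nat.prime_three⟩
  have ho : orderOf (φ t) = 3 := by rw [MulEquiv.orderOf_eq, ht.orderOf]
  obtain ⟨n, hn⟩ := cycleType_prime_order (σ := φ t) (by rw [ho]; exact Nat.prime_three)
  rw [ho] at hn
  have h1 := sum_cycleType_le (φ t)
  rw [hn, Multiset.sum_replicate, h6, smul_eq_mul] at h1
  have h2 : n ≠ 0 := by
    rintro rfl
    apply h
    apply perm_inner_of_three (by omega)
    intro u hu
    obtain ⟨c, rfl⟩ := isConj_iff.mp (isConj_iff_cycleType_eq.mpr (ht.cycleType.trans hu.cycleType.symm))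
    rw [IsThreeCycle, map_mul, map_mul, map_inv, cycleType_conj, hn]; rfl
  obtain rfl : n = 1 := by omega
  exact hn

theorem exists_omega (h6 : Fintype.card α = 6) : ∃ ω : Perm α ≃* Perm α,
    (∀ t : Perm α, t.IsThreeCycle → ∀ x, ω t x ≠ x) ∧
    ∀ H : Subgroup (Perm α), H.index = 6 → ∃ y : α, H = stabilizer _ y ∨ H = (stabilizer _ y).comap ω.toMonoidHom := by
  obtain ⟨H2, hi, ht⟩ := exists_trans6 h6
  obtain ⟨ω, x0, hω⟩ := exists_aut (by omega) H2 (hi.trans h6.symm)
  have hout : ¬ ∃ π : Perm α, ∀ g, ω g = π * g * π⁻¹ := by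
    rintro ⟨π, hπ⟩
    obtain ⟨y, hy⟩ := Fintype.exists_ne_of_one_lt_card (by omega) (π⁻¹ x0)
    obtain ⟨⟨g, hg⟩, e⟩ := ht.exists_smul_eq (π⁻¹ x0) y
    rw [hω, hπ, mul_apply, mul_apply, ← Perm.eq_inv_iff_eq] at hg
    exact hy (e.symm.trans hg)
  refine ⟨ω, fun t ht x => ?_, fun H hH => ?_⟩
  · have := sum_cycleType (ω t)
    rw [outer_type h6 ω hout t ht] at this
    have h1 : (ω t).support = Finset.univ := Finset.eq_univ_of_card _ (by rw [← this, h6]; rfl)
    exact mem_support.mp (h1 ▸ Finset.mem_univ x)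
  obtain ⟨φ, x, hx⟩ := exists_aut (by omega) H (hH.trans h6.symm)
  by_cases hin : ∃ π : Perm α, ∀ g, φ g = π * g * π⁻¹
  · obtain ⟨π, hπ⟩ := hin
    refine ⟨π⁻¹ x, Or.inl (Subgroup.ext fun g => ?_)⟩
    rw [hx, hπ, mem_stabilizer_iff, Perm.smul_def, mul_apply, mul_apply, Perm.eq_inv_iff_eq]
  · obtain ⟨π, hπ⟩ := perm_inner_of_three (by omega) (φ.trans ω.symm) (fun t ht => by
      obtain ⟨c, hc⟩ := isConj_iff.mp (isConj_iff_cycleType_eq.mpr ((outer_type h6 ω hout t ht).trans (outer_type h6 φ hin t ht).symm))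
      rw [IsThreeCycle, MulEquiv.trans_apply, ← hc, map_mul, map_mul, map_inv, cycleType_conj, ω.symm_apply_apply]; exact ht)
    refine ⟨(ω π)⁻¹ x, Or.inr (Subgroup.ext fun g => ?_)⟩
    have : φ g = ω π * ω g * (ω π)⁻¹ := by rw [← map_inv, ← map_mul, ← map_mul, ← hπ]; simp
    rw [hx, this, Subgroup.mem_comap, mem_stabilizer_iff, Perm.smul_def, mul_apply, mul_apply, Perm.eq_inv_iff_eq]; rfl

theorem stab_iso (x : α) : Nonempty (stabilizer (Perm α) x ≃* Perm {y // y ≠ x}) := by
  have : (ofSubtype : Perm {y // y ≠ x} →* Perm α).range = stabilizer (Perm α) x := by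
    ext g
    rw [mem_range_ofSubtype_iff, mem_stabilizer_iff, Perm.smul_def]
    constructor
    · intro h; by_contra hc; exact h (mem_support.mpr hc) rfl
    · rintro h y hy rfl; exact mem_support.mp hy h
  exact ⟨(MulEquiv.subgroupCongr this.symm).trans (MonoidHom.ofInjective ofSubtype_injective).symm⟩

theorem index_stab (x : α) : (stabilizer (Perm α) x).index = Fintype.card α := by
  rw [index_stabilizer_of_transitive, Nat.card_eq_fintype_card]

theorem conj_stab (g : Perm α) (x : α) : (stabilizer (Perm α) x).map (MulAut.conj g).toMonoidHom = stabilizer (Perm α) (g x) :=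
  (stabilizer_smul_eq_stabilizer_map_conj g x).symm

end CfsgH5.Sy
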