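import Cfsg.Agent.S3157

/-! Two-groups with an involutory automorphism whose fixed points form a central four-group. -/

namespace CfsgH5.Tq
open Subgroup Function Cfsg.Agent.S3157
open scoped commutatorElement

universe u
variable {T : Type u} [Group T] [Finite T] {ρ τ : MulAut T}

theorem m3 (r3 : ∀ y, ρ (ρ (ρ y)) = y) (hfp : ∀ y : T, ρ y = y → y = 1) (K : Subgroup T)
    (h : ∀ y ∈ K, ρ y ∈ K) : Nat.card K % 3 = 1 := by
  classical
  haveI := Fintype.ofFinite K
  haveI : Fact (Nat.Prime 3) := ⟨by norm_num⟩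
  let f : Function.End K := fun y => ⟨ρ y, h _ y.2⟩
  have := Equiv.Perm.card_fixedPoints_modEq (f := f) (p := 3) (n := 1) (funext fun y => Subtype.ext (r3 y))
  rwa [← Nat.card_eq_fintype_card, ← Nat.card_eq_fintype_card, (Nat.card_eq_one_iff_exists (α := f.fixedPoints)).2
    ⟨⟨1, Subtype.ext (map_one ρ)⟩, fun y => Subtype.ext (Subtype.ext (hfp _ (congrArg Subtype.val y.2)))⟩] at this

theorem four (r3 : ∀ y, ρ (ρ (ρ y)) = y) (hfp : ∀ y : T, ρ y = y → y = 1) {K : Subgroup T}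
    (i : ∀ y ∈ K, ρ y ∈ K) (c : Nat.card K = 4) :
    (∀ z ∈ K, z ≠ 1 → ∀ w ∈ K, w = 1 ∨ w = z ∨ w = ρ z ∨ w = ρ (ρ z)) ∧ ∀ w ∈ K, w * w = 1 := by
  have ls : ∀ z ∈ K, z ≠ 1 → ∀ w ∈ K, w = 1 ∨ w = z ∨ w = ρ z ∨ w = ρ (ρ z) := fun z hz z1 w hw => by
    by_contra h
    push Not at h
    have a1 : ρ z ≠ z := fun e => z1 (hfp _ e)
    have a2 : ρ (ρ z) ≠ ρ z := fun e => a1 (ρ.injective e)
    have a3 : ρ (ρ z) ≠ z := fun e => a1 (by rw [← e, r3, e])
    have := Set.ncard_le_ncard (show ({w, 1, z, ρ z, ρ (ρ z)} : Set T) ⊆ K by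
      rintro _ (rfl | rfl | rfl | rfl | rfl)
      exacts [hw, one_mem _, hz, i _ hz, i _ (i _ hz)])
    rw [Set.ncard_insert_of_notMem (by simp [h]), Set.ncard_insert_of_notMem (by simp [eq_comm (a := (1 : T)), z1]),
      Set.ncard_insert_of_notMem (by simp [a1.symm, a3.symm]), Set.ncard_pair a2.symm, ← Nat.card_coe_set_eq] at this
    exact absurd (this.trans c.le) (by norm_num)
  refine ⟨ls, fun w hw => ?_⟩
  by_contra h
  have w4 : w * w * (w * w) = 1 := by
    have := congrArg Subtype.val (pow_card_eq_one' (x := (⟨w, hw⟩ : K)))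
    rw [c] at this
    simpa [pow_succ, mul_assoc] using this
  rcases ls _ (mul_mem hw hw) h w hw with e | e | e | e <;> refine h ?_ <;> rw [e] <;>
    simp only [← map_mul, w4, map_one, mul_one]

theorem NN (r3 : ∀ y, ρ (ρ (ρ y)) = y) (hfp : ∀ y : T, ρ y = y → y = 1) (y : T) : y * ρ y * ρ (ρ y) = 1 := by
  simpa [List.range_succ, mul_assoc] using MonoidHom.FixedPointFree.prod_pow_eq_one (φ := ρ) hfp (n := 3) (funext r3) y

omit [Finite T] in
theorem cc {f : T → T} (N : ∀ y, y * f y * f (f y) = 1) (i : ∀ y, f y⁻¹ = (f y)⁻¹) (y : T) : y * f y = f y * y := by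
  have := N y⁻¹
  rw [i, i, eq_inv_of_mul_eq_one_right (N y), inv_inv, ← mul_inv_rev, inv_mul_eq_one] at this
  exact this.symm

theorem engel (r3 : ∀ y, ρ (ρ (ρ y)) = y) (hfp : ∀ y : T, ρ y = y → y = 1) (y g : T) : Commute y (g * y * g⁻¹) := by
  have A : ∀ g y : T, Commute y (g * ρ y * g⁻¹) := fun g y => cc (f := fun y => g * ρ y * g⁻¹) (fun y => by
    have a := NN r3 hfp (y * g)
    have b := eq_inv_of_mul_eq_one_right (NN r3 hfp g)
    simp only [map_mul, map_inv] at a ⊢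
    rw [b] at a
    calc _ = y * g * (ρ y * ρ g) * (ρ (ρ y) * (g * ρ g)⁻¹) := by group
      _ = 1 := a) (fun y => by simp [mul_assoc]) y
  have B : Commute y (g * ρ (ρ y) * g⁻¹) := by
    have := (A g⁻¹ (ρ (ρ y))).symm.map (MulAut.conj g).toMonoidHom
    simpa [r3, mul_assoc] using this
  have e : y = (ρ y * ρ (ρ y))⁻¹ := eq_inv_of_mul_eq_one_left (by rw [← mul_assoc, NN r3 hfp])
  have := ((A g y).mul_right B).inv_right
  rwa [show (g * ρ y * g⁻¹ * (g * ρ (ρ y) * g⁻¹))⁻¹ = g * (ρ y * ρ (ρ y))⁻¹ * g⁻¹ by group, ← e] at this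

def qa (φ : MulAut T) (K : Subgroup T) [K.Normal] (h : ∀ y ∈ K, φ y ∈ K) : MulAut (T ⧸ K) :=
  QuotientGroup.congr K K φ (eq_of_le_of_card_ge (by rintro _ ⟨y, hy, rfl⟩; exact h y hy)
    (card_map_of_injective φ.injective).ge)

theorem qa_mk (φ : MulAut T) (K : Subgroup T) [K.Normal] (h) (y : T) : qa φ K h (y : T ⧸ K) = (φ y : T ⧸ K) := rfl

theorem fix0 (pT : IsPGroup 2 T) [Nontrivial T] (t2 : ∀ y, τ (τ y) = y) : ∃ y ∈ center T, y ≠ 1 ∧ τ y = y := by
  classical
  haveI := Fintype.ofFinite (center T)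
  haveI := pT.center_nontrivial
  let f : Function.End (center T) := fun y => ⟨τ y, invZ τ y.2⟩
  obtain ⟨b, hb, b1⟩ := Equiv.Perm.exists_fixed_point_of_prime' (p := 2) (n := 1)
    (σ := Involutive.toPerm f fun y => Subtype.ext (t2 y)) (by
      rw [← Nat.card_eq_fintype_card]
      exact ((pT.to_subgroup _).card_eq_or_dvd).resolve_left (Finite.one_lt_card_iff_nontrivial.2 ‹_›).ne')
    (Equiv.ext fun y => Subtype.ext (t2 y)) (a := 1) (Subtype.ext (map_one τ))
  exact ⟨b, b.2, fun e => b1 (Subtype.ext e), congrArg Subtype.val hb⟩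

theorem main (n : ℕ) : ∀ (T : Type u) [Group T] [Finite T] (τ ρ : MulAut T) (V : Subgroup T), Nat.card T = n →
    IsPGroup 2 T → (∀ y, τ (τ y) = y) → (∀ y, ρ (ρ (ρ y)) = y) → (∀ y, τ (ρ y) = ρ (τ y)) → (∀ y, ρ y = y → y = 1) →
    (∀ y, y ∈ V ↔ τ y = y) → V ≤ center T → Nat.card V = 4 →
    (Nat.card T = 16 ∧ ∀ x : T, x * x = 1) ∨ (∃ y, ∀ K : Subgroup T, y ∈ K → ρ y ∈ K → K = ⊤) ∨
      (Nat.card T = 64 ∧ ¬ IsMulCommutative T) := by
  induction n using Nat.strong_induction_on with | _ n ih => ?_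
  intro T _ _ τ ρ V hn pT t2 r3 tr hfp hV zV cV
  have rr : ∀ y, ρ (ρ y) = (y * ρ y)⁻¹ := fun y => eq_inv_of_mul_eq_one_right (NN r3 hfp y)
  have c0 := cc (NN r3 hfp) (map_inv ρ)
  have iV : ∀ y ∈ V, ρ y ∈ V := fun y hy => (hV _).2 (by rw [tr, (hV y).1 hy])
  have tV : ∀ y ∈ V, τ y ∈ V := fun y hy => by rwa [(hV y).1 hy]
  obtain ⟨lV, eV⟩ := four r3 hfp iV cV
  have VK : ∀ K : Subgroup T, ∀ v ∈ V, v ≠ 1 → v ∈ K → ρ v ∈ K → V ≤ K := fun K v hv v1 a b w hw => by
    rcases lV v hv v1 w hw with rfl | rfl | rfl | rfl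
    exacts [one_mem _, a, b, by rw [rr]; exact inv_mem (mul_mem a b)]
  by_cases hT : V = ⊤
  · obtain ⟨⟨v, hv⟩, v1⟩ := (ne_bot_iff_exists_ne_one (H := V)).1 fun e => by rw [e, card_bot] at cV; omega
    exact .inr (.inl ⟨v, fun K a b => eq_top_iff.2 (hT.ge.trans (VK K v hv (fun e => v1 (Subtype.ext e)) a b))⟩)
  haveI : V.Normal := ⟨fun a ha g => by rwa [mem_center_iff.1 (zV ha) g, mul_inv_cancel_right]⟩
  haveI : Nontrivial (T ⧸ V) := QuotientGroup.nontrivial_iff.2 hT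
  have cq := card_eq_card_quotient_mul_card_subgroup V
  rw [cV] at cq
  have pQ := pT.to_quotient V
  have t2' : ∀ y, qa τ V tV (qa τ V tV y) = y := fun y => by
    obtain ⟨y, rfl⟩ := QuotientGroup.mk_surjective y; simp only [qa_mk, t2]
  have r3' : ∀ y, qa ρ V iV (qa ρ V iV (qa ρ V iV y)) = y := fun y => by
    obtain ⟨y, rfl⟩ := QuotientGroup.mk_surjective y; simp only [qa_mk, r3]
  have tr' : ∀ y, qa τ V tV (qa ρ V iV y) = qa ρ V iV (qa τ V tV y) := fun y => by
    obtain ⟨y, rfl⟩ := QuotientGroup.mk_surjective y; simp only [qa_mk, tr]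
  have fp' : ∀ y, qa ρ V iV y = y → y = 1 := fun y e => by
    obtain ⟨y, rfl⟩ := QuotientGroup.mk_surjective y
    have h : (y : T ⧸ V) ^ 3 = 1 := by
      have := congrArg (QuotientGroup.mk (s := V)) (NN r3 hfp y)
      rw [QuotientGroup.mk_mul, QuotientGroup.mk_mul, ← qa_mk ρ V iV (ρ y), ← qa_mk ρ V iV y, e, e] at this
      simpa [pow_succ] using this
    obtain ⟨k, hk⟩ := pQ y
    exact orderOf_eq_one_iff.1 (Nat.eq_one_of_dvd_coprimes (Nat.Coprime.pow_right k (by norm_num : Nat.Coprime 3 2))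
      (orderOf_dvd_of_pow_eq_one h) (orderOf_dvd_of_pow_eq_one hk))
  let U := (qa τ V tV).toMonoidHom.eqLocus (MonoidHom.id _)
  have hU : ∀ y, y ∈ U ↔ qa τ V tV y = y := fun _ => Iff.rfl
  have mU : ∀ y : T, (y : T ⧸ V) ∈ U ↔ y⁻¹ * τ y ∈ V := fun y => by rw [hU, qa_mk, eq_comm, QuotientGroup.eq]
  have iU : ∀ y ∈ U, qa ρ V iV y ∈ U := fun y hy => (hU _).2 (by rw [tr', (hU y).1 hy])
  obtain ⟨y0, z0, n0, f0⟩ := fix0 pQ t2'
  have cU : Nat.card U = 4 := by
    have a := m3 r3' fp' U iU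
    have b := (one_lt_card_iff_ne_bot U).2 fun e => n0 (mem_bot.1 (e.le ((hU _).2 f0)))
    have c := Nat.card_le_card_of_injective (fun y : U => (⟨(y.1.out)⁻¹ * τ y.1.out, (mU _).1 (by simp)⟩ : V))
      fun y w e => Subtype.ext (by
        have e : (y.1.out)⁻¹ * τ y.1.out = (w.1.out)⁻¹ * τ w.1.out := congrArg Subtype.val e
        have : w.1.out * (y.1.out)⁻¹ ∈ V := (hV _).2 (by
          rw [map_mul, map_inv, mul_inv_eq_iff_eq_mul, mul_assoc, e, mul_inv_cancel_left])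
        rw [← y.1.out_eq', ← w.1.out_eq', QuotientGroup.eq]
        simpa [mul_assoc] using ‹V.Normal›.conj_mem _ this (y.1.out)⁻¹)
    omega
  obtain ⟨lU, eU⟩ := four r3' fp' iU cU
  have zU : U ≤ center _ := fun w hw => by
    rcases lU y0 ((hU _).2 f0) n0 w hw with rfl | rfl | rfl | rfl
    exacts [one_mem _, z0, invZ _ z0, invZ _ (invZ _ z0)]
  have E16 : ∀ c : T, c ∉ V → (c : T ⧸ V) ∈ U → c * c = 1 → Nat.card T = 16 ∧ ∀ x : T, x * x = 1 := fun c c1 c2 c3 => by
    have k : ∀ x : T, (x : T ⧸ V) ∈ U → x * x = 1 := fun x hx => by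
      have q : ∀ d : T, d * d = 1 → (x : T ⧸ V) = d → x * x = 1 := fun d hd e => by
        have m := QuotientGroup.eq.1 e.symm
        calc x * x = d * (d⁻¹ * x * d) * (d⁻¹ * x) := by group
          _ = d * d * (d⁻¹ * x * (d⁻¹ * x)) := by rw [← mem_center_iff.1 (zV m) d]; group
          _ = 1 := by rw [hd, eV _ m, mul_one]
      rcases lU c c2 (fun e => c1 ((QuotientGroup.eq_one_iff _).1 e)) x hx with e | e | e | e
      exacts [q 1 (one_mul 1) e, q c c3 e, q (ρ c) (by rw [← map_mul, c3, map_one]) e,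
        q (ρ (ρ c)) (by rw [← map_mul, ← map_mul, c3, map_one, map_one]) e]
    by_cases e : U = ⊤
    · exact ⟨by rw [e, card_top] at cU; omega, fun x => k x (e.ge (mem_top _))⟩
    haveI : U.Normal := ⟨fun a ha g => by rwa [mem_center_iff.1 (zU ha) g, mul_inv_cancel_right]⟩
    haveI : Nontrivial ((T ⧸ V) ⧸ U) := QuotientGroup.nontrivial_iff.2 e
    have tU : ∀ y ∈ U, qa τ V tV y ∈ U := fun y hy => by rwa [(hU y).1 hy]
    obtain ⟨y, -, y1, y2⟩ := fix0 (τ := qa (qa τ V tV) U tU) (pQ.to_quotient U) fun y => by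
      obtain ⟨y, rfl⟩ := QuotientGroup.mk_surjective y; simp only [qa_mk, t2']
    obtain ⟨y, rfl⟩ := QuotientGroup.mk_surjective y
    obtain ⟨y, rfl⟩ := QuotientGroup.mk_surjective y
    refine absurd ((QuotientGroup.eq_one_iff _).2 ((mU y).2 ((hV _).2 ?_))) y1
    rw [← inv_eq_of_mul_eq_one_right (k (y⁻¹ * τ y) (QuotientGroup.eq.1 y2.symm)), map_inv, map_mul, map_inv, t2]
    simp [inv_eq_of_mul_eq_one_right (k (y⁻¹ * τ y) (QuotientGroup.eq.1 y2.symm))]
  have AB : (∀ a b : T, a * b = b * a) → ∀ c : T, c ∉ V → c * c = 1 → Nat.card T = 16 ∧ ∀ x : T, x * x = 1 :=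
    fun h c c1 c3 => E16 c c1 ((mU c).2 ((hV _).2 (by
      rw [map_mul, map_inv, t2, inv_eq_of_mul_eq_one_right c3, inv_eq_of_mul_eq_one_right (a := τ c) (b := τ c)
        (by rw [← map_mul, c3, map_one]), h]))) c3
  have := Nat.card_pos (α := T ⧸ V)
  rcases ih _ (by omega) (T ⧸ V) _ _ U rfl pQ t2' r3' tr' fp' hU zU cU with ⟨h1, h2⟩ | ⟨y, h⟩ | ⟨h1, h2⟩
  · by_cases h : IsMulCommutative T
    · refine .inl ?_
      by_contra e
      have hk : ∀ c : T, c * c = 1 → c ∈ V := fun c hc => by_contra fun k => e (AB h.is_comm.comm c k hc)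
      let s : T →* T := MonoidHom.mk' (fun x => x * x) fun a b => by
        rw [mul_assoc, ← mul_assoc b, h.is_comm.comm b a]; simp only [mul_assoc]
      have a := card_le_of_le (show s.ker ≤ V from hk)
      have b := card_le_of_le (show s.range ≤ V by rintro _ ⟨x, rfl⟩; exact (QuotientGroup.eq_one_iff _).1 (h2 x))
      have c := s.ker.card_mul_index
      rw [index_ker] at c
      nlinarith
    · exact .inr (.inr ⟨by omega, h⟩)
  · obtain ⟨y, rfl⟩ := QuotientGroup.mk_surjective y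
    have top : ∀ K : Subgroup T, y ∈ K → ρ y ∈ K → V ≤ K → K = ⊤ := fun K a b l => by
      rw [← comap_map_eq_self (f := QuotientGroup.mk' V) (H := K) (by rwa [QuotientGroup.ker_mk']),
        h (K.map (QuotientGroup.mk' V)) (mem_map_of_mem _ a) (mem_map_of_mem _ b), comap_top]
    have zy : y ∈ center T := mem_center_iff.2 fun g => mem_centralizer_singleton_iff.1 ((top (centralizer {y})
      (mem_centralizer_singleton_iff.2 rfl) (mem_centralizer_singleton_iff.2 (c0 y).symm)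
        (zV.trans (center_le_centralizer _))).ge (mem_top g))
    have ab : ∀ a b : T, a * b = b * a := fun a b => mem_center_iff.1 ((top _ zy (invZ ρ zy) zV).ge (mem_top b)) a
    have y1 : y ≠ 1 := fun e => hT (top V (e ▸ one_mem _) (by rw [e, map_one]; exact one_mem _) le_rfl)
    obtain ⟨⟨_, k, rfl⟩, hc⟩ := exists_prime_orderOf_dvd_card' (G := zpowers y) 2
      (((pT.to_subgroup _).card_eq_or_dvd).resolve_left fun e => y1 (zpowers_eq_bot.1 (eq_bot_of_card_eq _ e)))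
    rw [← orderOf_coe] at hc
    change orderOf (y ^ k) = 2 at hc
    by_cases m : y ^ k ∈ V
    · exact .inr (.inl ⟨y, fun K a b => top K a b (VK K _ m (fun e => by simp [e] at hc) (zpow_mem a k)
        (by rw [map_zpow]; exact zpow_mem b k))⟩)
    · exact .inl (AB ab _ m (by rw [← sq, ← hc, pow_orderOf_eq_one]))
  · obtain ⟨-, -, cZ, c1⟩ := str h1 h2 r3' fp'
    have ZU : center _ = U := (eq_of_le_of_card_ge zU (by omega)).symm
    rw [ZU] at c1
    have sq : ∀ u : T ⧸ V, u * u ∈ U := fun u => ZU ▸ mem_center_iff.2 fun g =>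
      (commutatorElement_eq_one_iff_mul_comm.1 (by
        calc ⁅u * u, g⁆ = u * ⁅u, g⁆ * u⁻¹ * ⁅u, g⁆ := by group
          _ = 1 := by rw [mem_center_iff.1 (zU (c1 u g)) u, mul_inv_cancel_right, eU _ (c1 u g)])).symm
    obtain ⟨y, hy⟩ : ∃ y : T ⧸ V, y * y ≠ 1 := by
      by_contra e
      push Not at e
      exact h2 ⟨⟨fun a b => by
        rw [← inv_eq_of_mul_eq_one_right (e (a * b)), mul_inv_rev, inv_eq_of_mul_eq_one_right (e a),
          inv_eq_of_mul_eq_one_right (e b)]⟩⟩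
    obtain ⟨g, hg⟩ : ∃ g : T ⧸ V, ⁅y, g⁆ ≠ 1 := by
      by_contra e
      push Not at e
      exact hy (eU y (ZU ▸ mem_center_iff.2 fun g => (commutatorElement_eq_one_iff_mul_comm.1 (e g)).symm))
    obtain ⟨y, rfl⟩ := QuotientGroup.mk_surjective y
    obtain ⟨g, rfl⟩ := QuotientGroup.mk_surjective g
    refine .inl (E16 ⁅y, g⁆ (fun e => hg ((QuotientGroup.eq_one_iff ⁅y, g⁆).2 e)) (c1 y g) ?_)
    have cy : Commute y (ρ y) := c0 y
    have k : Commute y (g * g) := by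
      have q : ∀ d : T, Commute y d → ((g * g : T) : T ⧸ V) = d → Commute y (g * g) := fun d hd e => by
        have := hd.mul_right (mem_center_iff.1 (zV (QuotientGroup.eq.1 e.symm)) y)
        rwa [mul_inv_cancel_left] at this
      rcases lU _ (sq y) hy _ (sq g) with e | e | e | e
      · exact q 1 (Commute.one_right _) e
      · exact q (y * y) ((Commute.refl y).mul_right (Commute.refl y)) e
      · exact q (ρ (y * y)) (by rw [map_mul]; exact cy.mul_right cy) e
      · have c2 : Commute y (ρ (ρ y)) := by rw [rr]; exact ((Commute.refl y).mul_right cy).inv_right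
        exact q (ρ (ρ (y * y))) (by rw [map_mul, map_mul]; exact c2.mul_right c2) e
    have e1 : Commute g ⁅y, g⁆ := by
      rw [commutatorElement_def]; exact (engel r3 hfp g y).mul_right (Commute.refl g).inv_right
    calc ⁅y, g⁆ * ⁅y, g⁆ = ⁅y, g⁆ * (g * ⁅y, g⁆ * g⁻¹) := by rw [e1.eq, mul_inv_cancel_right]
      _ = ⁅y, g * g⁆ := by group
      _ = 1 := commutatorElement_eq_one_iff_commute.2 k

end CfsgH5.Tq
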