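import Cfsg.Agent.H5.Tq
import Cfsg.Agent.H5.C320

/-! Two-groups with three involutions permuted by an automorphism. -/

namespace CfsgH5.Tq2
open Subgroup Function Cfsg.Agent.S3157 CfsgH5.Tq CfsgH2
open scoped commutatorElement

universe u
variable {T : Type u} [Group T] [Finite T] {ψ : MulAut T} {V : Subgroup T}

theorem lst (r3 : ∀ y ∈ V, ψ (ψ (ψ y)) = y) (hfp : ∀ y ∈ V, ψ y = y → y = 1) (i : ∀ y ∈ V, ψ y ∈ V)
    (c : Nat.card V = 4) : ∀ z ∈ V, z ≠ 1 → ∀ w ∈ V, w = 1 ∨ w = z ∨ w = ψ z ∨ w = ψ (ψ z) := fun z hz z1 w hw => by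
  by_contra h
  push Not at h
  have a1 : ψ z ≠ z := fun e => z1 (hfp _ hz e)
  have a2 : ψ (ψ z) ≠ ψ z := fun e => a1 (ψ.injective e)
  have a3 : ψ (ψ z) ≠ z := fun e => a1 (by rw [← e, r3 z hz, e])
  have := Set.ncard_le_ncard (show ({w, 1, z, ψ z, ψ (ψ z)} : Set T) ⊆ V by
    rintro _ (rfl | rfl | rfl | rfl | rfl)
    exacts [hw, one_mem _, hz, i _ hz, i _ (i _ hz)])
  rw [Set.ncard_insert_of_notMem (by simp [h]), Set.ncard_insert_of_notMem (by simp [eq_comm (a := (1 : T)), z1]),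
    Set.ncard_insert_of_notMem (by simp [a1.symm, a3.symm]), Set.ncard_pair a2.symm, ← Nat.card_coe_set_eq] at this
  exact absurd (this.trans c.le) (by norm_num)

theorem ord3 (pT : IsPGroup 2 T) (hV : ∀ y, y ∈ V ↔ y * y = 1) (zV : V ≤ center T) (cV : Nat.card V = 4) {a : ℕ}
    (ha : ψ ^ 3 ^ a = 1) (r3 : ∀ y ∈ V, ψ (ψ (ψ y)) = y) (hfp : ∀ y ∈ V, ψ y = y → y = 1) (y : T) : ψ (ψ (ψ y)) = y := by
  classical
  haveI : Fact (Nat.Prime 3) := ⟨by norm_num⟩
  have iV : ∀ y ∈ V, ψ y ∈ V := fun y hy => (hV _).2 (by rw [← map_mul, (hV y).1 hy, map_one])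
  have ls := lst r3 hfp iV cV
  let θ := ψ ^ 3
  have eθ : ∀ y, θ y = ψ (ψ (ψ y)) := fun _ => rfl
  have θa : θ ^ 3 ^ a = 1 := by rw [← pow_mul, mul_comm, pow_mul, ha, one_pow]
  by_contra hy
  obtain ⟨D, ⟨iD, x, xD, xθ⟩, hm⟩ := exists_minimal_of_wellFoundedLT
    (fun D : Subgroup T => (∀ x ∈ D, ψ x ∈ D) ∧ ∃ x ∈ D, θ x ≠ x) ⟨⊤, fun _ _ => trivial, y, trivial, hy⟩
  have pr : ∀ K ≤ D, (∀ x ∈ K, ψ x ∈ K) → K ≠ D → ∀ x ∈ K, θ x = x := fun K l i n x hx =>
    by_contra fun e => n (le_antisymm l (hm ⟨i, x, hx, e⟩ l))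
  have ic : ∀ s : Set T, (∀ x ∈ s, ψ x ∈ s) → ∀ x ∈ closure s, ψ x ∈ closure s := fun s h =>
    show closure s ≤ (closure s).comap ψ.toMonoidHom from (closure_le _).2 fun x hx => subset_closure (h x hx)
  have tD : ∀ x ∈ D, θ x ∈ D := fun x hx => iD _ (iD _ (iD _ hx))
  have K1 : ∀ L : Subgroup T, (∀ x ∈ D, x⁻¹ * θ x ∈ L) → D ≤ L := fun L h => by
    have e : closure {w | ∃ x ∈ D, x⁻¹ * θ x = w} = D := by
      by_contra n
      have f := pr _ ((closure_le _).2 (by rintro _ ⟨x, hx, rfl⟩; exact mul_mem (inv_mem hx) (tD x hx)))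
        (ic _ (by rintro _ ⟨x, hx, rfl⟩; exact ⟨ψ x, iD x hx, by simp [eθ]⟩)) n _ (subset_closure ⟨x, xD, rfl⟩)
      have k : ∀ n : ℕ, (θ ^ n) x = x * (x⁻¹ * θ x) ^ n := fun n => by
        induction n with
        | zero => simp
        | succ n ih => rw [pow_succ', MulAut.mul_apply, ih, map_mul, map_pow, f, pow_succ', ← mul_assoc, mul_inv_cancel_left]
      have k1 := k (3 ^ a)
      rw [θa, MulAut.one_apply, left_eq_mul] at k1
      obtain ⟨k, hk⟩ := pT (x⁻¹ * θ x)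
      exact xθ (inv_mul_eq_one.1 (orderOf_eq_one_iff.1 (Nat.eq_one_of_dvd_coprimes
        (Nat.Coprime.pow a k (by norm_num : Nat.Coprime 3 2)) (orderOf_dvd_of_pow_eq_one k1)
          (orderOf_dvd_of_pow_eq_one hk)))).symm
    exact e.ge.trans ((closure_le _).2 (by rintro _ ⟨x, hx, rfl⟩; exact h x hx))
  have D0 : D ≠ ⊥ := fun e => xθ (by rw [mem_bot.1 (e.le xD), map_one])
  have sθ : ∀ x ∈ D, θ (x * x) = x * x := fun x hx => by
    have l : closure {w | ∃ x ∈ D, x * x = w} ≤ Φ[D] := (closure_le _).2 (by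
      rintro _ ⟨x, hx, rfl⟩; rw [← sq]; exact pow_mem_phi (pT.to_subgroup D) hx)
    exact pr _ (l.trans phi_le) (ic _ (by rintro _ ⟨x, hx, rfl⟩; exact ⟨ψ x, iD x hx, by simp⟩))
      (l.trans_lt (phi_lt D0)).ne _ (subset_closure ⟨x, hx, rfl⟩)
  have cθ : ∀ x ∈ D, ∀ y ∈ D, θ ⁅x, y⁆ = ⁅x, y⁆ := fun x hx y hy => by
    rw [show ⁅x, y⁆ = x * y * (x * y) * (y⁻¹ * x⁻¹ * y * (y⁻¹ * x⁻¹ * y)) * (y⁻¹ * y⁻¹) by group, map_mul, map_mul,
      sθ _ (mul_mem hx hy), sθ _ (mul_mem (mul_mem (inv_mem hy) (inv_mem hx)) hy), sθ _ (inv_mem hy)]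
  have cE : ∀ e ∈ D, θ e = e → ∀ x ∈ D, x * e = e * x := fun e he h x hx =>
    mem_centralizer_singleton_iff.1 (K1 (centralizer {e}) (fun x hx => mem_centralizer_singleton_iff.2 (by
      have := cθ x hx e he
      rw [map_commutatorElement, h, commutatorElement_def, commutatorElement_def, mul_left_inj] at this
      calc x⁻¹ * θ x * e = x⁻¹ * (θ x * e * (θ x)⁻¹) * θ x := by group
        _ = _ := by rw [this]; group)) hx)
  have cD : ∀ x ∈ D, ∀ y ∈ D, ⁅x, y⁆ ∈ D := fun x hx y hy =>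
    mul_mem (mul_mem (mul_mem hx hy) (inv_mem hx)) (inv_mem hy)
  have cz : ∀ x ∈ D, ∀ y ∈ D, ∀ g ∈ D, g * ⁅x, y⁆ = ⁅x, y⁆ * g := fun x hx y hy => cE _ (cD x hx y hy) (cθ x hx y hy)
  have bl : ∀ u ∈ D, ∀ v ∈ D, ∀ w ∈ D, ⁅u * v, w⁆ = ⁅u, w⁆ * ⁅v, w⁆ := fun u hu v hv w hw => by
    calc ⁅u * v, w⁆ = u * ⁅v, w⁆ * u⁻¹ * ⁅u, w⁆ := by group
      _ = _ := by rw [cz v hv w hw u hu, mul_inv_cancel_right, cz u hu w hw _ (cD v hv w hw)]
  have c1 : ∀ x ∈ D, ∀ y ∈ D, ⁅x, y⁆ ∈ V := fun x hx y hy => (hV _).2 (by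
    rw [← bl x hx x hx y hy]
    exact commutatorElement_eq_one_iff_mul_comm.2 (cE _ (mul_mem hx hx) (sθ x hx) y hy).symm)
  have zc : ∀ w ∈ V, ∀ g, g * w = w * g := fun w hw => mem_center_iff.1 (zV hw)
  have s2 : ∀ u ∈ D, ∀ v ∈ D, u * v * (u * v) = u * u * (v * v) * ⁅u, v⁆ := fun u hu v hv => by
    have := inv_eq_of_mul_eq_one_right ((hV _).1 (c1 u hu v hv))
    rw [commutatorElement_inv] at this
    calc _ = u * (⁅v, u⁆ * u) * (v * v) := by group
      _ = u * u * (⁅u, v⁆ * (v * v)) := by rw [this, ← zc _ (c1 u hu v hv) u]; simp only [mul_assoc]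
      _ = _ := by rw [← zc _ (c1 u hu v hv), mul_assoc (u * u)]
  have c2 : ∀ x ∈ D, x * x ∈ V := fun x hx => (K1
    { carrier := {x | x ∈ D ∧ x * x ∈ V}
      mul_mem' := fun {a b} ⟨a1, a2⟩ ⟨b1, b2⟩ => ⟨mul_mem a1 b1, by
        rw [s2 a a1 b b1]; exact mul_mem (mul_mem a2 b2) (c1 a a1 b b1)⟩
      one_mem' := ⟨one_mem _, by simpa using one_mem V⟩
      inv_mem' := fun {a} ⟨a1, a2⟩ => ⟨inv_mem a1, by rw [← mul_inv_rev]; exact inv_mem a2⟩ }
    (fun x hx => ⟨mul_mem (inv_mem hx) (tD x hx), by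
      rw [s2 _ (inv_mem hx) _ (tD x hx), ← map_mul, sθ x hx, ← mul_inv_rev, inv_mul_cancel, one_mul]
      exact c1 _ (inv_mem hx) _ (tD x hx)⟩) hx).2
  have xV : x ∉ V := fun e => xθ (r3 x e)
  have v1 : x * x ≠ 1 := fun e => xV ((hV x).2 e)
  have vV := c2 x xD
  have EV : ∀ e ∈ D, θ e = e → e * e = x * x ∨ ψ e * ψ e = x * x ∨ ψ (ψ e) * ψ (ψ e) = x * x → False := fun e he h k => by
    have q : ∀ e ∈ D, θ e = e → e * e = x * x → False := fun e he h k => xθ (by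
      have := r3 _ ((hV (x * e)).2 (by
        rw [s2 x xD e he, k, (hV _).1 vV, one_mul, commutatorElement_eq_one_iff_mul_comm, cE e he h x xD]))
      rwa [← eθ, map_mul, h, mul_left_inj] at this)
    have i : ∀ e, θ e = e → θ (ψ e) = ψ e := fun e h => congrArg ψ h
    rcases k with k | k | k
    exacts [q e he h k, q _ (iD e he) (i e h) k, q _ (iD _ (iD e he)) (i _ (i e h)) k]
  have VD : V ≤ D := fun w hw => by
    have := mul_mem xD xD
    rcases ls _ vV v1 w hw with rfl | rfl | rfl | rfl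
    exacts [one_mem _, this, iD _ this, iD _ (iD _ this)]
  have n1 : ∀ z, z ≠ 1 → ψ z ≠ 1 := fun z n e => n ((map_eq_one_iff ψ ψ.injective).1 e)
  have f1 : ψ (x * x) ≠ x * x := fun e => v1 (hfp _ vV e)
  have f2 : ψ (ψ (x * x)) ≠ ψ (x * x) := fun e => f1 (ψ.injective e)
  have f3 : ψ (ψ (x * x)) ≠ x * x := fun e => f1 (by rw [← e, r3 _ vV, e])
  have big : 256 ≤ Nat.card D := by
    let X : T → Set T := fun v => {g | g ∈ D ∧ g * g = v}
    have xi : ∀ v, (X (ψ v)).ncard = (X v).ncard := fun v => by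
      have l : ∀ v, (X v).ncard ≤ (X (ψ v)).ncard := fun v => Set.ncard_le_ncard_of_injOn ψ
        (fun g ⟨a, b⟩ => ⟨iD g a, by rw [← map_mul, b]⟩) ψ.injective.injOn
      have k : ∀ n : ℕ, (X (ψ v)).ncard ≤ (X ((ψ ^ (n + 1)) v)).ncard := fun n => by
        induction n with
        | zero => simp
        | succ n ih => rw [pow_succ' ψ (n + 1)]; exact ih.trans (l _)
      refine le_antisymm ?_ (l v)
      simpa [Nat.sub_add_cancel (Nat.one_le_pow a 3 (by norm_num)), ha] using k (3 ^ a - 1)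
    have d3 : (X (x * x)).ncard % 3 = 0 := by
      haveI := Fintype.ofFinite (X (x * x))
      let f : Function.End (X (x * x)) := fun g => ⟨θ g, tD _ g.2.1, by rw [← map_mul, g.2.2]; exact r3 _ vV⟩
      have k : ∀ n : ℕ, ∀ g, ((f ^ n) g).1 = (θ ^ n) g.1 := fun n g => by
        induction n with
        | zero => rfl
        | succ n ih => rw [pow_succ', pow_succ', MulAut.mul_apply, ← ih]; rfl
      have := Equiv.Perm.card_fixedPoints_modEq (f := f) (p := 3) (n := a) (funext fun g => Subtype.ext (by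
        rw [k, θa]; rfl))
      haveI ie : IsEmpty f.fixedPoints := ⟨fun g => EV g.1.1 g.1.2.1 (congrArg Subtype.val g.2) (.inl g.1.2.2)⟩
      rwa [Fintype.card_eq_zero (α := f.fixedPoints), ← Nat.card_eq_fintype_card, Nat.card_coe_set_eq] at this
    have dj : ∀ {v w}, v ≠ w → Disjoint (X v) (X w) := fun n => Set.disjoint_left.2 fun g a b => n (a.2.symm.trans b.2)
    have e : (D : Set T) = X 1 ∪ (X (x * x) ∪ (X (ψ (x * x)) ∪ X (ψ (ψ (x * x))))) := Set.ext fun g =>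
      ⟨fun h => by rcases ls _ vV v1 _ (c2 g h) with e | e | e | e <;> simp [X, show g ∈ D from h, e],
        by rintro (h | h | h | h) <;> exact h.1⟩
    have e1 : X 1 = V := Set.ext fun g => ⟨fun h => (hV g).2 h.2, fun h => ⟨VD h, (hV g).1 h⟩⟩
    have c := congrArg Set.ncard e
    rw [Set.ncard_union_eq (by
        simp only [Set.disjoint_union_right]; exact ⟨dj v1.symm, dj (n1 _ v1).symm, dj (n1 _ (n1 _ v1)).symm⟩),
      Set.ncard_union_eq (Set.disjoint_union_right.2 ⟨dj f1.symm, dj f3.symm⟩), Set.ncard_union_eq (dj f2.symm), xi, xi, xi, e1,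
      ← Nat.card_coe_set_eq, ← Nat.card_coe_set_eq (V : Set T)] at c
    have p : 0 < (X (x * x)).ncard := (Set.ncard_pos (Set.toFinite _)).2 ⟨x, xD, rfl⟩
    change Nat.card D = Nat.card V + _ at c
    obtain ⟨k, hk⟩ := IsPGroup.iff_card.1 (pT.to_subgroup D)
    rw [hk] at c ⊢
    by_contra l
    have : k < 8 := (Nat.pow_lt_pow_iff_right (a := 2) (by norm_num)).1 (by omega)
    interval_cases k <;> omega
  let χ : D →* T := MonoidHom.mk' (fun g => ⁅g.1, x⁆) fun a b => bl _ a.2 _ b.2 _ xD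
  have cH : 64 ≤ Nat.card (χ.ker.map D.subtype) := by
    rw [card_map_of_injective D.subtype_injective]
    have b := card_le_of_le (show χ.range ≤ V by rintro _ ⟨g, rfl⟩; exact c1 _ g.2 _ xD)
    have c := χ.ker.card_mul_index
    rw [index_ker] at c
    nlinarith
  have st : ∀ K : Subgroup T, V ≤ K → K ≤ D → ∀ g ∈ D, Nat.card (K ⊔ zpowers g : Subgroup T) ≤ Nat.card K * 2 :=
    fun K l m g hg => C320.card_le two_pos (mem_norm_of_map_le (map_cj_le_iff'.2 fun w hw => by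
      rw [show g * w * g⁻¹ = ⁅g, w⁆ * w by group]; exact mul_mem (l (c1 g hg w (m hw))) hw)) (l (by rw [sq]; exact c2 g hg))
  have pk : ∀ K : Subgroup T, Nat.card K ≤ 32 → ∃ g ∈ D, ⁅g, x⁆ = 1 ∧ g ∉ K := fun K h => by
    obtain ⟨_, ⟨g, hg, rfl⟩, n⟩ := SetLike.not_le_iff_exists.1 fun l : χ.ker.map D.subtype ≤ K => by
      have := card_le_of_le l; omega
    exact ⟨g, g.2, hg, n⟩
  have m0 := st V le_rfl VD x xD
  have l0 : V ⊔ zpowers x ≤ D := sup_le VD (zpowers_le.2 xD)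
  obtain ⟨y1, d1, e1, k1⟩ := pk (V ⊔ zpowers x) (by omega)
  have m1 := st _ le_sup_left l0 y1 d1
  have l1 : V ⊔ zpowers x ⊔ zpowers y1 ≤ D := sup_le l0 (zpowers_le.2 d1)
  obtain ⟨y2, d2, e2, k2⟩ := pk (V ⊔ zpowers x ⊔ zpowers y1) (by omega)
  have m2 := st _ (le_sup_left.trans le_sup_left) l1 y2 d2
  obtain ⟨y3, d3, e3, k3⟩ := pk (V ⊔ zpowers x ⊔ zpowers y1 ⊔ zpowers y2) (by omega)
  have R1 : ∀ g ∈ D, ⁅g, x⁆ = 1 → g ∉ V ⊔ zpowers x → g * g ∉ zpowers (x * x) := fun g hg h n ⟨k, e⟩ => by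
    have e : (x * x) ^ k = g * g := e
    obtain ⟨j, rfl | rfl⟩ := Int.even_or_odd' k
    · exact n (mem_sup_left ((hV g).2 (by rw [← e, zpow_mul, zpow_two, (hV _).1 vV, one_zpow])))
    · rw [zpow_add_one, zpow_mul, zpow_two, (hV _).1 vV, one_zpow, one_mul] at e
      exact n ((mul_mem_cancel_right (mem_sup_right (mem_zpowers x))).1 (mem_sup_left ((hV (g * x)).2 (by
        rw [s2 g hg x xD, ← e, h, (hV _).1 vV, one_mul]))))
  have R2 : ∀ w ∈ V, ∀ u ∈ V, w ∉ zpowers (x * x) → u ∉ zpowers (x * x) → w * u ∈ zpowers (x * x) := fun w hw u hu a b => by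
    have i1 := iV _ vV
    have i2 := iV _ i1
    have q : ψ (x * x) * ψ (ψ (x * x)) ∈ zpowers (x * x) := by
      rcases ls _ vV v1 _ (mul_mem i1 i2) with e | e | e | e
      · rw [e]; exact one_mem _
      · rw [e]; exact mem_zpowers _
      · exact absurd (mul_eq_left.1 e) (n1 _ (n1 _ v1))
      · exact absurd (mul_eq_right.1 e) (n1 _ v1)
    rcases ls _ vV v1 w hw with rfl | rfl | rfl | rfl
    · exact absurd (one_mem _) a
    · exact absurd (mem_zpowers _) a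
    all_goals
      rcases ls _ vV v1 u hu with rfl | rfl | rfl | rfl
      · exact absurd (one_mem _) b
      · exact absurd (mem_zpowers _) b
      all_goals first | exact q | (rw [zc _ i1]; exact q) | (rw [(hV _).1 hw]; exact one_mem _)
  have R3 : ∀ g ∈ D, ∀ h ∈ D, ⁅g, x⁆ = 1 → ⁅h, x⁆ = 1 → g ∉ V ⊔ zpowers x → h ∉ V ⊔ zpowers x → g * h ∉ V ⊔ zpowers x →
      ⁅g, h⁆ ∉ zpowers (x * x) := fun g hg h hh a b c d e k => R1 _ (mul_mem hg hh) (by rw [bl g hg h hh x xD, a, b, one_mul]) e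
    (by rw [s2 g hg h hh]; exact mul_mem (R2 _ (c2 g hg) _ (c2 h hh) (R1 g hg a c) (R1 h hh b d)) k)
  have A1 : y1 ∈ V ⊔ zpowers x ⊔ zpowers y1 := mem_sup_right (mem_zpowers y1)
  have A2 : y2 ∈ V ⊔ zpowers x ⊔ zpowers y1 ⊔ zpowers y2 := mem_sup_right (mem_zpowers y2)
  have k2' : y2 ∉ V ⊔ zpowers x := fun e => k2 (mem_sup_left e)
  have k3' : ∀ g ∈ V ⊔ zpowers x ⊔ zpowers y1 ⊔ zpowers y2, g * y3 ∉ V ⊔ zpowers x := fun g hg e =>
    k3 ((mul_mem_cancel_left hg).1 (mem_sup_left (mem_sup_left e)))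
  have k30 : y3 ∉ V ⊔ zpowers x := by simpa using k3' 1 (one_mem _)
  refine R3 _ (mul_mem d1 d2) y3 d3 (by rw [bl _ d1 _ d2 x xD, e1, e2, one_mul]) e3
    (fun e => k2 ((mul_mem_cancel_left A1).1 (mem_sup_left e))) k30 (k3' _ (mul_mem (mem_sup_left A1) A2)) ?_
  rw [bl _ d1 _ d2 _ d3]
  exact R2 _ (c1 _ d1 _ d3) _ (c1 _ d2 _ d3) (R3 _ d1 _ d3 e1 e3 k1 k30 (k3' _ (mem_sup_left A1)))
    (R3 _ d2 _ d3 e2 e3 k2' k30 (k3' _ A2))

theorem main (n : ℕ) : ∀ (T : Type u) [Group T] [Finite T] (ρ : MulAut T) (V : Subgroup T), Nat.card T = n →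
    IsPGroup 2 T → (∀ y, ρ (ρ (ρ y)) = y) → (∀ y, ρ y = y → y = 1) →
    (∀ y, y ∈ V ↔ y * y = 1) → V ≤ center T → Nat.card V = 4 →
    (∃ y, ∀ K : Subgroup T, y ∈ K → ρ y ∈ K → K = ⊤) ∨ (Nat.card T = 64 ∧ ¬ IsMulCommutative T) := by
  induction n using Nat.strong_induction_on with | _ n ih => ?_
  intro T _ _ ρ V hn pT r3 hfp hV zV cV
  have rr : ∀ y, ρ (ρ y) = (y * ρ y)⁻¹ := fun y => eq_inv_of_mul_eq_one_right (NN r3 hfp y)
  have c0 := cc (NN r3 hfp) (map_inv ρ)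
  have iV : ∀ y ∈ V, ρ y ∈ V := fun y hy => (hV _).2 (by rw [← map_mul, (hV y).1 hy, map_one])
  obtain ⟨lV, eV⟩ := four r3 hfp iV cV
  have VK : ∀ K : Subgroup T, ∀ v ∈ V, v ≠ 1 → v ∈ K → ρ v ∈ K → V ≤ K := fun K v hv v1 a b w hw => by
    rcases lV v hv v1 w hw with rfl | rfl | rfl | rfl
    exacts [one_mem _, a, b, by rw [rr]; exact inv_mem (mul_mem a b)]
  by_cases hT : V = ⊤
  · obtain ⟨⟨v, hv⟩, v1⟩ := (ne_bot_iff_exists_ne_one (H := V)).1 fun e => by rw [e, card_bot] at cV; omega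
    exact .inl ⟨v, fun K a b => eq_top_iff.2 (hT.ge.trans (VK K v hv (fun e => v1 (Subtype.ext e)) a b))⟩
  haveI : V.Normal := ⟨fun a ha g => by rwa [mem_center_iff.1 (zV ha) g, mul_inv_cancel_right]⟩
  haveI : Nontrivial (T ⧸ V) := QuotientGroup.nontrivial_iff.2 hT
  have cq := card_eq_card_quotient_mul_card_subgroup V
  rw [cV] at cq
  have pQ := pT.to_quotient V
  have r3' : ∀ y, qa ρ V iV (qa ρ V iV (qa ρ V iV y)) = y := fun y => by
    obtain ⟨y, rfl⟩ := QuotientGroup.mk_surjective y; simp only [qa_mk, r3]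
  have fp' : ∀ y, qa ρ V iV y = y → y = 1 := fun y e => by
    obtain ⟨y, rfl⟩ := QuotientGroup.mk_surjective y
    have h : (y : T ⧸ V) ^ 3 = 1 := by
      have := congrArg (QuotientGroup.mk (s := V)) (NN r3 hfp y)
      rw [QuotientGroup.mk_mul, QuotientGroup.mk_mul, ← qa_mk ρ V iV (ρ y), ← qa_mk ρ V iV y, e, e] at this
      simpa [pow_succ] using this
    obtain ⟨k, hk⟩ := pQ y
    exact orderOf_eq_one_iff.1 (Nat.eq_one_of_dvd_coprimes (Nat.Coprime.pow_right k (by norm_num : Nat.Coprime 3 2))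
      (orderOf_dvd_of_pow_eq_one h) (orderOf_dvd_of_pow_eq_one hk))
  have En : ∀ y g : T, Commute y (g * g) → ⁅y, g⁆ ∈ V := fun y g k => (hV _).2 (by
    have e1 : Commute g ⁅y, g⁆ := by
      rw [commutatorElement_def]; exact (engel r3 hfp g y).mul_right (Commute.refl g).inv_right
    calc ⁅y, g⁆ * ⁅y, g⁆ = ⁅y, g⁆ * (g * ⁅y, g⁆ * g⁻¹) := by rw [e1.eq, mul_inv_cancel_right]
      _ = ⁅y, g * g⁆ := by group
      _ = 1 := commutatorElement_eq_one_iff_commute.2 k)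
  have zq : ∀ g : T ⧸ V, g * g = 1 → g ∈ center (T ⧸ V) := fun g hg => mem_center_iff.2 fun y => by
    obtain ⟨y, rfl⟩ := QuotientGroup.mk_surjective y
    obtain ⟨g, rfl⟩ := QuotientGroup.mk_surjective g
    exact commutatorElement_eq_one_iff_mul_comm.1 ((QuotientGroup.eq_one_iff ⁅y, g⁆).2
      (En y g (mem_center_iff.1 (zV ((QuotientGroup.eq_one_iff (g * g)).1 hg)) y)))
  let U : Subgroup (T ⧸ V) :=
    { carrier := {g | g * g = 1}
      mul_mem' := fun {a b} ha hb => by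
        change a * b * (a * b) = 1
        rw [mul_assoc, ← mul_assoc b, mem_center_iff.1 (zq a ha) b, mul_assoc, ← mul_assoc, ha, hb, one_mul]
      one_mem' := one_mul 1
      inv_mem' := fun {a} ha => by change a⁻¹ * a⁻¹ = 1; rw [← mul_inv_rev, ha, inv_one] }
  have hU : ∀ y, y ∈ U ↔ y * y = 1 := fun _ => Iff.rfl
  have iU : ∀ y ∈ U, qa ρ V iV y ∈ U := fun y hy => (hU _).2 (by rw [← map_mul, (hU y).1 hy, map_one])
  let B := U.comap (QuotientGroup.mk' V)
  have mB : ∀ g, g ∈ B ↔ g * g ∈ V := fun g => QuotientGroup.eq_one_iff (g * g)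
  have cB : Nat.card B = Nat.card U * 4 := by
    have a := B.card_mul_index
    have b := U.card_mul_index
    rw [index_comap_of_surjective _ (QuotientGroup.mk'_surjective V), cq, ← b, mul_right_comm] at a
    exact Nat.eq_of_mul_eq_mul_right (Nat.pos_of_ne_zero index_ne_zero_of_finite) a
  have c1 : ∀ y, ∀ g ∈ B, ⁅y, g⁆ ∈ V := fun y g hg => En y g (mem_center_iff.1 (zV ((mB g).1 hg)) y)
  have bl : ∀ u v : T, ∀ w ∈ B, ⁅u * v, w⁆ = ⁅u, w⁆ * ⁅v, w⁆ := fun u v w hw => by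
    calc ⁅u * v, w⁆ = u * ⁅v, w⁆ * u⁻¹ * ⁅u, w⁆ := by group
      _ = _ := by rw [mem_center_iff.1 (zV (c1 v w hw)) u, mul_inv_cancel_right, mem_center_iff.1 (zV (c1 u w hw))]
  have iB : ∀ g ∈ B, ρ g ∈ B := fun g hg => iU _ hg
  have cen : ∀ a ∈ B, a ∉ V → ∀ b ∈ B, Commute b a → Commute b (ρ a) → ∃ d ∈ closure {a, ρ a}, b * d ∈ V :=
    fun a ha aV b hb k1 k2 => by
    have m1 : a ∈ closure {a, ρ a} := subset_closure (by simp)
    have m2 : ρ a ∈ closure {a, ρ a} := subset_closure (by simp)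
    have q : ∀ d, Commute b d → d * d ∈ V → b * b = d * d → b * d ∈ V := fun d k m e => (hV _).2 (by
      rw [mul_assoc, ← mul_assoc d, ← k.eq, mul_assoc, ← mul_assoc, e, eV _ m])
    have s := (mB a).1 ha
    rcases lV _ s (fun e => aV ((hV a).2 e)) _ ((mB b).1 hb) with e | e | e | e
    · exact ⟨1, one_mem _, by simpa using (hV b).2 e⟩
    · exact ⟨a, m1, q a k1 s e⟩
    · exact ⟨ρ a, m2, q _ k2 ((mB _).1 (iB a ha)) (by rw [e, map_mul])⟩
    · exact ⟨ρ (ρ a), by rw [rr]; exact inv_mem (mul_mem m1 m2), q _ (by rw [rr]; exact (k1.mul_right k2).inv_right)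
        ((mB _).1 (iB _ (iB a ha))) (by rw [e, map_mul, map_mul])⟩
  obtain ⟨a, a0⟩ := exists_prime_orderOf_dvd_card' (G := T ⧸ V) 2
    (pQ.card_eq_or_dvd.resolve_left (Finite.one_lt_card_iff_nontrivial.2 ‹_›).ne')
  obtain ⟨a, rfl⟩ := QuotientGroup.mk_surjective a
  have aB : a ∈ B := (hU _).2 (by change (a : T ⧸ V) * a = 1; rw [← sq, ← a0, pow_orderOf_eq_one])
  have aV : a ∉ V := fun e => by rw [(QuotientGroup.eq_one_iff a).2 e] at a0; simp at a0
  have VB : V ≤ B := fun v hv => (mB v).2 (mul_mem hv hv)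
  have nm : ∀ K : Subgroup T, V ≤ K → K ≤ B → ∀ g, g ∈ N[K] := fun K l m g =>
    mem_norm_of_map_le (map_cj_le_iff'.2 fun w hw => by
      rw [show g * w * g⁻¹ = ⁅g, w⁆ * w by group]; exact mul_mem (l (c1 g w (m hw))) hw)
  have c16 : Nat.card (V ⊔ zpowers a ⊔ zpowers (ρ a) : Subgroup T) ≤ 16 := by
    have x1 := C320.card_le two_pos (nm V le_rfl VB a) (by rw [sq]; exact (mB a).1 aB)
    have x2 := C320.card_le two_pos (nm (V ⊔ zpowers a) le_sup_left (sup_le VB (zpowers_le.2 aB)) (ρ a))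
      (mem_sup_left (by rw [sq]; exact (mB _).1 (iB a aB)))
    omega
  have inK : ∀ b ∈ B, Commute b a → Commute b (ρ a) → b ∈ V ⊔ zpowers a ⊔ zpowers (ρ a) := fun b hb k1 k2 => by
    obtain ⟨d, hd, e⟩ := cen a aB aV b hb k1 k2
    refine (mul_mem_cancel_right ((closure_le _).2 ?_ hd)).1 (mem_sup_left (mem_sup_left e))
    rintro _ (rfl | rfl)
    exacts [mem_sup_left (mem_sup_right (mem_zpowers _)), mem_sup_right (mem_zpowers _)]
  have pol : ∀ b ∈ B, Commute b a → Commute b (ρ a) := fun b hb k => by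
    have h1 : ∀ u ∈ B, ∀ v ∈ B, ⁅u, ρ v⁆ * ⁅v, ρ u⁆ = 1 := fun u hu v hv => by
      have z := commutatorElement_eq_one_iff_mul_comm.2 (c0 (u * v))
      have sy : ∀ u v : T, v ∈ B → ⁅u, v⁆ = ⁅v, u⁆ := fun u v hv => by
        rw [← inv_eq_of_mul_eq_one_right (eV _ (c1 u v hv)), commutatorElement_inv]
      rw [bl _ _ _ (iB _ (mul_mem hu hv)), map_mul, sy u _ (mul_mem (iB _ hu) (iB _ hv)),
        sy v _ (mul_mem (iB _ hu) (iB _ hv)), bl _ _ _ hu, bl _ _ _ hv,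
        commutatorElement_eq_one_iff_mul_comm.2 (c0 u).symm, commutatorElement_eq_one_iff_mul_comm.2 (c0 v).symm,
        one_mul, mul_one] at z
      rwa [sy u _ (iB _ hv), sy v _ (iB _ hu)]
    have h2 := h1 (ρ b) (iB b hb) a aB
    have h3 : Commute (ρ b) (ρ a) := k.map ρ
    rw [commutatorElement_eq_one_iff_commute.2 h3, one_mul, commutatorElement_eq_one_iff_commute] at h2
    simpa [r3] using (h2.map ρ).symm
  have le64 : Nat.card B ≤ 64 := by
    let χ : B →* T := MonoidHom.mk' (fun g => ⁅g.1, a⁆) fun x y => bl _ _ _ aB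
    have b := card_le_of_le (show χ.range ≤ V by rintro _ ⟨g, rfl⟩; exact c1 _ _ aB)
    have c := χ.ker.card_mul_index
    have d := card_le_of_le (show χ.ker.map B.subtype ≤ V ⊔ zpowers a ⊔ zpowers (ρ a) by
      rintro _ ⟨g, hg, rfl⟩
      have k : Commute g.1 a := commutatorElement_eq_one_iff_commute.1 hg
      exact inK _ g.2 k (pol _ g.2 k))
    rw [index_ker] at c
    rw [card_map_of_injective B.subtype_injective] at d
    nlinarith
  have cU : Nat.card U = 4 ∨ Nat.card U = 16 := by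
    have x1 := m3 r3' fp' U iU
    have x2 := (one_lt_card_iff_ne_bot U).2 fun e => aV ((QuotientGroup.eq_one_iff a).1 (mem_bot.1 (e.le aB)))
    obtain ⟨k, hk⟩ := IsPGroup.iff_card.1 (pQ.to_subgroup U)
    rw [hk] at x1 x2 cB ⊢
    have : k < 5 := (Nat.pow_lt_pow_iff_right (a := 2) (by norm_num)).1 (by omega)
    interval_cases k <;> omega
  have := Nat.card_pos (α := T ⧸ V)
  rcases cU with cU | cU
  · rcases ih _ (by omega) (T ⧸ V) _ U rfl pQ r3' fp' hU zq cU with ⟨y, h⟩ | ⟨h1, h2⟩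
    · obtain ⟨y, rfl⟩ := QuotientGroup.mk_surjective y
      have top : ∀ K : Subgroup T, y ∈ K → ρ y ∈ K → V ≤ K → K = ⊤ := fun K a b l => by
        rw [← comap_map_eq_self (f := QuotientGroup.mk' V) (H := K) (by rwa [QuotientGroup.ker_mk']),
          h (K.map (QuotientGroup.mk' V)) (mem_map_of_mem _ a) (mem_map_of_mem _ b), comap_top]
      have y1 : y ≠ 1 := fun e => hT (top V (e ▸ one_mem _) (by rw [e, map_one]; exact one_mem _) le_rfl)
      obtain ⟨⟨_, k, rfl⟩, hc⟩ := exists_prime_orderOf_dvd_card' (G := zpowers y) 2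
        (((pT.to_subgroup _).card_eq_or_dvd).resolve_left fun e => y1 (zpowers_eq_bot.1 (eq_bot_of_card_eq _ e)))
      rw [← orderOf_coe] at hc
      change orderOf (y ^ k) = 2 at hc
      exact .inl ⟨y, fun K a b => top K a b (VK K _ ((hV _).2 (by rw [← sq, ← hc, pow_orderOf_eq_one]))
        (fun e => by simp [e] at hc) (zpow_mem a k) (by rw [map_zpow]; exact zpow_mem b k))⟩
    · obtain ⟨-, -, cZ, d1⟩ := str h1 h2 r3' fp'
      have ZU : center _ = U := (eq_of_le_of_card_ge (show U ≤ center _ from zq) (by omega)).symm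
      obtain ⟨lU, eU⟩ := four r3' fp' iU cU
      rw [ZU] at d1
      have sq : ∀ u : T ⧸ V, u * u ∈ U := fun u => ZU ▸ mem_center_iff.2 fun g =>
        (commutatorElement_eq_one_iff_mul_comm.1 (by
          calc ⁅u * u, g⁆ = u * ⁅u, g⁆ * u⁻¹ * ⁅u, g⁆ := by group
            _ = 1 := by rw [mem_center_iff.1 (zq _ (d1 u g)) u, mul_inv_cancel_right, eU _ (d1 u g)])).symm
      refine absurd ⟨⟨fun y g => ?_⟩⟩ h2
      by_cases hy : y * y = 1
      · exact (mem_center_iff.1 (zq y hy) g).symm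
      obtain ⟨y, rfl⟩ := QuotientGroup.mk_surjective y
      obtain ⟨g, rfl⟩ := QuotientGroup.mk_surjective g
      refine commutatorElement_eq_one_iff_mul_comm.1 ((QuotientGroup.eq_one_iff ⁅y, g⁆).2 (En y g ?_))
      have cy : Commute y (ρ y) := c0 y
      have q : ∀ d : T, Commute y d → ((g * g : T) : T ⧸ V) = d → Commute y (g * g) := fun d hd e => by
        have := hd.mul_right (mem_center_iff.1 (zV (QuotientGroup.eq.1 e.symm)) y)
        rwa [mul_inv_cancel_left] at this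
      rcases lU _ (sq y) hy _ (sq g) with e | e | e | e
      · exact q 1 (Commute.one_right _) e
      · exact q (y * y) ((Commute.refl y).mul_right (Commute.refl y)) e
      · exact q (ρ (y * y)) (by rw [map_mul]; exact cy.mul_right cy) e
      · have c2 : Commute y (ρ (ρ y)) := by rw [rr]; exact ((Commute.refl y).mul_right cy).inv_right
        exact q (ρ (ρ (y * y))) (by rw [map_mul, map_mul]; exact c2.mul_right c2) e
  have ZB : ∀ b ∈ B, (∀ w ∈ B, Commute w b) → b ∈ V := fun b hb h => by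
    by_contra bV
    obtain ⟨w, hw, n⟩ := SetLike.not_le_iff_exists.1 fun l : B ≤ V ⊔ zpowers b ⊔ zpowers (ρ b) => by
      have x1 := C320.card_le two_pos (nm V le_rfl VB b) (by rw [sq]; exact (mB b).1 hb)
      have x2 := C320.card_le two_pos (nm (V ⊔ zpowers b) le_sup_left (sup_le VB (zpowers_le.2 hb)) (ρ b))
        (mem_sup_left (by rw [sq]; exact (mB _).1 (iB b hb)))
      have := card_le_of_le l
      omega
    obtain ⟨d, hd, e⟩ := cen b hb bV w hw (h w hw) (by simpa [r3] using (h _ (iB _ (iB w hw))).map ρ)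
    refine n ((mul_mem_cancel_right ((closure_le _).2 ?_ hd)).1 (mem_sup_left (mem_sup_left e)))
    rintro _ (rfl | rfl)
    exacts [mem_sup_left (mem_sup_right (mem_zpowers _)), mem_sup_right (mem_zpowers _)]
  have BT : B = ⊤ := by
    by_contra e
    haveI : B.Normal := normalizer_eq_top_iff.1 (eq_top_iff.2 fun g _ => nm B VB le_rfl g)
    haveI : Nontrivial (T ⧸ B) := QuotientGroup.nontrivial_iff.2 e
    obtain ⟨g, g0⟩ := exists_prime_orderOf_dvd_card' (G := T ⧸ B) 2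
      ((pT.to_quotient B).card_eq_or_dvd.resolve_left (Finite.one_lt_card_iff_nontrivial.2 ‹_›).ne')
    obtain ⟨g, rfl⟩ := QuotientGroup.mk_surjective g
    have g2 : g * g ∈ B := (QuotientGroup.eq_one_iff _).1 (by
      change (g : T ⧸ B) * g = 1; rw [← sq, ← g0, pow_orderOf_eq_one])
    have := (mB g).2 (ZB _ g2 fun w hw => (commutatorElement_eq_one_iff_commute.1 (by
      rw [bl _ _ _ hw, eV _ (c1 g w hw)])).symm)
    rw [(QuotientGroup.eq_one_iff g).2 this] at g0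
    simp at g0
  rw [BT, card_top] at cB
  exact .inr ⟨by omega, fun h => aV (ZB a aB fun w _ => h.is_comm.comm w a)⟩

end CfsgH5.Tq2
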