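import Cfsg.Agent.H5.Wr2

/-! A special group of order 64 with three involutions. -/

set_option synthInstance.maxSize 100000
set_option synthInstance.maxHeartbeats 400000

namespace CfsgH5.U64
open Function

@[ext] structure U where
  (a b c d e f : ZMod 2)
  deriving DecidableEq

def U.mul (x y : U) : U :=
  ⟨x.a + y.a, x.b + y.b, x.c + y.c, x.d + y.d,
    x.e + y.e + x.a * y.a + x.d * y.d + x.c * y.a + x.d * y.a + x.c * y.b,
    x.f + y.f + x.b * y.b + x.c * y.c + x.d * y.d + x.d * y.a + x.c * y.b + x.d * y.b⟩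

instance : Mul U := ⟨U.mul⟩
instance : One U := ⟨⟨0, 0, 0, 0, 0, 0⟩⟩
instance : Inv U := ⟨fun x => x.mul (x.mul x)⟩

theorem U.mul_def (x y : U) : x * y = x.mul y := rfl

instance : Group U := Group.ofLeftAxioms
  (fun x y z => by ext <;> simp only [U.mul_def, U.mul] <;> ring)
  (fun ⟨a, b, c, d, e, f⟩ => by revert a b c d e f; decide +kernel)
  (fun ⟨a, b, c, d, e, f⟩ => by revert a b c d e f; decide +kernel)

theorem cardU : Nat.card U = 64 := by
  rw [Nat.card_congr (β := (ZMod 2 × ZMod 2 × ZMod 2) × (ZMod 2 × ZMod 2 × ZMod 2))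
    ⟨fun x => ⟨⟨x.a, x.b, x.c⟩, x.d, x.e, x.f⟩, fun ⟨⟨a, b, c⟩, d, e, f⟩ => ⟨a, b, c, d, e, f⟩, fun _ => rfl, fun _ => rfl⟩]
  simp

instance : Finite U := Nat.finite_of_card_ne_zero (by rw [cardU]; norm_num)

def L : List U := [⟨1, 0, 0, 0, 0, 0⟩, ⟨0, 1, 0, 0, 0, 0⟩, ⟨0, 0, 1, 0, 0, 0⟩, ⟨0, 0, 0, 1, 0, 0⟩]

theorem gen : Submonoid.closure {x | x ∈ L} = ⊤ := by
  set M := Submonoid.closure {x | x ∈ L}
  have k : ∀ {x : U} (_ : x ∈ M) (t : ZMod 2), (if t = 0 then 1 else x) ∈ M := fun h t => by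
    split_ifs; exacts [one_mem _, h]
  have a : (⟨1, 0, 0, 0, 0, 0⟩ : U) ∈ M := Submonoid.subset_closure (by simp [L])
  have b : (⟨0, 1, 0, 0, 0, 0⟩ : U) ∈ M := Submonoid.subset_closure (by simp [L])
  have c : (⟨0, 0, 1, 0, 0, 0⟩ : U) ∈ M := Submonoid.subset_closure (by simp [L])
  have d : (⟨0, 0, 0, 1, 0, 0⟩ : U) ∈ M := Submonoid.subset_closure (by simp [L])
  refine eq_top_iff.2 fun ⟨a', b', c', d', e', f'⟩ hh => ?_
  clear hh
  convert mul_mem (k (mul_mem a a) e') (mul_mem (k (mul_mem b b) f') (mul_mem (k a a') (mul_mem (k b b')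
    (mul_mem (k c c') (k d d'))))) using 1
  revert a' b' c' d' e' f'
  clear * -
  decide +kernel

variable {B : Type*} [Group B]

def p (u : B) (t : ZMod 2) (w : B) : B := if t = 0 then w else u * w

theorem p0 (u w : B) : p u 0 w = w := rfl
theorem p1 (u w : B) : p u 1 w = u * w := rfl

set_option maxHeartbeats 4000000 in
theorem hom {a1 a2 b1 b2 z1 z2 : B} (h1 : z1 ∈ Subgroup.center B) (h2 : z2 ∈ Subgroup.center B)
    (s1 : a1 * a1 = z1) (s2 : a2 * a2 = z2) (s3 : b1 * b1 = z2) (s4 : b2 * b2 = z1 * z2)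
    (s5 : z1 * z1 = 1) (s6 : z2 * z2 = 1) (ca : a2 * a1 = a1 * a2) (cb : b2 * b1 = b1 * b2)
    (r1 : b1 * a1 = a1 * z1 * b1) (r2 : b1 * a2 = a2 * (z1 * z2) * b1) (r3 : b2 * a1 = a1 * (z1 * z2) * b2)
    (r4 : b2 * a2 = a2 * z2 * b2) (n1 : z1 ≠ 1) (n2 : z2 ≠ 1) (n3 : z1 * z2 ≠ 1) : ∃ f : U →* B, Injective f := by
  have A : ∀ {x y z : B}, x * y = z → ∀ w, x * (y * w) = z * w := fun h w => by rw [← mul_assoc, h]
  have c1 := fun u => A (Subgroup.mem_center_iff.1 h1 u)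
  have c2 := fun u => A (Subgroup.mem_center_iff.1 h2 u)
  let F : U → B → B := fun x w => p z1 x.e (p z2 x.f (p a1 x.a (p a2 x.b (p b1 x.c (p b2 x.d w)))))
  have z : ∀ t : ZMod 2, t = 0 ∨ t = 1 := by decide
  have o : (1 : ZMod 2) + 1 = 0 := rfl
  have k : ∀ x ∈ L, ∀ y w, F (x.mul y) w = F x (F y w) := fun x hx ⟨a, b, c, d, e, f⟩ w => by
    simp only [L, List.mem_cons, List.not_mem_nil, or_false] at hx
    rcases hx with rfl | rfl | rfl | rfl <;> rcases z a with rfl | rfl <;> rcases z b with rfl | rfl <;>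
      rcases z c with rfl | rfl <;> rcases z d with rfl | rfl <;> rcases z e with rfl | rfl <;> rcases z f with rfl | rfl <;>
      simp only [F, U.mul, mul_zero, zero_mul, add_zero, zero_add, o, p0, p1, one_mul, mul_assoc, A s1, A s2, A s3, A s4,
        A s5, A s6, A ca, A cb, A r1, A r2, A r3, A r4, c1 a1, c1 a2, c1 b1, c1 b2, c1 z2, c2 a1, c2 a2, c2 b1, c2 b2]
  have k2 : ∀ x w, F x w = F x 1 * w := fun x w => by
    simp only [F, p]; split_ifs <;> simp only [mul_assoc, one_mul]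
  refine ⟨MonoidHom.ofClosureMEqTopLeft (fun x => F x 1) gen rfl fun x hx y => (k x hx y 1).trans (k2 _ _),
    Wr2.inj (IsPGroup.of_card (n := 6) cardU) _ fun ⟨a, b, c, d, e, f⟩ hw q => ?_⟩
  have : ∀ a b c d e f : ZMod 2, (∀ x ∈ L, x.mul ⟨a, b, c, d, e, f⟩ = U.mul ⟨a, b, c, d, e, f⟩ x) →
      a = 0 ∧ b = 0 ∧ c = 0 ∧ d = 0 := by decide +kernel
  obtain ⟨rfl, rfl, rfl, rfl⟩ := this a b c d e f fun x _ => hw x
  change F _ 1 = 1 at q
  rcases z e with rfl | rfl <;> rcases z f with rfl | rfl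
  · rfl
  all_goals simp [F, p0, p1, n1, n2, n3] at q

end CfsgH5.U64
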