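import Cfsg.Agent.L0.MX4

/-! Uniform elements in groups of maximal class. -/

namespace CfsgH5.Unif
open Function Cfsg CfsgH2 CfsgBG CfsgL0
open Subgroup hiding upperCentralSeries
open scoped commutatorElement IsMulCommutative

variable {G : Type*} [Group G] {p j m : ℕ} {s u x g : G}

/-- Lower central series of the whole group. -/
abbrev Γ (G : Type*) [Group G] (j : ℕ) : Subgroup G := γ[(⊤ : Subgroup G), j]

theorem anti {i j : ℕ} (h : i ≤ j) : Γ G j ≤ Γ G i := (⊤ : Subgroup G).lowerCentralSeries_antitone h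

theorem ne_of_le {i j : ℕ} (h : i ≤ j) (h0 : Γ G j ≠ ⊥) : Γ G i ≠ ⊥ := fun e =>
  h0 (eq_bot_iff.2 ((anti h).trans e.le))

structure MX (p : ℕ) (G : Type*) [Group G] : Prop where
  pg : PG[p, (⊤ : Subgroup G)]
  i1 : (Γ G 1).index = p ^ 2
  ne : Γ G 1 ≠ ⊥
  lev : ∀ j, 1 ≤ j → Γ G j ≠ ⊥ → (Γ G (j + 1)).relIndex (Γ G j) = p

/-- The two-step centralizers. -/
def K (G : Type*) [Group G] (j : ℕ) : Subgroup G := ⨅ x : Γ G j, cmq (Γ G (j + 2)) x.1

theorem mem_K : g ∈ K G j ↔ ∀ x ∈ Γ G j, sdl g x ∈ Γ G (j + 2) := by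
  simp only [K, mem_iInf, mem_cmq, Subtype.forall]

theorem cover [Finite G] {ι : Type*} (S : Finset ι) (L : ι → Subgroup G) (hp : 2 ≤ p) (hs : S.card ≤ p)
    (hi : ∀ i ∈ S, (L i).index = p) (hn : 1 < Nat.card G) : ∃ u, ∀ i ∈ S, u ∉ L i := by
  classical
  haveI := Fintype.ofFinite G
  by_contra h
  push Not at h
  have a : (Finset.univ.erase (1 : G)) ⊆ S.biUnion fun i => (Finset.univ.filter (· ∈ L i)).erase 1 := fun x hx => by
    obtain ⟨i, hi, e⟩ := h x
    exact Finset.mem_biUnion.2 ⟨i, hi, Finset.mem_erase.2 ⟨Finset.ne_of_mem_erase hx, by simpa using e⟩⟩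
  have b := (Finset.card_le_card a).trans Finset.card_biUnion_le
  obtain ⟨i0, h0, -⟩ := h 1
  have c := (L i0).card_mul_index
  rw [hi i0 h0] at c
  have d : ∀ i ∈ S, ((Finset.univ.filter (· ∈ L i)).erase 1).card = Nat.card (L i0) - 1 := fun i h1 => by
    have c' := (L i).card_mul_index
    rw [hi i h1, ← c] at c'
    rw [Finset.card_erase_of_mem (by simp [one_mem]), ← Nat.eq_of_mul_eq_mul_right (by omega) c',
      Nat.card_eq_fintype_card, Fintype.card_subtype]
  rw [Finset.sum_congr rfl d, Finset.sum_const, smul_eq_mul, Finset.card_erase_of_mem (Finset.mem_univ _),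
    Finset.card_univ, ← Nat.card_eq_fintype_card, ← c] at b
  obtain ⟨r, hr⟩ : ∃ r, Nat.card (L i0) = r + 1 := ⟨_, (Nat.succ_pred_eq_of_pos Nat.card_pos).symm⟩
  rw [hr, Nat.add_sub_cancel] at b
  have := Nat.mul_le_mul_right r hs
  have : (r + 1) * p = p * r + p := by ring
  omega

variable [Finite G] [hp : Fact p.Prime]

namespace MX
variable (h : MX p G)
include h

theorem lt (h0 : Γ G j ≠ ⊥) : Γ G (j + 1) < Γ G j := lcs_succ_lt h.pg.isNilpotent h0

theorem K_eq (hj : 1 ≤ j) (x1 : x ∈ Γ G j) (x2 : x ∉ Γ G (j + 1)) : K G j = cmq (Γ G (j + 2)) x := by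
  refine le_antisymm (fun g hg => mem_cmq.2 (mem_K.1 hg x x1)) fun g hg => mem_K.2 fun y hy => ?_
  have e : Γ G (j + 1) ⊔ zpowers x = Γ G j := sup_zp_of_idx (anti j.le_succ)
    (h.lev j hj fun e => x2 ((mem_bot.1 (e.le x1)).symm ▸ one_mem _)) x1 x2
  have c : ⁅Γ G j, cmq (Γ G (j + 2)) x⁆ ≤ Γ G (j + 2) := by
    rw [← e]
    exact CfsgH2.comm_sup_le (fun g _ => mem_norm_normal _ g) (fun g _ => mem_norm_normal _ g)
      (commutator_mono le_rfl le_top) (comm_zp_le fun g hg => mem_cmq.1 hg)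
  rw [sdl_eq_comm]
  exact c (commutator_mem_commutator (inv_mem hy) hg)

theorem inj (hj : 1 ≤ j) (hu : u ∉ K G j) (x1 : x ∈ Γ G j) (e : sdl u x ∈ Γ G (j + 2)) : x ∈ Γ G (j + 1) := by
  by_contra x2
  exact hu ((h.K_eq hj x1 x2).ge (mem_cmq.2 e))

theorem K_idx (hj : 1 ≤ j) (h0 : Γ G (j + 1) ≠ ⊥) : (K G j).index = p := by
  obtain ⟨x, x1, x2⟩ := SetLike.exists_of_lt (h.lt (ne_of_le j.le_succ h0))
  have i : (K G j).index ≤ p := by
    rw [h.K_eq hj x1 x2]
    set N := Γ G (j + 2)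
    rw [cmq, index_comap_of_surjective _ (QuotientGroup.mk'_surjective N), ← relIndex_top_right]
    refine (relIndex_cent1_le (K := (Γ G (j + 1)).map (QuotientGroup.mk' N)) fun g _ => ?_).trans ?_
    · obtain ⟨g, rfl⟩ := QuotientGroup.mk'_surjective N g
      rw [← map_commutatorElement, ← commutatorElement_inv]
      exact mem_map_of_mem _ (inv_mem (commutator_mem_commutator x1 (mem_top g)))
    · rw [← relIndex_ker, QuotientGroup.ker_mk', h.lev (j + 1) (by omega) h0]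
  refine le_antisymm i (Nat.le_of_dvd (Nat.pos_of_ne_zero index_ne_zero_of_finite) ?_)
  rw [← relIndex_top_right]
  refine dvd_relIndex_of_not_le h.pg fun k => (h.lt h0).not_ge ?_
  refine (commutator_le (H₁ := Γ G j) (H₂ := ⊤)).2 fun y hy g _ => ?_
  have := mem_K.1 (k (mem_top g)) y⁻¹ (inv_mem hy)
  rwa [sdl_eq_comm, inv_inv] at this

theorem mu (h2 : Γ G 2 ≠ ⊥) (hu : ∀ j, 1 ≤ j → Γ G (j + 1) ≠ ⊥ → u ∉ K G j) : MU p (⊤ : Subgroup G) u := by
  have p0 := hp.out.pos
  have a : ∀ j, Γ G (j + 1) ≠ ⊥ → Γ G 1 ⊓ C1[u] ≤ Γ G (j + 1) := fun j => by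
    induction j with
    | zero => exact fun _ => inf_le_left
    | succ j ih =>
      intro h0 x hx
      refine h.inj (by omega) (hu (j + 1) (by omega) h0) (ih (ne_of_le (by omega) h0) hx) ?_
      rw [sdl, ← mem_centralizer_singleton_iff.1 hx.2]; simp
  have b : o[Γ G 1 ⊓ C1[u]] ≤ p := by
    classical
    have ex := exists_lcs_bot h.pg
    obtain ⟨c, hc⟩ : ∃ c, Nat.find ex = c + 2 := by
      refine ⟨Nat.find ex - 2, ?_⟩
      by_contra k
      exact ne_of_le (by omega) h.ne |> fun (_ : Γ G 0 ≠ ⊥) =>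
        h.ne (eq_bot_iff.2 ((anti (by omega)).trans (Nat.find_spec ex).le))
    have e := Nat.find_spec ex
    have n := Nat.find_min ex (by omega : c + 1 < _)
    have i := h.lev (c + 1) (by omega) n
    rw [hc] at e
    rw [show Γ G (c + 1 + 1) = ⊥ from e, relIndex_bot_left] at i
    exact i ▸ card_le_of_le (a c n)
  refine ⟨h.pg, mem_top _, ?_, fun k => h.ne (comm_self_eq_bot_iff.2 k)⟩
  have e := card_inf_mul_relIndex (Γ G 1) C1[u]
  rw [top_inf_eq, ← e, sq]
  refine Nat.mul_le_mul b ?_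
  have e2 := relIndex_mul_index (le_sup_left : Γ G 1 ≤ Γ G 1 ⊔ C1[u])
  rw [relIndex_sup_left, h.i1] at e2
  obtain ⟨c, hc⟩ := dvd_relIndex_of_not_le h.pg (K := Γ G 1 ⊔ C1[u]) fun k => by
    have : C1[u] = ⊤ := eq_of_le_phi_sup le_top (k.trans (sup_le_sup_right (comm_le_phi h.pg.isNilpotent) _))
    exact (h.lt h.ne).not_ge ((le_inf le_rfl (le_top.trans this.ge)).trans (a 1 h2))
  rw [relIndex_top_right] at hc
  rw [hc, sq, ← mul_assoc, mul_right_comm] at e2
  exact Nat.le_of_dvd p0 ⟨c, (Nat.eq_of_mul_eq_mul_right p0 e2).symm⟩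

end MX

omit [Finite G] hp in
theorem q_eq (N : Subgroup G) [N.Normal] (j : ℕ) : Γ (G ⧸ N) j = (Γ G j).map (QuotientGroup.mk' N) := by
  rw [map_lowerCentralSeries, map_top_of_surjective _ (QuotientGroup.mk'_surjective N)]

omit [Finite G] hp in
theorem q_mem (N : Subgroup G) [N.Normal] (l : N ≤ Γ G j) :
    QuotientGroup.mk' N x ∈ Γ (G ⧸ N) j ↔ x ∈ Γ G j := by
  rw [q_eq, ← mem_comap, comap_map_eq_self (by rwa [QuotientGroup.ker_mk'])]

omit [Finite G] hp in
theorem q_bot (N : Subgroup G) [N.Normal] : Γ (G ⧸ N) j = ⊥ ↔ Γ G j ≤ N := by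
  rw [q_eq, Subgroup.map_eq_bot_iff, QuotientGroup.ker_mk']

theorem MX.quot (h : MX p G) (hm : 2 ≤ m) : MX p (G ⧸ Γ G m) := by
  refine ⟨?_, ?_, fun e => (h.lt h.ne).not_ge (((q_bot _).1 e).trans (anti hm)), fun j hj h0 => ?_⟩
  · rw [← map_top_of_surjective _ (QuotientGroup.mk'_surjective (Γ G m))]
    exact h.pg.map _
  · rw [← index_comap_of_surjective _ (QuotientGroup.mk'_surjective (Γ G m)), q_eq,
      comap_map_eq_self (by rw [QuotientGroup.ker_mk']; exact anti (by omega)), h.i1]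
  · have l : j + 1 ≤ m := by
      by_contra e
      exact h0 ((q_bot _).2 (anti (by omega)))
    rw [q_eq, q_eq, relIndex_map_map, QuotientGroup.ker_mk', sup_eq_left.2 (anti l),
      sup_eq_left.2 (anti (by omega))]
    exact h.lev j hj fun e => h0 ((q_bot _).2 (e.le.trans bot_le))

omit [Finite G] hp in
theorem map_sdl {H : Type*} [Group H] (f : G →* H) : f (sdl u x) = sdl (f u) (f x) := by simp [sdl]

theorem MX.mu_quot (h : MX p G) (hm : 1 ≤ m) (h2 : Γ G 2 ≠ ⊥)
    (hu : ∀ j, 1 ≤ j → j ≤ m → Γ G (j + 1) ≠ ⊥ → u ∉ K G j) :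
    MU p (⊤ : Subgroup (G ⧸ Γ G (m + 2))) (QuotientGroup.mk' _ u) := by
  refine (h.quot (by omega)).mu (fun e => (h.lt h2).not_ge (((q_bot _).1 e).trans (anti (by omega))))
    fun j hj h0 k => ?_
  have l : j ≤ m := by
    by_contra e
    exact h0 ((q_bot _).2 (anti (by omega)))
  refine hu j hj l (fun e => h0 ((q_bot _).2 (e.le.trans bot_le))) (mem_K.2 fun x hx => ?_)
  rw [← q_mem (Γ G (m + 2)) (anti (by omega)), map_sdl]
  exact mem_K.1 k _ ((q_mem _ (anti (by omega))).2 hx)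

theorem per {a : ℕ} (h : MX p G) (hs : MU p (⊤ : Subgroup G) s) (ha : 1 ≤ a) (h0 : Γ G (a + (p - 1)) ≠ ⊥) :
    K G a ≤ K G (a + (p - 1)) := fun g hg => by
  have p2 := hp.out.two_le
  obtain ⟨x, x1, x2⟩ := SetLike.exists_of_lt (h.lt (ne_of_le (by omega : a ≤ a + (p - 1)) h0))
  have y1 := (hs.pw_mem ha x1).1
  have y2 : x ^ p ∉ Γ G (a + (p - 1) + 1) := fun e => x2 (hs.pw_lev ha x1 h0 e)
  rw [h.K_eq (by omega) y1 y2, mem_cmq]
  have hy := mem_K.1 hg x x1
  set y := x * sdl g x * x⁻¹ with hy0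
  have hy' : y ∈ Γ G (a + 2) := (inferInstance : (Γ G (a + 2)).Normal).conj_mem _ hy x
  have e : g * x * g⁻¹ = y * x := by rw [hy0, sdl]; group
  have n := pow_norm (P := (⊤ : Subgroup G)) (s := x) hp.out (mem_top x) (by omega : 1 ≤ a + 2) hy'
    fun z hz => by
      have := (hs.pw_mem (by omega : 1 ≤ a + 2 + 1) hz).1
      rwa [show a + 2 + 1 + (p - 1) = a + 2 + p by omega] at this
  have it : ∀ k, (sdl x)^[k] y ∈ Γ G (a + 2 + k) := fun k => by
    induction k with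
    | zero => exact hy'
    | succ k ih => rw [iterate_succ_apply']; exact sdl_mem (mem_top x) ih
  have N : (Γ G (a + (p - 1) + 2)).Normal := inferInstance
  have n1 : (y * x) ^ p * (x ^ p)⁻¹ * (y ^ p)⁻¹ ∈ Γ G (a + (p - 1) + 2) := by
    have := mul_mem (anti (by omega : a + (p - 1) + 2 ≤ a + 2 + (p - 1)) (it (p - 1)))
      (anti (by omega : a + (p - 1) + 2 ≤ a + 2 + p) n)
    rwa [mul_inv_cancel_left] at this
  have n2 : y ^ p ∈ Γ G (a + (p - 1) + 2) :=
    anti (by omega) (hs.pw_mem (by omega : 1 ≤ a + 2) hy').1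
  have n3 := N.conj_mem _ (mul_mem n1 n2) (x ^ p)⁻¹
  have : sdl g (x ^ p) = (x ^ p)⁻¹ * ((y * x) ^ p * (x ^ p)⁻¹ * (y ^ p)⁻¹ * y ^ p) * (x ^ p)⁻¹⁻¹ := by
    rw [sdl, ← e, conj_pow]; group
  rwa [this]

theorem MX.step (h : MX p G) (h2 : Γ G 2 ≠ ⊥) (m : ℕ) :
    ∃ u, ∀ j, 1 ≤ j → j ≤ m → Γ G (j + 1) ≠ ⊥ → u ∉ K G j := by
  classical
  have p2 := hp.out.two_le
  haveI : Nontrivial G := by
    by_contra e
    rw [not_nontrivial_iff_subsingleton] at e
    exact h2 (eq_bot_of_subsingleton _)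
  induction m with
  | zero => exact ⟨1, fun j a b => by omega⟩
  | succ m ih =>
    obtain ⟨s, hs⟩ := ih
    obtain ⟨u, hu⟩ := cover ((insert (m + 1) (Finset.Icc 1 (p - 1))).filter fun j => Γ G (j + 1) ≠ ⊥) (K G) p2
      ((Finset.card_filter_le _ _).trans ((Finset.card_insert_le _ _).trans (by rw [Nat.card_Icc]; omega)))
      (fun j hj => h.K_idx (by
        have := (Finset.mem_filter.1 hj).1
        rw [Finset.mem_insert, Finset.mem_Icc] at this
        omega) (Finset.mem_filter.1 hj).2) Finite.one_lt_card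
    have key : ∀ j, 1 ≤ j → j ≤ m → Γ G (j + 1) ≠ ⊥ → u ∉ K G j := fun j => by
      induction j using Nat.strong_induction_on with
      | _ j ih =>
        intro j1 jm h0
        by_cases e : j ≤ p - 1
        · exact hu j (Finset.mem_filter.2 ⟨Finset.mem_insert_of_mem (Finset.mem_Icc.2 ⟨j1, e⟩), h0⟩)
        obtain ⟨a, rfl⟩ : ∃ a, j = a + (p - 1) := ⟨j - (p - 1), by omega⟩
        have h1 : Γ G (a + 1) ≠ ⊥ := ne_of_le (by omega) h0
        have l : K G a ≤ K G (a + (p - 1)) := fun g hg => mem_K.2 fun x hx => by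
          have q := per (h.quot (m := m + 2) (by omega)) (h.mu_quot (by omega) h2 hs) (a := a) (by omega)
            fun e => (h.lt (ne_of_le (by omega : a + (p - 1) ≤ _) h0)).not_ge
              (((q_bot _).1 e).trans (anti (by omega)))
          rw [← q_mem (Γ G (m + 2)) (anti (by omega)), map_sdl]
          refine mem_K.1 (q (mem_K.2 fun z hz => ?_)) _ ((q_mem _ (anti (by omega))).2 hx)
          obtain ⟨z, rfl⟩ := QuotientGroup.mk'_surjective _ z
          rw [← map_sdl, q_mem _ (anti (by omega))]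
          exact mem_K.1 hg z ((q_mem _ (anti (by omega))).1 hz)
        have e' : K G a = K G (a + (p - 1)) := by
          refine eq_of_le_of_card_ge l (le_of_eq ?_)
          have c1 := (K G a).card_mul_index
          have c2 := (K G (a + (p - 1))).card_mul_index
          rw [h.K_idx (by omega) h1] at c1
          rw [h.K_idx j1 h0, ← c1] at c2
          exact Nat.eq_of_mul_eq_mul_right (by omega) c2
        rw [← e']
        exact ih a (by omega) (by omega) (by omega) h1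
    refine ⟨u, fun j j1 jm h0 => ?_⟩
    rcases Nat.lt_or_eq_of_le jm with e | rfl
    · exact key j j1 (by omega) h0
    · exact hu _ (Finset.mem_filter.2 ⟨Finset.mem_insert_self _ _, h0⟩)

theorem MX.exists_mu (h : MX p G) (h2 : Γ G 2 ≠ ⊥) : ∃ u, MU p (⊤ : Subgroup G) u := by
  obtain ⟨c, hc⟩ := exists_lcs_bot h.pg
  obtain ⟨u, hu⟩ := h.step h2 c
  refine ⟨u, h.mu h2 fun j j1 h0 => hu j j1 ?_ h0⟩
  by_contra e
  exact h0 (eq_bot_iff.2 ((anti (by omega)).trans hc.le))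

theorem card_Γ {k : ℕ} (hG : Nat.card G = p ^ (k + 3)) (h : Γ G (k + 1) ≠ ⊥) :
    MX p G ∧ Γ G (k + 2) = ⊥ ∧ ∀ j, j ≤ k + 1 → o[Γ G (j + 1)] = p ^ (k + 1 - j) := by
  have p0 := hp.out.pos
  have pG : PG[p, (⊤ : Subgroup G)] := IsPGroup.of_card (card_top.trans hG)
  have i : (Γ G 1).index = p ^ 2 := by
    have := relIndex_commutator_of_maxclass pG (card_top.trans hG) h
    rwa [relIndex_top_right] at this
  have c1 : o[Γ G 1] = p ^ (k + 1) := by
    have := (Γ G 1).card_mul_index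
    rw [i, hG, show k + 3 = k + 1 + 2 by omega, pow_add] at this
    exact Nat.eq_of_mul_eq_mul_right (pow_pos p0 2) this
  have up : ∀ j, j ≤ k + 1 → o[Γ G (j + 1)] ∣ p ^ (k + 1 - j) := fun j hj => by
    rcases j with _ | j
    · exact c1.dvd
    have := card_lcs_dvd pG 1 j (ne_of_le (by omega) h)
    rw [show o[γ[(⊤ : Subgroup G), 1]] = _ from c1, show k + 1 = k + 1 - (j + 1) + (j + 1) by omega,
      pow_add p (k + 1 - (j + 1)),
      show 1 + j + 1 = j + 1 + 1 by omega] at this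
    exact Nat.dvd_of_mul_dvd_mul_right (pow_pos p0 _) this
  have b : Γ G (k + 2) = ⊥ := by
    have := up (k + 1) le_rfl
    rwa [Nat.sub_self, pow_zero, Nat.dvd_one, card_eq_one] at this
  have c : ∀ j, j ≤ k + 1 → o[Γ G (j + 1)] = p ^ (k + 1 - j) := fun j hj => by
    refine Nat.dvd_antisymm (up j hj) ?_
    rcases Nat.lt_or_eq_of_le hj with e | rfl
    · have := card_lcs_dvd pG (j + 1) (k - j) (by rwa [show j + 1 + (k - j) = k + 1 by omega])
      rw [show k + 1 - j = k - j + 1 by omega]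
      exact (dvd_mul_left _ _).trans this
    · simp
  refine ⟨⟨pG, i, ne_of_le (by omega) h, fun j j1 h0 => ?_⟩, b, c⟩
  obtain ⟨j, rfl⟩ : ∃ i, j = i + 1 := ⟨j - 1, by omega⟩
  have l : j ≤ k := by
    by_contra e
    exact h0 (eq_bot_iff.2 ((anti (by omega)).trans b.le))
  have e := card_mul_relIndex (anti (G := G) (j + 1).le_succ)
  rw [c (j + 1) (by omega), c j (by omega), show k + 1 - j = k + 1 - (j + 1) + 1 by omega, pow_succ] at e
  exact Nat.eq_of_mul_eq_mul_left (pow_pos p0 _) e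

end CfsgH5.Unif
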