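import Cfsg.Agent.H5.Wr2
import Cfsg.Agent.H7.Gol.M24

/-! The unitriangular group of degree five over the field of two elements inside the Mathieu group. -/

set_option maxRecDepth 100000
set_option synthInstance.maxSize 100000
set_option synthInstance.maxHeartbeats 400000

namespace CfsgH5.Ut5
open Cfsg CfsgH7 CfsgH7.Gol Function

@[ext] structure SS where
  (a b c d e f g h i : ZMod 2)
  deriving DecidableEq

def SS.mul (x y : SS) : SS :=
  ⟨x.a + y.a, x.b + y.b, x.c + y.c, x.d + y.d, x.e + y.e + x.a * y.b, x.f + y.f + x.b * y.c, x.g + y.g + x.c * y.d,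
    x.h + y.h + x.a * y.f + x.e * y.c, x.i + y.i + x.b * y.g + x.f * y.d⟩

def SS.inv (x : SS) : SS :=
  ⟨x.a, x.b, x.c, x.d, x.e + x.a * x.b, x.f + x.b * x.c, x.g + x.c * x.d,
    x.h + x.a * x.f + x.e * x.c + x.a * x.b * x.c, x.i + x.b * x.g + x.f * x.d + x.b * x.c * x.d⟩

instance : Mul SS := ⟨SS.mul⟩
instance : One SS := ⟨⟨0, 0, 0, 0, 0, 0, 0, 0, 0⟩⟩
instance : Inv SS := ⟨SS.inv⟩

theorem SS.mul_def (x y : SS) : x * y = x.mul y := rfl
theorem SS.one_def : (1 : SS) = ⟨0, 0, 0, 0, 0, 0, 0, 0, 0⟩ := rfl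

instance : Group SS := Group.ofLeftAxioms
  (fun x y z => by ext <;> simp only [SS.mul_def, SS.mul] <;> ring)
  (fun x => by ext <;> simp [SS.mul_def, SS.mul, SS.one_def])
  (fun ⟨a, b, c, d, e, f, g, h, i⟩ => by revert a b c d e f g h i; decide +kernel)

def SS.eqv : SS ≃ (ZMod 2 × ZMod 2 × ZMod 2) × (ZMod 2 × ZMod 2 × ZMod 2) × (ZMod 2 × ZMod 2 × ZMod 2) :=
  ⟨fun x => ⟨⟨x.a, x.b, x.c⟩, ⟨x.d, x.e, x.f⟩, x.g, x.h, x.i⟩,
    fun ⟨⟨a, b, c⟩, ⟨d, e, f⟩, g, h, i⟩ => ⟨a, b, c, d, e, f, g, h, i⟩, fun _ => rfl, fun _ => rfl⟩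

theorem cardS : Nat.card SS = 2 ^ 9 := by rw [Nat.card_congr SS.eqv]; simp

@[ext] structure UU where
  s : SS
  j : ZMod 2
  deriving DecidableEq

def UU.mul (x y : UU) : UU := ⟨x.s.mul y.s, x.j + y.j + x.s.a * y.s.i + x.s.e * y.s.g + x.s.h * y.s.d⟩

instance : Mul UU := ⟨UU.mul⟩
instance : One UU := ⟨⟨1, 0⟩⟩
instance : Inv UU := ⟨fun x => ⟨x.s.inv, x.j + x.s.inv.a * x.s.i + x.s.inv.e * x.s.g + x.s.inv.h * x.s.d⟩⟩

theorem UU.mul_def (x y : UU) : x * y = x.mul y := rfl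
theorem UU.one_def : (1 : UU) = ⟨1, 0⟩ := rfl

instance : Group UU := Group.ofLeftAxioms
  (fun x y z => UU.ext (mul_assoc x.s y.s z.s) (by simp only [UU.mul_def, UU.mul, SS.mul]; ring))
  (fun x => UU.ext (one_mul x.s) (by simp [UU.mul_def, UU.mul, UU.one_def, SS.one_def]))
  (fun ⟨⟨a, b, c, d, e, f, g, h, i⟩, j⟩ => by revert a b c d e f g h i j; decide +kernel)

theorem cardU : Nat.card UU = 2 ^ 10 := by
  rw [Nat.card_congr (β := SS × ZMod 2) ⟨fun x => ⟨x.s, x.j⟩, fun x => ⟨x.1, x.2⟩, fun _ => rfl, fun _ => rfl⟩,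
    Nat.card_prod, cardS]; simp

instance : Finite UU := Nat.finite_of_card_ne_zero (by rw [cardU]; norm_num)

def TB : Fin 10 → ℕ := ![755041129856639909995604513111902209, 553817593855462778033182420232145519,
  817872615626826722340040301839275009, 963746088592452898125099198249967648, 6660911685793738927453071563917911,
  652471848225448306801127565004181069, 967150998107068424814075433960756256, 568727107822363412958273334615977519,
  969202056781860934635753244362607648, 962043633843586950641282970664807456]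

def ap (N n : ℕ) : ℕ := Nat.land (Nat.shiftRight N (Nat.mul 5 n)) 31

def xp (k : Fin 10) : Equiv.Perm GolayPt :=
  Involutive.toPerm (fun p => px (ap (TB k) (ix p))) (by revert k; unfold Involutive; decide +kernel)

def im (N a : ℕ) : ℕ := ((List.range 24).map fun n => if a.testBit n then 2 ^ ap N n else 0).sum

open scoped Pointwise in
theorem xp_mem (k : Fin 10) : xp k ∈ M24 := by
  refine mem_M24_of (L := BS) (E := (List.range 12).map (2 ^ ·)) (by decide +kernel) fun a ha => ?_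
  have : ∀ k : Fin 10, ∀ a ∈ BS, isCw (im (TB k) a) = true ∧ xp k • S a = S (im (TB k) a) := by decide +kernel
  rw [(this k a ha).2]; exact U_of (this k a ha).1

def rt (k : Fin 10) (t : ZMod 2) : Equiv.Perm GolayPt := if t = 0 then 1 else xp k

theorem rt_mem (k : Fin 10) (t : ZMod 2) : rt k t ∈ M24 := by
  unfold rt; split_ifs
  · exact one_mem _
  · exact xp_mem k

def FF (u : UU) : Equiv.Perm GolayPt := rt 3 u.s.d * (rt 6 u.s.g * (rt 8 u.s.i * (rt 9 u.j * (rt 2 u.s.c * (rt 5 u.s.f *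
  (rt 7 u.s.h * (rt 1 u.s.b * (rt 4 u.s.e * rt 0 u.s.a))))))))

def rn (k : Fin 10) (t : ZMod 2) (n : ℕ) : ℕ := if t = 0 then n else ap (TB k) n

def Fn (u : UU) (n : ℕ) : ℕ := rn 3 u.s.d (rn 6 u.s.g (rn 8 u.s.i (rn 9 u.j (rn 2 u.s.c (rn 5 u.s.f
  (rn 7 u.s.h (rn 1 u.s.b (rn 4 u.s.e (rn 0 u.s.a n)))))))))

theorem ix_rt : ∀ k t p, ix (rt k t p) = rn k t (ix p) := by decide +kernel

theorem ix_FF (u : UU) (p : GolayPt) : ix (FF u p) = Fn u (ix p) := by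
  simp only [FF, Fn, Equiv.Perm.mul_apply, ix_rt]

def ga (t : ZMod 2) : UU := ⟨⟨t, 0, 0, 0, 0, 0, 0, 0, 0⟩, 0⟩
def gb (t : ZMod 2) : UU := ⟨⟨0, t, 0, 0, 0, 0, 0, 0, 0⟩, 0⟩
def gc (t : ZMod 2) : UU := ⟨⟨0, 0, t, 0, 0, 0, 0, 0, 0⟩, 0⟩
def gd (t : ZMod 2) : UU := ⟨⟨0, 0, 0, t, 0, 0, 0, 0, 0⟩, 0⟩

theorem chk : ∀ x ∈ [ga 1, gb 1, gc 1, gd 1], ∀ a b c d e f g h i j : ZMod 2, ∀ n < 24,
    Fn (x.mul ⟨⟨a, b, c, d, e, f, g, h, i⟩, j⟩) n = Fn x (Fn ⟨⟨a, b, c, d, e, f, g, h, i⟩, j⟩ n) := by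
  decide +kernel

theorem gen : Submonoid.closure {x | x ∈ [ga 1, gb 1, gc 1, gd 1]} = ⊤ := by
  set M := Submonoid.closure {x | x ∈ [ga 1, gb 1, gc 1, gd 1]}
  have k : ∀ {x : UU} (_ : x ∈ M) (t : ZMod 2), (if t = 0 then 1 else x) ∈ M := fun h t => by
    split_ifs; exacts [one_mem _, h]
  have q : ∀ {x y : UU}, x ∈ M → y ∈ M → x * y * (x * y) ∈ M := fun a b => mul_mem (mul_mem a b) (mul_mem a b)
  have a : ga 1 ∈ M := Submonoid.subset_closure (by simp)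
  have b : gb 1 ∈ M := Submonoid.subset_closure (by simp)
  have c : gc 1 ∈ M := Submonoid.subset_closure (by simp)
  have d : gd 1 ∈ M := Submonoid.subset_closure (by simp)
  have e : (⟨⟨0, 0, 0, 0, 1, 0, 0, 0, 0⟩, 0⟩ : UU) ∈ M := by convert q a b using 1; decide +kernel
  have f : (⟨⟨0, 0, 0, 0, 0, 1, 0, 0, 0⟩, 0⟩ : UU) ∈ M := by convert q b c using 1; decide +kernel
  have g : (⟨⟨0, 0, 0, 0, 0, 0, 1, 0, 0⟩, 0⟩ : UU) ∈ M := by convert q c d using 1; decide +kernel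
  have h : (⟨⟨0, 0, 0, 0, 0, 0, 0, 1, 0⟩, 0⟩ : UU) ∈ M := by convert q a f using 1; decide +kernel
  have i : (⟨⟨0, 0, 0, 0, 0, 0, 0, 0, 1⟩, 0⟩ : UU) ∈ M := by convert q b g using 1; decide +kernel
  have j : (⟨⟨0, 0, 0, 0, 0, 0, 0, 0, 0⟩, 1⟩ : UU) ∈ M := by convert q a i using 1; decide +kernel
  refine eq_top_iff.2 fun ⟨⟨a', b', c', d', e', f', g', h', i'⟩, j'⟩ hh => ?_
  clear hh
  convert mul_mem (k d d') (mul_mem (k g g') (mul_mem (k i i') (mul_mem (k j j') (mul_mem (k c c') (mul_mem (k f f')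
    (mul_mem (k h h') (mul_mem (k b b') (mul_mem (k e e') (k a a'))))))))) using 1
  revert a' b' c' d' e' f' g' h' i' j'
  clear * -
  decide +kernel

theorem cen {w : UU} (h : ∀ g, g * w = w * g) : w.s = 1 := by
  have : ∀ a b c d e f g h i j : ZMod 2, (∀ x ∈ [ga 1, gb 1, gc 1, gd 1],
    x.mul ⟨⟨a, b, c, d, e, f, g, h, i⟩, j⟩ = UU.mul ⟨⟨a, b, c, d, e, f, g, h, i⟩, j⟩ x) →
      (⟨a, b, c, d, e, f, g, h, i⟩ : SS) = 1 := by decide +kernel
  exact this _ _ _ _ _ _ _ _ _ w.j fun x _ => h x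

theorem hom : ∃ f : UU →* M24, Injective f := by
  have ii : Injective ix := by decide +kernel
  have il : ∀ p, ix p < 24 := by decide +kernel
  let f := MonoidHom.ofClosureMEqTopLeft FF gen (by decide +kernel) fun x hx y => Equiv.ext fun p => ii (by
    rw [Equiv.Perm.mul_apply, ix_FF, ix_FF, ix_FF]
    exact chk x hx _ _ _ _ _ _ _ _ _ _ _ (il p))
  refine ⟨f.codRestrict M24 fun u => mul_mem (rt_mem _ _) (mul_mem (rt_mem _ _) (mul_mem (rt_mem _ _) (mul_mem (rt_mem _ _)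
    (mul_mem (rt_mem _ _) (mul_mem (rt_mem _ _) (mul_mem (rt_mem _ _) (mul_mem (rt_mem _ _)
      (mul_mem (rt_mem _ _) (rt_mem _ _))))))))), Wr2.inj (IsPGroup.of_card (n := 10) cardU) _ fun ⟨s, j⟩ hw e => ?_⟩
  obtain rfl : s = 1 := cen hw
  have e : FF ⟨1, j⟩ = 1 := congrArg Subtype.val e
  have : ∀ j : ZMod 2, FF ⟨1, j⟩ = 1 → (⟨1, j⟩ : UU) = 1 := by decide +kernel
  exact this j e

end CfsgH5.Ut5
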