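import Cfsg.Agent.S4623

set_option autoImplicit false

/-! Permutational wreath products and their Sylow subgroups. -/

namespace CfsgH5.Wr

open Cfsg.Agent.S4623 (Good good_iff)
open Equiv Subgroup
open scoped commutatorElement

universe u

/-- The wreath product of `D` with the symmetric group on `ι`. -/
@[ext] structure W (D : Type u) (ι : Type) where
  l : ι → D
  r : Perm ι

variable {D D' : Type u} [Group D] [Group D'] {ι : Type} {p : ℕ}

instance : Mul (W D ι) := ⟨fun a b => ⟨fun i => a.l i * b.l (a.r⁻¹ i), a.r * b.r⟩⟩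
instance : One (W D ι) := ⟨⟨1, 1⟩⟩
instance : Inv (W D ι) := ⟨fun a => ⟨fun i => (a.l (a.r i))⁻¹, a.r⁻¹⟩⟩

@[simp] theorem mul_l (a b : W D ι) (i : ι) : (a * b).l i = a.l i * b.l (a.r⁻¹ i) := rfl
@[simp] theorem mul_r (a b : W D ι) : (a * b).r = a.r * b.r := rfl
@[simp] theorem one_l (i : ι) : (1 : W D ι).l i = 1 := rfl
@[simp] theorem one_r : (1 : W D ι).r = 1 := rfl
@[simp] theorem inv_l (a : W D ι) (i : ι) : a⁻¹.l i = (a.l (a.r i))⁻¹ := rfl
@[simp] theorem inv_r (a : W D ι) : a⁻¹.r = a.r⁻¹ := rfl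

instance : Group (W D ι) := Group.ofLeftAxioms (fun a b c => by ext <;> simp [mul_assoc])
  (fun a => by ext <;> simp) (fun a => by ext <;> simp)

/-- The base group. -/
def inl : (ι → D) →* W D ι := MonoidHom.mk' (fun f => ⟨f, 1⟩) fun a b => by ext <;> simp

/-- The top group. -/
def inr : Perm ι →* W D ι := MonoidHom.mk' (fun s => ⟨1, s⟩) fun a b => by ext <;> simp

/-- Projection on the top group. -/
def rH : W D ι →* Perm ι := MonoidHom.mk' W.r fun _ _ => rfl

@[simp] theorem inl_l (f : ι → D) : (inl f : W D ι).l = f := rfl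
@[simp] theorem inl_r (f : ι → D) : (inl f : W D ι).r = 1 := rfl
@[simp] theorem inr_l (s : Perm ι) : (inr s : W D ι).l = 1 := rfl
@[simp] theorem inr_r (s : Perm ι) : (inr s : W D ι).r = s := rfl
@[simp] theorem rH_apply (w : W D ι) : rH w = w.r := rfl

theorem inl_mul_inr (w : W D ι) : inl w.l * inr w.r = w := by ext <;> simp

theorem inl_inj : Function.Injective (inl : (ι → D) →* W D ι) := fun _ _ h => congrArg W.l h

theorem eq_inl {w : W D ι} (h : w.r = 1) : inl w.l = w := by ext <;> simp [h]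

/-- Functoriality. -/
def map (φ : D →* D') : W D ι →* W D' ι :=
  MonoidHom.mk' (fun w => ⟨fun i => φ (w.l i), w.r⟩) fun a b => by ext <;> simp

@[simp] theorem map_l (φ : D →* D') (w : W D ι) (i : ι) : (map φ w).l i = φ (w.l i) := rfl
@[simp] theorem map_r (φ : D →* D') (w : W D ι) : (map φ w).r = w.r := rfl

theorem map_inj {φ : D →* D'} (h : Function.Injective φ) : Function.Injective (map φ : W D ι → _) :=
  fun _ _ e => W.ext (funext fun i => h (congrFun (congrArg W.l e) i)) (congrArg W.r e :)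

variable (D) in
/-- The wreath product with a permutation group. -/
def K (T : Subgroup (Perm ι)) : Subgroup (W D ι) := T.comap rH

@[simp] theorem mem_K {T : Subgroup (Perm ι)} {w : W D ι} : w ∈ K D T ↔ w.r ∈ T := Iff.rfl

theorem card_K [Fintype ι] (T : Subgroup (Perm ι)) :
    Nat.card (K D T) = Nat.card D ^ Fintype.card ι * Nat.card T := by
  rw [← Nat.card_eq_fintype_card, ← Nat.card_fun, ← Nat.card_prod]
  exact Nat.card_congr ⟨fun w => (w.1.l, ⟨w.1.r, w.2⟩), fun x => ⟨⟨x.1, x.2.1⟩, x.2.2⟩, fun _ => rfl, fun _ => rfl⟩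

instance [Finite D] [Finite ι] : Finite (W D ι) :=
  Finite.of_injective (fun w => (w.l, w.r)) fun _ _ h => W.ext (congrArg Prod.fst h) (congrArg Prod.snd h)

theorem pg_K [Fact p.Prime] [Finite D] [Fintype ι] {T : Subgroup (Perm ι)} (h : IsPGroup p D) (k : IsPGroup p T) :
    IsPGroup p (K D T) := by
  obtain ⟨a, ha⟩ := IsPGroup.iff_card.1 h
  obtain ⟨b, hb⟩ := IsPGroup.iff_card.1 k
  exact .of_card (n := a * Fintype.card ι + b) (by rw [card_K, ha, hb, pow_add, pow_mul])

section
variable {G G' : Type*} [Group G] [Group G']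

/-- Elements whose `p`-th power is in the derived subgroup. -/
def pw (p : ℕ) (M : Subgroup G) : Subgroup G :=
  ((powMonoidHom p).comp (Abelianization.of (G := M))).ker.map M.subtype

theorem mem_pw {M : Subgroup G} {x : G} : x ∈ pw p M ↔ x ∈ M ∧ x ^ p ∈ ⁅M, M⁆ := by
  have : ∀ y : M, y ∈ ((powMonoidHom p).comp (Abelianization.of (G := M))).ker ↔ y.1 ^ p ∈ ⁅M, M⁆ := fun y => by
    rw [← map_subtype_commutator, ← coe_pow, ← coe_subtype, mem_map_iff_mem M.subtype_injective, MonoidHom.mem_ker,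
      MonoidHom.comp_apply, powMonoidHom_apply, ← map_pow]
    exact QuotientGroup.eq_one_iff _
  exact ⟨fun ⟨y, h, e⟩ => e ▸ ⟨y.2, (this y).1 h⟩, fun h => ⟨⟨x, h.1⟩, (this _).2 h.2, rfl⟩⟩

theorem good_of {M : Subgroup G} (h : M ≤ pw p M) : Good p M := fun _ hx => (mem_pw.1 (h hx)).2

theorem le_pw {L M : Subgroup G} (h : Good p L) (k : L ≤ M) : L ≤ pw p M :=
  fun x hx => mem_pw.2 ⟨k hx, commutator_mono k k (h x hx)⟩

theorem good_top {M : Subgroup G} : Good p (⊤ : Subgroup M) ↔ Good p M := by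
  rw [good_iff (K := M)]; exact ⟨fun h x => h x trivial, fun h x _ => h x⟩

theorem good_equiv (e : G ≃* G') (h : Good p (⊤ : Subgroup G)) : Good p (⊤ : Subgroup G') := by
  simpa using h.map e.toMonoidHom

theorem good_of_gen {I : Set G} (h : closure I = ⊤) (k : ∀ x ∈ I, x ^ p = 1) : Good p (⊤ : Subgroup G) :=
  good_of (h.symm.le.trans ((closure_le _).2 fun x hx => mem_pw.2 ⟨trivial, k x hx ▸ one_mem _⟩))

theorem exists_ab {B : Type u} [Group B] (S : Subgroup B) (h : commutator B ≤ S) :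
    ∃ (C : Type u) (_ : CommGroup C) (π : B →* C), π.ker = S :=
  ⟨_, inferInstance, (QuotientGroup.mk' (S.map Abelianization.of)).comp Abelianization.of, by
    rw [← MonoidHom.comap_ker, QuotientGroup.ker_mk', comap_map_eq, Abelianization.ker_of, sup_eq_left.2 h]⟩

theorem exists_syl [Fact p.Prime] [Finite G'] {φ : G →* G'} (hφ : Function.Injective φ) {L : Subgroup G}
    (h1 : IsPGroup p L) (h2 : padicValNat p (Nat.card G') ≤ padicValNat p (Nat.card L)) (P : Sylow p G') :
    ∃ g : G', (L.map φ).map (MulAut.conj g).toMonoidHom = P := by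
  have := Finite.of_injective φ hφ
  obtain ⟨Q, hQ⟩ := (h1.map φ).exists_le_sylow
  have e : L.map φ = Q := eq_of_le_of_card_ge hQ (by
    rw [Q.card_eq_multiplicity, card_map_of_injective hφ, Nat.factorization_def _ Fact.out]
    exact Nat.le_of_dvd Nat.card_pos ((pow_dvd_pow p h2).trans pow_padicValNat_dvd))
  obtain ⟨g, rfl⟩ := MulAction.exists_smul_eq G' Q P
  exact ⟨g, e ▸ rfl⟩

theorem syl_equiv [Fact p.Prime] [Finite G'] {φ : G →* G'} (hφ : Function.Injective φ) {L : Subgroup G}
    (h1 : IsPGroup p L) (h2 : padicValNat p (Nat.card G') ≤ padicValNat p (Nat.card L)) (P : Sylow p G') :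
    Nonempty (L ≃* P) := by
  obtain ⟨g, e⟩ := exists_syl hφ h1 h2 P
  exact ⟨((L.equivMapOfInjective φ hφ).trans (equivMapOfInjective _ _ (MulAut.conj g).injective)).trans
    (MulEquiv.subgroupCongr e)⟩

theorem good_inf [Fact p.Prime] [Finite G'] {φ : G →* G'} (hφ : Function.Injective φ) {L : Subgroup G}
    (h1 : IsPGroup p L) (h2 : padicValNat p (Nat.card G') ≤ padicValNat p (Nat.card L)) {N : Subgroup G'} [N.Normal]
    (h : Good p (L ⊓ N.comap φ)) {H : Type*} [Group H] (e : H ≃* N) (P : Sylow p H) :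
    ∀ x : P.1, x ^ p ∈ _root_.commutator P.1 := by
  have := Finite.of_equiv _ e.symm.toEquiv
  have hs : Function.Surjective e.toMonoidHom := e.surjective
  obtain ⟨R, hR⟩ := (P.mapSurjective hs).exists_comap_subtype_eq
  obtain ⟨g, k⟩ := exists_syl hφ h1 h2 R
  have h3 : Good p (R.1 ⊓ N) := by
    convert (h.map φ).map (MulAut.conj g).toMonoidHom using 1
    have : (L ⊓ N.comap φ).map φ = L.map φ ⊓ N := by
      ext x; simp only [mem_map, mem_inf, mem_comap]
      exact ⟨fun ⟨y, a, b⟩ => ⟨⟨y, a.1, b⟩, b ▸ a.2⟩, fun ⟨⟨y, a, b⟩, c⟩ => ⟨y, ⟨a, b ▸ c⟩, b⟩⟩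
    rw [this, map_inf _ _ _ (MulAut.conj g).injective, k]
    exact congrArg₂ _ rfl (Normal.conj_smul_eq_self g _).symm
  rw [← subgroupOf_map_subtype, subgroupOf, hR, Sylow.coe_mapSurjective, map_map] at h3
  intro x
  rw [← mem_map_iff_mem P.1.subtype_injective, map_subtype_commutator,
    ← mem_map_iff_mem (f := N.subtype.comp e.toMonoidHom) (N.subtype_injective.comp e.injective), map_commutator]
  simpa using h3 _ ⟨_, x.2, rfl⟩

end

theorem hom_prod [Fintype ι] [DecidableEq ι] {C : Type*} [CommMonoid C] (π : (ι → D) →* C) (f : ι → D) :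
    π f = ∏ i, π (Pi.mulSingle i (f i)) := by
  conv_lhs => rw [← Finset.noncommProd_mulSingle f]
  exact (Finset.map_noncommProd _ _ _ π).trans (Finset.noncommProd_eq_prod _ _)

theorem good_pi [Finite ι] {Q : Subgroup D} (h : Good p Q) : Good p (pi Set.univ fun _ : ι => Q) := fun x hx => by
  rw [commutator_pi_pi_of_finite]
  exact fun i _ => h _ (hx i trivial)

theorem good_K [Finite ι] {T : Subgroup (Perm ι)} (h : Good p (⊤ : Subgroup D)) (k : Good p T) : Good p (K D T) :=
  good_of fun w hw => by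
    rw [← inl_mul_inr w]
    exact mul_mem (le_pw ((good_pi h).map inl) (by rintro _ ⟨f, -, rfl⟩; exact T.one_mem) ⟨_, fun _ _ => trivial, rfl⟩)
      (le_pw (k.map inr) (by rintro _ ⟨f, h, rfl⟩; exact h) ⟨_, hw, rfl⟩)

theorem ds_K [Finite ι] {T : Subgroup (Perm ι)} {a b : ℕ} (h : derivedSeries D b = ⊥) (k : derivedSeries T a = ⊥) :
    derivedSeries (K D T) (a + b) = ⊥ := by
  have key : ∀ j, (derivedSeries (K D T) (a + j)).map (K D T).subtype ≤
      (pi Set.univ fun _ : ι => derivedSeries D j).map inl := fun j => by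
    induction j with
    | zero =>
      rintro _ ⟨w, hw, rfl⟩
      have := map_derivedSeries_le_derivedSeries (rH.subgroupComap T) a ⟨w, hw, rfl⟩
      rw [k] at this
      exact ⟨w.1.l, fun _ _ => trivial, eq_inl (congrArg Subtype.val this)⟩
    | succ j ih =>
      rw [← add_assoc, derivedSeries_succ, derivedSeries_succ, ← commutator_pi_pi_of_finite, map_commutator,
        map_commutator]
      exact commutator_mono ih ih
  have := key b
  rw [h, pi_bot, Subgroup.map_bot, le_bot_iff] at this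
  exact (map_eq_bot_iff_of_injective _ (subtype_injective _)).1 this

theorem ds_of_K [DecidableEq ι] {T : Subgroup (Perm ι)} {s : Perm ι} (hs : s ∈ T) {i : ι} (hi : s i ≠ i) {j : ℕ}
    (h : derivedSeries (K D T) (j + 1) = ⊥) : derivedSeries D j = ⊥ := by
  have key : ∀ j, ∀ d ∈ derivedSeries D j, ∃ f : ι → D, f i = d ∧
      inl f ∈ (derivedSeries (K D T) (j + 1)).map (K D T).subtype := fun j => by
    induction j with
    | zero =>
      intro d _
      refine ⟨(⁅inl (Pi.mulSingle i d), inr s⁻¹⁆ : W D ι).l, by simp [commutatorElement_def, hi], ?_⟩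
      rw [eq_inl (by simp [commutatorElement_def]), derivedSeries_one, map_subtype_commutator]
      exact commutator_mem_commutator T.one_mem (T.inv_mem hs)
    | succ j ih =>
      intro d hd
      have : derivedSeries D (j + 1) ≤ (((derivedSeries (K D T) (j + 1 + 1)).map (K D T).subtype).comap inl).map
          (Pi.evalMonoidHom (fun _ => D) i) := commutator_le.2 fun a ha b hb => by
        obtain ⟨f, rfl, h1⟩ := ih a ha
        obtain ⟨g, rfl, h2⟩ := ih b hb
        refine ⟨⁅f, g⁆, ?_, rfl⟩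
        rw [SetLike.mem_coe, mem_comap, map_commutatorElement, derivedSeries_succ, map_commutator]
        exact commutator_mem_commutator h1 h2
      obtain ⟨f, h1, h2⟩ := this hd
      exact ⟨f, h2, h1⟩
  refine eq_bot_iff.2 fun d hd => ?_
  obtain ⟨f, rfl, k⟩ := key j d hd
  rw [h, Subgroup.map_bot, mem_bot] at k
  exact congrFun (congrArg W.l k) i

/-- There is a `p`-subgroup of derived length more than `k`. -/
def DL (p k : ℕ) (G : Type*) [Group G] : Prop := ∃ H : Subgroup G, IsPGroup p H ∧ derivedSeries H k ≠ ⊥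

theorem ds_inj {G G' : Type*} [Group G] [Group G'] {φ : G →* G'} (hφ : Function.Injective φ) {k : ℕ}
    (h : derivedSeries G' k = ⊥) : derivedSeries G k = ⊥ :=
  (map_eq_bot_iff_of_injective _ hφ).1 (eq_bot_iff.2 (h ▸ map_derivedSeries_le_derivedSeries φ _))

theorem DL.map {G G' : Type*} [Group G] [Group G'] {k : ℕ} (h : DL p k G) {φ : G →* G'} (hφ : Function.Injective φ) :
    DL p k G' := by
  obtain ⟨H, h1, h2⟩ := h
  exact ⟨H.map φ, h1.map φ, fun e => h2 (ds_inj (φ := (H.equivMapOfInjective φ hφ).toMonoidHom)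
    (H.equivMapOfInjective φ hφ).injective e)⟩

theorem DL.syl {G : Type*} [Group G] [Finite G] [Fact p.Prime] {k : ℕ} (h : DL p k G) (P : Sylow p G) :
    derivedSeries P.1 k ≠ ⊥ := by
  obtain ⟨H, h1, h2⟩ := h
  obtain ⟨Q, hQ⟩ := h1.exists_le_sylow
  exact fun e => h2 (ds_inj (φ := (Sylow.equiv Q P).toMonoidHom.comp (inclusion hQ))
    ((Sylow.equiv Q P).injective.comp (inclusion_injective hQ)) e)

theorem DL.wr [hp : Fact p.Prime] [Finite D] {k : ℕ} (h : DL p k D) : DL p (k + 1) (W D (ZMod p)) := by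
  obtain ⟨H, h1, h2⟩ := h
  have : NeZero p := ⟨hp.out.ne_zero⟩
  refine DL.map ⟨K H (zpowers (Equiv.addLeft (1 : ZMod p))), pg_K h1 (.of_card (n := 1) ?_),
    fun e => h2 (ds_of_K (mem_zpowers _) (i := 0) (by simp) e)⟩ (map_inj H.subtype_injective)
  rw [Nat.card_zpowers, pow_one]
  refine orderOf_eq_prime ?_ fun e => by simpa using DFunLike.congr_fun e 0
  ext; simp [← Equiv.Perm.iterate_eq_pow]

end CfsgH5.Wr
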