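import Cfsg.Agent.H5.Wr1

set_option autoImplicit false

/-! Kernels of characters of wreath products. -/

namespace CfsgH5.Wr

open Cfsg.Agent.S4623 (Good good_iff)
open Equiv Subgroup
open scoped commutatorElement

universe u

variable {D : Type u} [Group D] {ι : Type} [Fintype ι] [DecidableEq ι] {T : Subgroup (Perm ι)}

/-- One coordinate of the base group. -/
def sg (i : ι) : D →* W D ι := inl.comp (MonoidHom.mulSingle (fun _ => D) i)

omit [Fintype ι] in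
theorem sg_apply (i : ι) (d : D) : sg i d = inl (Pi.mulSingle i d) := rfl

omit [Fintype ι] in
theorem sg_conj (s : Perm ι) (i : ι) (d : D) : inr s * sg i d * (inr s)⁻¹ = sg (s i) d := by
  ext j
  · simp [sg_apply, Pi.mulSingle_apply, Equiv.symm_apply_eq]
  · simp [sg_apply]

omit [Fintype ι] in
theorem sg_comm {i j : ι} (h : i ≠ j) (a b : D) : Commute (sg i a) (sg j b) :=
  (Pi.mulSingle_commute (f := fun _ => D) h a b).map inl

theorem sq_one {G : Type*} [Group G] {M : Subgroup G} {a b : G} (h : Commute a b) (ha : a ^ 2 = 1) (hb : b ^ 2 = 1)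
    (k : a * b ∈ M) : a * b ∈ pw 2 M := mem_pw.2 ⟨k, by rw [h.mul_pow, ha, hb, one_mul]; exact one_mem _⟩

section SL
variable {A : Type*} [CommGroup A] {χ : W D ι →* A}

omit [Fintype ι] in
theorem chi_sg (ht : ∀ s, χ (inr s) = 1) (i j : ι) (d : D) : χ (sg i d) = χ (sg j d) := by
  rw [← swap_apply_left j i, ← sg_conj]; simp [ht]

omit [Fintype ι] in
theorem sg_mem (ht : ∀ s, χ (inr s) = 1) {j : ι} (hQ : Good 2 (χ.comp (sg j)).ker) (i : ι) {d : D}
    (h : χ (sg j d) = 1) : sg i d ∈ pw 2 (K D T ⊓ χ.ker) :=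
  le_pw (hQ.map (sg i)) (by rintro _ ⟨x, hx, rfl⟩; exact ⟨T.one_mem, (chi_sg ht i j x).trans hx⟩) ⟨d, h, rfl⟩

theorem good_ker (hT : Good 2 T) (ht : ∀ s, χ (inr s) = 1) {j : ι} (hQ : Good 2 (χ.comp (sg j)).ker)
    (hu : ∀ d i, sg i d * (sg j d)⁻¹ ∈ pw 2 (K D T ⊓ χ.ker)) : Good 2 (K D T ⊓ χ.ker) := by
  refine good_of fun w hw => ?_
  have h1 : χ (inl w.l) = 1 := by
    have : χ w = 1 := hw.2
    rwa [← inl_mul_inr w, map_mul, ht, mul_one] at this
  rw [← inl_mul_inr w]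
  refine mul_mem ?_ (le_pw (hT.map inr) (by rintro _ ⟨s, hs, rfl⟩; exact ⟨hs, ht s⟩) ⟨_, hw.1, rfl⟩)
  obtain ⟨C, _, π, hπ⟩ := exists_ab ((pw 2 (K D T ⊓ χ.ker)).comap inl) fun f hf =>
    pi_mem_of_mulSingle_mem (H := (pw 2 (K D T ⊓ χ.ker)).comap inl) f fun i =>
      sg_mem (d := f i) ht hQ i (Abelianization.commutator_subset_ker
      ((χ.comp (sg j)).comp (Pi.evalMonoidHom (fun _ => D) i)) hf)
  have h2 : ∀ i d, π (Pi.mulSingle i d) = π (Pi.mulSingle j d) := fun i d => by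
    rw [← mul_inv_eq_one, ← map_inv, ← map_mul, ← MonoidHom.mem_ker, hπ, mem_comap, map_mul, map_inv]
    exact hu d i
  have h3 : ∀ s : Finset ι, ∃ d, χ (sg j d) = ∏ i ∈ s, χ (sg i (w.l i)) ∧
      π (Pi.mulSingle j d) = ∏ i ∈ s, π (Pi.mulSingle i (w.l i)) := fun s => by
    induction s using Finset.induction_on with
    | empty => exact ⟨1, by simp⟩
    | insert a s ha ih =>
      obtain ⟨d, d1, d2⟩ := ih
      exact ⟨w.l a * d, by rw [Finset.prod_insert ha, map_mul, map_mul, d1, chi_sg ht j a],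
        by rw [Finset.prod_insert ha, Pi.mulSingle_mul, map_mul, d2, h2 a]⟩
  obtain ⟨d, d1, d2⟩ := h3 Finset.univ
  rw [← mem_comap, ← hπ, MonoidHom.mem_ker, hom_prod, ← d2, ← MonoidHom.mem_ker, hπ]
  exact sg_mem ht hQ j (d1.trans ((hom_prod (χ.comp inl) w.l).symm.trans h1))

theorem good_ker_tr (hT : Good 2 T) (ht : ∀ s, χ (inr s) = 1) {j : ι} (hQ : Good 2 (χ.comp (sg j)).ker)
    (h : ∀ i, ∃ s ∈ T, s j = i) : Good 2 (K D T ⊓ χ.ker) := by
  refine good_ker hT ht hQ fun d i => ?_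
  have m : ∀ i, sg i d * (sg j d)⁻¹ ∈ K D T ⊓ χ.ker := fun i =>
    ⟨by simp [sg_apply], by simp [chi_sg ht i j]⟩
  let δ : T →* Abelianization ↥(K D T ⊓ χ.ker) := MonoidHom.mk' (fun s => Abelianization.of ⟨_, m (s.1 j)⟩) fun s t => by
    have : (⟨_, m ((s * t).1 j)⟩ : ↥(K D T ⊓ χ.ker)) =
        ⟨inr s.1, s.2, ht _⟩ * ⟨_, m (t.1 j)⟩ * (⟨inr s.1, s.2, ht _⟩)⁻¹ * ⟨_, m (s.1 j)⟩ := Subtype.ext (by
      simp only [coe_mul, coe_inv, Perm.mul_apply]
      rw [← sg_conj s.1 (t.1 j), ← sg_conj s.1 j]; group)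
    rw [this]; simp [mul_comm]
  obtain ⟨s, hs, rfl⟩ := h i
  have := Abelianization.commutator_subset_ker δ (good_iff.1 hT ⟨s, hs⟩)
  rw [MonoidHom.mem_ker, map_pow] at this
  exact ⟨⟨_, m _⟩, this, rfl⟩

theorem good_ker_inv (hT : Good 2 T) (ht : ∀ s, χ (inr s) = 1) {j : ι} (hQ : Good 2 (χ.comp (sg j)).ker)
    {x : D} (hx : x ^ 2 = 1) (h : ∀ d, χ (sg j d) = 1 ∨ χ (sg j (d * x⁻¹)) = 1) : Good 2 (K D T ⊓ χ.ker) := by
  refine good_ker hT ht hQ fun d i => ?_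
  rcases h d with h | h
  · exact mul_mem (sg_mem ht hQ i h) (inv_mem (sg_mem ht hQ j h))
  have : sg i d * (sg j d)⁻¹ = sg i (d * x⁻¹) * (sg i x * (sg j x)⁻¹) * (sg j (d * x⁻¹))⁻¹ := by simp [mul_assoc]
  rw [this]
  refine mul_mem (mul_mem (sg_mem ht hQ i h) ?_) (inv_mem (sg_mem ht hQ j h))
  by_cases e : i = j
  · simp [e]
  exact sq_one (sg_comm e _ _).inv_right (by rw [← map_pow, hx, map_one]) (by rw [inv_pow, ← map_pow, hx]; simp)
    ⟨by simp [sg_apply], by simp [chi_sg ht i j]⟩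

end SL

/-- A homomorphism from the signs. -/
def sgnHom {C : Type*} [CommGroup C] (u : C) (h : u * u = 1) : ℤˣ →* C :=
  MonoidHom.mk' (fun a => if a = 1 then 1 else u) fun a b => by
    rcases Int.units_eq_one_or a with rfl | rfl <;> rcases Int.units_eq_one_or b with rfl | rfl <;> simp [h]

theorem ker_le {B : Type u} [Group B] (χ : B →* ℤˣ × ℤˣ) {I : Set B} (h1 : closure I = ⊤)
    (h2 : ∀ x ∈ I, (χ x).1 = -1) {S : Subgroup B} (h3 : _root_.commutator B ≤ S)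
    (h4 : ∀ x ∈ I, ∀ y ∈ I, χ x = χ y → x * y ∈ S) : χ.ker ≤ S := by
  obtain ⟨C, _, π, rfl⟩ := exists_ab S h3
  have : ∀ t : ℤˣ, ∃ u : C, u * u = 1 ∧ ∀ x ∈ I, (χ x).2 = t → π x = u := fun t => by
    by_cases e : ∃ y ∈ I, (χ y).2 = t
    · obtain ⟨y, hy, e⟩ := e
      have k : π y * π y = 1 := (map_mul π _ _).symm.trans (h4 y hy y hy rfl)
      exact ⟨π y, k, fun x hx e' => mul_right_cancel (((map_mul π _ _).symm.trans (h4 x hx y hy
        (Prod.ext ((h2 x hx).trans (h2 y hy).symm) (e'.trans e.symm)))).trans k.symm)⟩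
    · exact ⟨1, by simp, fun x hx e' => (e ⟨x, hx, e'⟩).elim⟩
  choose u u1 u2 using this
  have e : π = ((sgnHom (u 1) (u1 1)).coprod (sgnHom (u (-1) * u 1) (by
      rw [mul_mul_mul_comm, u1, u1, one_mul]))).comp χ := MonoidHom.eq_of_eqOn_dense h1 fun x hx => by
    rw [u2 _ x hx rfl]
    rcases Int.units_eq_one_or (χ x).2 with e | e
    · simp [sgnHom, h2 x hx, e]
    · simp [sgnHom, h2 x hx, e, mul_left_comm (u 1), u1]
  intro x hx
  rw [e, MonoidHom.mem_ker, MonoidHom.comp_apply, show χ x = 1 from hx, map_one]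

theorem good_O [Nontrivial ι] {E : Type} [CommGroup E] {χ : W D ι × E →* ℤˣ × ℤˣ} (hT : Good 2 T)
    (ht : ∀ s, χ (inr s, 1) = 1) (hD : ∀ i d, (χ (sg i d, 1)).1 = -1 → d ^ 2 = 1)
    {r : D} (hr : ∀ i, (χ (sg i r, 1)).1 = -1) (hE : closure {e : E | (χ (1, e)).1 = -1 ∧ e ^ 2 = 1} = ⊤) :
    Good 2 ((K D T).prod ⊤ ⊓ χ.ker) := by
  set M := (K D T).prod ⊤ ⊓ χ.ker
  let a : ι → D →* W D ι × E := fun i => (MonoidHom.inl _ _).comp (sg i)
  let β : (ι → D) × E →* W D ι × E := inl.prodMap (MonoidHom.id E)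
  have sq : ∀ x : ℤˣ × ℤˣ, x * x = 1 := fun x => by ext <;> simp
  have mM : ∀ x, χ (β x) = 1 → β x ∈ M := fun x h => ⟨⟨T.one_mem, trivial⟩, h⟩
  have z : ∀ i d, χ (a i d) = 1 → a i d ∈ pw 2 M := fun i d h => by
    obtain ⟨j, hj⟩ := exists_ne i
    have m1 : a i d ∈ M := mM (Pi.mulSingle i d, 1) h
    have m2 : a i r * a j r ∈ M := ⟨⟨by simp [a, sg_apply], trivial⟩, show χ _ = 1 by
      rw [map_mul,
        show χ (a i r) = χ (a j r) from chi_sg (χ := χ.comp (MonoidHom.inl _ _)) ht i j r, sq]⟩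
    have r1 := hD i r (hr i)
    have r2 := hD i (r * d) (by
      rw [show (sg i (r * d), (1 : E)) = a i r * a i d from map_mul (a i) _ _, map_mul, h, mul_one]; exact hr i)
    have r3 : r * d = d⁻¹ * r := by
      rw [_root_.sq, mul_eq_one_iff_eq_inv] at r1 r2
      rw [r2, mul_inv_rev, ← r1]
    refine mem_pw.2 ⟨m1, ?_⟩
    have c : Commute (a j r) (a i d) := (sg_comm hj r d).map (MonoidHom.inl _ E)
    have : a i d ^ 2 = ⁅a i d, a i r * a j r⁆ := by
      rw [commutatorElement_def, mul_inv_rev, mul_assoc (a i d), mul_assoc (a i r), c.inv_right.eq, ← mul_assoc (a i r),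
        ← map_inv, ← map_mul, show r * d⁻¹ = d * r by rw [mul_inv_eq_iff_eq_mul, mul_assoc, r3]; simp, map_mul]
      simp [_root_.sq, mul_assoc]
    exact this ▸ commutator_mem_commutator m1 m2
  let I : Set ((ι → D) × E) := {x | (χ (β x)).1 = -1 ∧ ((∃ i d, x = (Pi.mulSingle i d, 1)) ∨ ∃ e, e ^ 2 = 1 ∧ x = (1, e))}
  have i2 : ∀ x ∈ I, x ^ 2 = 1 := by
    rintro _ ⟨h, ⟨i, d, rfl⟩ | ⟨e, he, rfl⟩⟩
    · rw [Prod.pow_mk, ← Pi.mulSingle_pow, hD i d h]; simp
    · simp [he]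
  have key := ker_le (χ.comp β) (I := I) (S := (pw 2 M).comap β) ?_ (fun x hx => hx.1) ?_ ?_
  · refine good_of fun w hw => ?_
    have e : w = β (w.1.l, w.2) * (inr w.1.r, 1) := by simp [β, inl_mul_inr]
    have h1 : χ (β (w.1.l, w.2)) = 1 := by
      have : χ w = 1 := hw.2
      rwa [e, map_mul, ht, mul_one] at this
    rw [e]
    exact mul_mem (key h1) (le_pw (hT.map ((MonoidHom.inl _ E).comp inr))
      (by rintro _ ⟨s, hs, rfl⟩; exact ⟨⟨hs, trivial⟩, ht s⟩) ⟨_, hw.1.1, rfl⟩)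
  · refine eq_top_iff.2 fun x _ => ?_
    rw [← Prod.fst_mul_snd x]
    refine mul_mem (pi_mem_of_mulSingle_mem (H := (closure I).comap (MonoidHom.inl _ _)) _ fun i => ?_) ?_
    · generalize x.1 i = d
      rcases Int.units_eq_one_or (χ (a i d)).1 with h | h
      · have : (MonoidHom.inl _ E) (Pi.mulSingle i d : ι → D) = (Pi.mulSingle i (d * r⁻¹), 1) * (Pi.mulSingle i r, 1) := by
          simp [← Pi.mulSingle_mul]
        rw [mem_comap, this]
        refine mul_mem (subset_closure ⟨?_, .inl ⟨_, _, rfl⟩⟩) (subset_closure ⟨hr i, .inl ⟨_, _, rfl⟩⟩)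
        change (χ (a i (d * r⁻¹))).1 = -1
        rw [map_mul, map_mul, map_inv, map_inv, Prod.fst_mul, h, Prod.fst_inv, show (χ (a i r)).1 = -1 from hr i]; rfl
      · exact subset_closure ⟨h, .inl ⟨_, _, rfl⟩⟩
    · exact (hE.symm.le.trans ((closure_le ((closure I).comap (MonoidHom.inr _ _))).2 fun e he =>
        subset_closure ⟨he.1, .inr ⟨e, he.2, rfl⟩⟩)) (mem_top x.2)
  · intro x hx
    rw [← Prod.fst_mul_snd x, show x.2 = 1 from Abelianization.commutator_subset_ker (MonoidHom.snd (ι → D) E) hx]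
    refine mul_mem (pi_mem_of_mulSingle_mem (H := ((pw 2 M).comap β).comap (MonoidHom.inl _ _)) _ fun i => ?_) (one_mem _)
    exact z i _ (Abelianization.commutator_subset_ker
      ((χ.comp (a i)).comp ((Pi.evalMonoidHom (fun _ => D) i).comp (MonoidHom.fst (ι → D) E))) hx)
  · intro x hx y hy e
    have m : χ (β (x * y)) = 1 := by rw [map_mul, map_mul, show χ (β x) = χ (β y) from e, sq]
    have k : Commute x y → x * y ∈ (pw 2 M).comap β := fun c => by
      rw [mem_comap, map_mul]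
      exact sq_one (c.map β) (by rw [← map_pow, i2 x hx, map_one]) (by rw [← map_pow, i2 y hy, map_one])
        (map_mul β x y ▸ mM _ m)
    obtain ⟨-, ⟨i, d, rfl⟩ | ⟨e, -, rfl⟩⟩ := hx <;> obtain ⟨-, ⟨j, d', rfl⟩ | ⟨e', -, rfl⟩⟩ := hy
    · by_cases h : i = j
      · subst h
        have : ((Pi.mulSingle i d, 1) * (Pi.mulSingle i d', 1) : (ι → D) × E) = (Pi.mulSingle i (d * d'), 1) := by
          simp [Pi.mulSingle_mul]
        rw [this] at m ⊢
        exact z i _ m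
      · exact k (Prod.ext (Pi.mulSingle_commute (f := fun _ => D) h d d').eq rfl)
    all_goals exact k (Prod.ext (by simp) (mul_comm _ _))

end CfsgH5.Wr
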