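import Cfsg.Agent.H5.Wr2
import Cfsg.Agent.H5.Gc6
import Cfsg.Agent.H5.Rk1

set_option autoImplicit false

/-! Wreath products inside linear groups; valuations of the orders. -/

namespace CfsgH5.Wr

open Cfsg.Agent.S4623 (Good good_iff)
open Equiv Subgroup Module CfsgH5.CForm

universe u v w

section lin
variable {F : Type u} [Field F] {V : Type v} [AddCommGroup V] [Module F V] {U : Type w} [AddCommGroup U] [Module F U]
  {ι κ : Type}

/-- The imprimitive action. -/
def lin : W (V ≃ₗ[F] V) ι →* ((ι → V) ≃ₗ[F] (ι → V)) :=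
  MonoidHom.mk' (fun w =>
    { toFun := fun v i => w.l i (v (w.r⁻¹ i))
      invFun := fun v i => (w.l (w.r i))⁻¹ (v (w.r i))
      map_add' := fun a b => by ext; simp
      map_smul' := fun a b => by ext; simp
      left_inv := fun a => by ext; simp
      right_inv := fun a => by ext; simp }) fun a b => by ext; simp

@[simp] theorem lin_apply (w : W (V ≃ₗ[F] V) ι) (v : ι → V) (i : ι) : lin w v i = w.l i (v (w.r⁻¹ i)) := rfl

theorem lin_inj [Nontrivial V] : Function.Injective (lin : W (V ≃ₗ[F] V) ι → _) := by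
  classical
  refine (injective_iff_map_eq_one _).2 fun w h => ?_
  have k : ∀ (v : ι → V) i, w.l i (v (w.r⁻¹ i)) = v i := fun v i => congrFun (DFunLike.congr_fun h v) i
  obtain ⟨x, hx⟩ := exists_ne (0 : V)
  refine W.ext (funext fun i => LinearEquiv.ext fun v => k (fun _ => v) i) (inv_eq_one.1 (Equiv.ext fun i => ?_))
  by_contra e
  have := k (Pi.single i x) i
  rw [Pi.single_eq_of_ne (show w.r⁻¹ i ≠ i from e), map_zero, Pi.single_eq_same] at this
  exact hx this.symm

theorem det_inl [Fintype ι] [FiniteDimensional F V] (f : ι → V ≃ₗ[F] V) :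
    LinearMap.det (lin (inl f) : (ι → V) →ₗ[F] (ι → V)) = ∏ i, LinearMap.det (f i : V →ₗ[F] V) :=
  (congrArg _ (by ext; simp)).trans (LinearMap.det_pi _)

theorem det_sg [Fintype ι] [DecidableEq ι] [FiniteDimensional F V] (i : ι) (d : V ≃ₗ[F] V) :
    LinearMap.det (lin (sg i d) : (ι → V) →ₗ[F] (ι → V)) = LinearMap.det (d : V →ₗ[F] V) := by
  rw [sg_apply, det_inl, Finset.prod_eq_single i (fun j _ h => by simp [h]) (by simp)]; simp

/-- Block sums. -/
def pH : (V ≃ₗ[F] V) × (U ≃ₗ[F] U) →* ((V × U) ≃ₗ[F] (V × U)) :=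
  MonoidHom.mk' (fun x => x.1.prodCongr x.2) fun _ _ => rfl

theorem pH_inj : Function.Injective (pH : (V ≃ₗ[F] V) × (U ≃ₗ[F] U) → _) := fun _ _ h =>
  Prod.ext (LinearEquiv.ext fun v => congrArg Prod.fst (DFunLike.congr_fun h (v, 0)))
    (LinearEquiv.ext fun v => congrArg Prod.snd (DFunLike.congr_fun h (0, v)))

theorem det_pH [FiniteDimensional F V] [FiniteDimensional F U] (x : (V ≃ₗ[F] V) × (U ≃ₗ[F] U)) :
    LinearMap.det (pH x : V × U →ₗ[F] V × U) = LinearMap.det (x.1 : V →ₗ[F] V) * LinearMap.det (x.2 : U →ₗ[F] U) :=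
  LinearMap.det_prodMap _ _

theorem gl_emb [FiniteDimensional F V] [FiniteDimensional F U] (h : finrank F V ≤ finrank F U) :
    ∃ φ : (V ≃ₗ[F] V) →* (U ≃ₗ[F] U), Function.Injective φ := by
  obtain ⟨k, hk⟩ := Nat.exists_eq_add_of_le h
  let e : (V × (Fin k → F)) ≃ₗ[F] U := LinearEquiv.ofFinrankEq _ _ (by simp [hk])
  exact ⟨(conjEquiv e).toMonoidHom.comp (pH.comp (MonoidHom.inl _ _)),
    (conjEquiv e).injective.comp (pH_inj.comp fun _ _ h => congrArg Prod.fst h)⟩

/-- Permutation of the coordinates. -/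
def θ : Perm (ι × κ) →* ((ι → κ → F) ≃ₗ[F] (ι → κ → F)) :=
  MonoidHom.mk' (fun s =>
    { toFun := fun v i k => v (s⁻¹ (i, k)).1 (s⁻¹ (i, k)).2
      invFun := fun v i k => v (s (i, k)).1 (s (i, k)).2
      map_add' := fun _ _ => rfl
      map_smul' := fun _ _ => rfl
      left_inv := fun a => by ext; simp
      right_inv := fun a => by ext; simp }) fun a b => rfl

theorem θ_top (s : Perm ι) : (θ (prodCongrLeft fun _ : κ => s) : (ι → κ → F) ≃ₗ[F] _) = lin (inr s) := rfl

theorem hom_sign {X A : Type*} [Fintype X] [DecidableEq X] [CommGroup A] (ψ : Perm X →* A) {s : Perm X}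
    (h : Perm.sign s = 1) : ψ s = 1 := by
  have : alternatingGroup X ≤ ψ.ker := by
    rw [← Perm.closure_three_cycles_eq_alternating, closure_le]
    intro c hc
    have h1 := isConj_iff_eq.1 (ψ.map_isConj (Perm.isConj_iff_cycleType_eq.2 (Perm.cycleType_inv c)))
    have h2 : ψ c ^ 3 = 1 := by rw [← map_pow, ← Perm.IsThreeCycle.orderOf hc, pow_orderOf_eq_one, map_one]
    rw [map_inv, inv_eq_iff_mul_eq_one] at h1
    rwa [pow_three, h1, mul_one] at h2
  exact this h

theorem hom_top [Fintype ι] [DecidableEq ι] {A : Type*} [CommGroup A] (ψ : Perm (ι × Fin 2) →* A) (s : Perm ι) :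
    ψ (prodCongrLeft fun _ => s) = 1 := hom_sign ψ (by simp [Perm.sign_prodCongrLeft])

variable {P : FP F}

/-- Orthogonal sum of copies of a form. -/
def piF (g : CForm P V) (ι : Type) [Fintype ι] : CForm P (ι → V) where
  B u v := ∑ i, g.B (u i) (v i)
  Q v := ∑ i, g.Q (v i)
  B_add_left u v w := by simp [g.B_add_left, Finset.sum_add_distrib]
  B_smul_left a u w := by simp [g.B_smul_left, Finset.mul_sum]
  B_symm u v := by simp [g.B_symm (u _), Finset.mul_sum]
  Q_add u v := by simp [g.Q_add, Finset.sum_add_distrib]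
  Q_smul a v := by simp [g.Q_smul, Finset.mul_sum]
  Q_diag v := by
    choose c c1 c2 using fun i => g.Q_diag (v i)
    exact ⟨∑ i, c i, by simp [c1], by simp [c2, Finset.sum_add_distrib, Finset.mul_sum]⟩

variable [Fintype ι] {g : CForm P V}

theorem piF_B (u v : ι → V) : (piF g ι).B u v = ∑ i, g.B (u i) (v i) := rfl
theorem piF_Q (v : ι → V) : (piF g ι).Q v = ∑ i, g.Q (v i) := rfl

theorem piF_nondeg (h : g.Nondeg) : (piF g ι).Nondeg := fun v hv => funext fun i => h _ fun u => by
  classical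
  have := hv (Pi.single i u)
  rwa [piF_B, Finset.sum_eq_single i (fun j _ h => by simp [h]) (by simp), Pi.single_eq_same] at this

theorem lin_mem {w : W (V ≃ₗ[F] V) ι} (h : ∀ i, w.l i ∈ g.Isom) : lin w ∈ (piF g ι).Isom :=
  ⟨fun u v => by simpa [piF_B, g.Isom_B (h _)] using Equiv.sum_comp w.r.symm fun i => g.B (u i) (v i),
    fun v => by simpa [piF_Q, g.Isom_Q (h _)] using Equiv.sum_comp w.r.symm fun i => g.Q (v i)⟩

/-- The wreath product of isometry groups. -/
def linI : W g.Isom ι →* (piF g ι).Isom := (lin.comp (map g.Isom.subtype)).codRestrict _ fun w => lin_mem fun i => (w.l i).2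

theorem linI_inj [Nontrivial V] : Function.Injective (linI : W g.Isom ι → _) :=
  fun _ _ h => map_inj g.Isom.subtype_injective (lin_inj (congrArg Subtype.val h))

/-- Block sums of isometries. -/
def pI {h : CForm P U} : g.Isom × h.Isom →* (Gc.prodF g h).Isom :=
  (pH.comp (g.Isom.subtype.prodMap h.Isom.subtype)).codRestrict _ fun x => Gc.prodF_mem x.1.2 x.2.2

theorem pI_inj {h : CForm P U} : Function.Injective (pI : g.Isom × h.Isom → _) := fun _ _ e =>
  (g.Isom.subtype_injective.prodMap h.Isom.subtype_injective) (pH_inj (congrArg Subtype.val e))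

end lin

section val
variable {p : ℕ} [hp : Fact p.Prime]

theorem v_syl {G : Type*} [Group G] [Finite G] (P : Sylow p G) :
    padicValNat p (Nat.card P) = padicValNat p (Nat.card G) := by
  rw [P.card_eq_multiplicity, Nat.factorization_def _ hp.out, padicValNat.prime_pow]

theorem v_K {D : Type u} [Group D] [Finite D] {m : ℕ} (T : Sylow p (Perm (Fin m))) :
    padicValNat p (Nat.card (K D T.1)) = m * padicValNat p (Nat.card D) + padicValNat p m.factorial := by
  rw [card_K, padicValNat.mul (pow_pos Nat.card_pos _).ne' Nat.card_pos.ne', padicValNat.pow, v_syl,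
    Nat.card_perm]
  simp

theorem v_fact (m : ℕ) : padicValNat p (m + 1).factorial = padicValNat p (m + 1) + padicValNat p m.factorial := by
  rw [Nat.factorial_succ, padicValNat.mul m.succ_ne_zero m.factorial_ne_zero]

/-- The order of the general linear group. -/
def go (q n : ℕ) : ℕ := ∏ i ∈ Finset.range n, (q ^ n - q ^ i)

theorem card_gl {F : Type u} [Field F] [Finite F] (V : Type v) [AddCommGroup V] [Module F V] [FiniteDimensional F V] :
    Nat.card (V ≃ₗ[F] V) = go (Nat.card F) (finrank F V) := by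
  rw [card_linearEquiv, go, Finset.prod_range]

theorem sub_ne {q : ℕ} (h : 1 < q) {i : ℕ} (hi : i ≠ 0) : q ^ i - 1 ≠ 0 := (Nat.sub_pos_of_lt (Nat.one_lt_pow hi h)).ne'

theorem v_go {q e a b : ℕ} (h : 1 < q) (hq : ¬ p ∣ q) (h1 : ∀ j, j ≠ 0 → padicValNat p (q ^ (e * j) - 1) = a + padicValNat p j)
    (h2 : ∀ i, ¬ e ∣ i → padicValNat p (q ^ i - 1) = b) (he : 0 < e) (n : ℕ) :
    padicValNat p (go q n) = n / e * a + padicValNat p (n / e).factorial + (n - n / e) * b := by
  induction n with
  | zero => simp [go]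
  | succ n ih =>
    have : go q (n + 1) = q ^ n * go q n * (q ^ (n + 1) - 1) := by
      simp [go, Finset.prod_range_succ', pow_succ', ← Nat.mul_sub, Finset.prod_mul_distrib]
    have g0 : go q n ≠ 0 := Finset.prod_ne_zero_iff.2 fun i hi =>
      (Nat.sub_pos_of_lt (Nat.pow_lt_pow_right h (Finset.mem_range.1 hi))).ne'
    have q0 : q ^ n ≠ 0 := by positivity
    rw [this, padicValNat.mul (mul_ne_zero q0 g0) (sub_ne h (Nat.add_one_ne_zero n)), padicValNat.mul q0 g0, ih,
      padicValNat.eq_zero_of_not_dvd fun k => hq (hp.out.dvd_of_dvd_pow k), Nat.succ_div]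
    have l := Nat.div_le_self n e
    split_ifs with k
    · have k2 : n + 1 = e * (n / e + 1) := by
        have := Nat.succ_div (a := n) (b := e)
        rw [if_pos k] at this
        rw [← this, Nat.mul_div_cancel' k]
      rw [v_fact, Nat.add_sub_add_right]
      conv_lhs => rw [k2, h1 _ (Nat.add_one_ne_zero _)]
      ring
    · rw [h2 _ k, add_zero, Nat.succ_sub l]; simp only [Nat.succ_eq_add_one]; ring

variable {q : ℕ}

theorem v_even (h : 1 < q) (hq : Odd q) {j : ℕ} (hj : j ≠ 0) :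
    padicValNat 2 (q ^ (2 * j) - 1) = padicValNat 2 (q + 1) + padicValNat 2 (q - 1) + padicValNat 2 j := by
  have := padicValNat.pow_two_sub_one h hq.not_two_dvd_nat (mul_ne_zero two_ne_zero hj) (even_two_mul j)
  rw [padicValNat.mul two_ne_zero hj, padicValNat.self one_lt_two] at this
  omega

theorem v_split (h : 1 < q) {j : ℕ} (hj : j ≠ 0) :
    padicValNat p (q ^ (2 * j) - 1) = padicValNat p (q ^ j + 1) + padicValNat p (q ^ j - 1) := by
  rw [← padicValNat.mul (Nat.add_one_ne_zero _) (sub_ne h hj), ← Nat.sq_sub_sq, one_pow, ← pow_mul, mul_comm]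

theorem v_le {a b : ℕ} (h : a ∣ b) (hb : b ≠ 0) : padicValNat p a ≤ padicValNat p b :=
  (padicValNat_dvd_iff_le hb).1 (pow_padicValNat_dvd.trans h)

theorem v_odd (h : 1 < q) (hq : Odd q) {j : ℕ} (hj : ¬ 2 ∣ j) : padicValNat 2 (q ^ j - 1) = padicValNat 2 (q - 1) := by
  have j0 : j ≠ 0 := by omega
  have h1 := v_even h hq j0
  have h2 := v_le (p := 2) (Nat.sub_one_dvd_pow_sub_one q j) (sub_ne h j0)
  have h3 := v_le (p := 2) (Odd.nat_add_dvd_pow_add_pow q 1 (Nat.odd_iff.2 (by omega : j % 2 = 1))) (by positivity)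
  rw [v_split h j0, padicValNat.eq_zero_of_not_dvd hj] at h1
  rw [one_pow] at h3
  omega

theorem v_prod (h : 1 < q) (hq : Odd q) (m : ℕ) : padicValNat 2 (∏ i ∈ Finset.range m, (q ^ (2 * (i + 1)) - 1)) =
    m * (padicValNat 2 (q + 1) + padicValNat 2 (q - 1)) + padicValNat 2 m.factorial := by
  induction m with
  | zero => simp
  | succ m ih =>
    rw [Finset.prod_range_succ, padicValNat.mul (Finset.prod_ne_zero_iff.2 fun i _ => sub_ne h (by omega))
      (sub_ne h (by omega)), ih, v_even h hq m.succ_ne_zero, v_fact]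
    ring

theorem v_one {n : ℕ} (h : n % 4 = 2) : padicValNat 2 n = 1 := by
  obtain ⟨k, rfl⟩ : ∃ k, n = 2 * (2 * k + 1) := ⟨n / 4, by omega⟩
  rw [padicValNat.mul two_ne_zero (by omega), padicValNat.self one_lt_two, padicValNat.eq_zero_of_not_dvd (by omega)]

theorem v_go2 (h : 1 < q) (hq : Odd q) (n : ℕ) : padicValNat 2 (go q n) =
    n / 2 * (padicValNat 2 (q + 1) + padicValNat 2 (q - 1)) + padicValNat 2 (n / 2).factorial +
      (n - n / 2) * padicValNat 2 (q - 1) :=
  v_go h hq.not_two_dvd_nat (fun _ => v_even h hq) (fun _ => v_odd h hq) two_pos n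

theorem v_qpow (hq : Odd q) (k : ℕ) {n : ℕ} (hn : n ≠ 0) : padicValNat 2 (q ^ k * n) = padicValNat 2 n := by
  rw [padicValNat.mul (pow_pos hq.pos _).ne' hn, padicValNat.eq_zero_of_not_dvd hq.pow.not_two_dvd_nat, zero_add]

end val

end CfsgH5.Wr
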