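import Cfsg.Agent.H5.Wr3

set_option autoImplicit false

/-! Sylow 2-subgroups of the groups `Ω` in odd characteristic. -/

namespace CfsgH5.Wr

open Cfsg.Agent.S4623 (Good good_iff)
open Equiv Subgroup Module CfsgH5.CForm CfsgH5.Rk CfsgH5.Fm CfsgH5.Au

universe u v w

variable {F : Type u} [Field F] {V : Type v} [AddCommGroup V] [Module F V]

theorem map_sg {D D' : Type u} [Group D] [Group D'] {ι : Type} [DecidableEq ι] (φ : D →* D') (i : ι) (d : D) :
    map φ (sg i d) = sg i (φ d) := by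
  ext j
  · by_cases h : j = i <;> simp [sg_apply, h]
  · rfl

theorem good_T {m : ℕ} (T : Sylow 2 (Perm (Fin m))) : Good 2 T.1 := (Cfsg.Agent.S4623.main m T).1

variable (F) in
/-- Diagonal form. -/
noncomputable def wF {k : ℕ} (c : Fin k → F) : CForm (FP.orth F) (Fin k → F) := ofQuad (QuadraticMap.weightedSumSquares F c)

theorem wF_Q {k : ℕ} (c v : Fin k → F) : (wF F c).Q v = ∑ i, c i * (v i * v i) := by
  simp [wF, QuadraticMap.weightedSumSquares_apply]

theorem wF_B {k : ℕ} (c u v : Fin k → F) : (wF F c).B u v = 2 * ∑ i, c i * (u i * v i) := by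
  rw [orth_B, wF_Q, wF_Q, wF_Q, ← Finset.sum_sub_distrib, ← Finset.sum_sub_distrib, Finset.mul_sum]
  exact Finset.sum_congr rfl fun i _ => by simp; ring

theorem wF_nondeg (h2 : (2 : F) ≠ 0) {k : ℕ} {c : Fin k → F} (hc : ∀ i, c i ≠ 0) : (wF F c).Nondeg :=
  fun v hv => funext fun i => by simpa [wF_B, h2, Pi.single_apply, hc] using hv (Pi.single i 1)

theorem wF_ob {k : ℕ} {c : Fin k → F} (hc : ∀ i, c i ≠ 0) : OB (wF F c) (Pi.basisFun F _) :=
  ⟨fun i j h => by simp [wF_B, Pi.single_apply, h, h.symm], fun i => by simp [wF_Q, Pi.single_apply, hc]⟩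

/-- The model space. -/
noncomputable def mF (m : ℕ) {k : ℕ} (c : Fin k → F) : CForm (FP.orth F) ((Fin m → Fin 2 → F) × (Fin k → F)) :=
  Gc.prodF (piF (sqF F 2) (Fin m)) (wF F c)

theorem mF_nondeg (h2 : (2 : F) ≠ 0) (m : ℕ) {k : ℕ} {c : Fin k → F} (hc : ∀ i, c i ≠ 0) : (mF m c).Nondeg :=
  Gc.prodF_nondeg (piF_nondeg (sqF_nondeg h2 2)) (wF_nondeg h2 hc)

theorem mF_rank (m k : ℕ) : finrank F ((Fin m → Fin 2 → F) × (Fin k → F)) = 2 * m + k := by
  simp [finrank_pi_fintype, mul_comm]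

theorem plane_inv (h2 : (2 : F) ≠ 0) {d : (sqF F 2).Isom} (h : LinearMap.det (d.1 : (Fin 2 → F) →ₗ[F] _) = -1) : d ^ 2 = 1 := by
  rw [← LinearMap.det_toMatrix', Matrix.det_fin_two] at h
  simp only [LinearMap.toMatrix'_apply, LinearEquiv.coe_coe] at h
  have e : ∀ v : Fin 2 → F, d.1 v = v 0 • d.1 (Pi.single 0 1) + v 1 • d.1 (Pi.single 1 1) := fun v => by
    rw [← map_smul, ← map_smul, ← map_add]; congr 1; ext i; fin_cases i <;> simp
  have q0 := d.2.2 (Pi.single 0 1)
  have q1 := d.2.2 (Pi.single 1 1)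
  have q2 := d.2.1 (Pi.single 0 1) (Pi.single 1 1)
  simp [sqF_Q, sqF_B, h2] at q0 q1 q2
  refine Subtype.ext (LinearEquiv.ext fun v => ?_)
  change d.1 (d.1 v) = v
  rw [e, e v]
  generalize d.1 (Pi.single 0 1) = x at *
  generalize d.1 (Pi.single 1 1) = y at *
  have a1 : y 1 = - x 0 := by linear_combination (-y 1) * q0 + x 1 * q2 + x 0 * h
  have a2 : y 0 = x 1 := by linear_combination (-y 0) * q0 + x 0 * q2 - x 1 * h
  ext i; fin_cases i <;> simp [a1, a2]
  · linear_combination v 0 * q0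
  · linear_combination v 1 * q0

variable [Fintype F]

theorem type_iff [FiniteDimensional F V] {f : CForm (FP.orth F) V} (hf : f.Nondeg) (h2 : (2 : F) ≠ 0) {ι : Type} [Fintype ι]
    {b : Basis ι F V} (hb : OB f b) {m : ℕ} (hm : finrank F V = 2 * m) :
    IsSquare (∏ i, f.Q (b i)) ↔ (f.IsPlus ↔ Fintype.card F ^ m % 4 = 1) := by
  classical
  rw [← isSquare_disc_iff hf h2 b hm, disc_orth hb.1, ← finrank_eq_card_basis b, hm, ← sqc_eq_one, ← sqc_eq_one, pow_mul',
    sqc_sq_mul (pow_ne_zero _ h2) (Finset.prod_ne_zero_iff.2 fun i _ => hb.2 i)]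

theorem mF_type (h2 : (2 : F) ≠ 0) (m : ℕ) {k n : ℕ} {c : Fin k → F} (hc : ∀ i, c i ≠ 0) (hn : 2 * m + k = 2 * n) :
    IsSquare (∏ i, c i) ↔ ((mF m c).IsPlus ↔ Fintype.card F ^ n % 4 = 1) := by
  have q : ∀ i, (mF m c).Q (((Pi.basis fun _ : Fin m => Pi.basisFun F (Fin 2)).prod (Pi.basisFun F (Fin k))) i) =
      Sum.elim (fun _ => 1) c i := by
    rintro (⟨i, j⟩ | i)
    · simp [mF, piF_Q, sqF_Q, Pi.single_apply, ite_apply]
    · simp [mF, wF_Q, Pi.single_apply]
  rw [← type_iff (mF_nondeg h2 m hc) h2 (b := (Pi.basis fun _ : Fin m => Pi.basisFun F (Fin 2)).prod (Pi.basisFun F (Fin k)))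
    ⟨?_, fun i => ?_⟩ ((mF_rank m k).trans hn)]
  · simp only [q]; simp
  · rintro (⟨i, j⟩ | i) (⟨i', j'⟩ | i') h
    · by_cases e : i = i'
      · subst e
        have : j ≠ j' := by rintro rfl; exact h rfl
        simp [mF, piF_B, sqF_B, Pi.single_apply, ite_apply, this, this.symm]
      · simp [mF, piF_B, sqF_B, Pi.single_apply, ite_apply, e, Ne.symm e]
    · simp [mF]
    · simp [mF]
    · simpa [mF] using (wF_ob hc).1 i i' (by rintro rfl; exact h rfl)
  · rw [q]; rcases i with i | i <;> simp [hc]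

theorem v_card_even [FiniteDimensional F V] {f : CForm (FP.orth F) V} (hf : f.Nondeg) (hq : Odd (Fintype.card F)) {m : ℕ}
    (hm : finrank F V = 2 * (m + 1)) : ∃ N, padicValNat 2 (Nat.card f.Isom) = 1 + padicValNat 2 N +
      (m * (padicValNat 2 (Fintype.card F + 1) + padicValNat 2 (Fintype.card F - 1)) + padicValNat 2 m.factorial) ∧
      (f.IsPlus ∧ N = Fintype.card F ^ (m + 1) - 1 ∨ ¬ f.IsPlus ∧ N = Fintype.card F ^ (m + 1) + 1) := by
  have h := orth_card_even m hf hm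
  have h1 : 1 < Fintype.card F := Fintype.one_lt_card
  rw [Nat.card_eq_fintype_card (α := F)] at h
  generalize Fintype.card F = q at *
  have key : ∀ N : ℕ, N ≠ 0 → (N : ℤ) = q ^ (m + 1) - f.sgn → padicValNat 2 (Nat.card f.Isom) = 1 + padicValNat 2 N +
      (m * (padicValNat 2 (q + 1) + padicValNat 2 (q - 1)) + padicValNat 2 m.factorial) := fun N h0 hN => by
    have p0 : ∏ i ∈ Finset.range m, (q ^ (2 * (i + 1)) - 1) ≠ 0 := Finset.prod_ne_zero_iff.2 fun i _ => sub_ne h1 (by omega)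
    have : Nat.card f.Isom = q ^ ((m + 1) * m) * (2 * N * ∏ i ∈ Finset.range m, (q ^ (2 * (i + 1)) - 1)) := by
      zify [h, oOrd, hN, Nat.one_le_pow _ _ hq.pos]
      simp; ring
    rw [this, v_qpow hq _ (by positivity), padicValNat.mul (by positivity) p0, padicValNat.mul two_ne_zero h0,
      padicValNat.self one_lt_two, v_prod h1 hq]
  by_cases e : f.IsPlus
  · exact ⟨_, key _ (sub_ne h1 (by omega)) (by rw [e.sgn]; zify [Nat.one_le_pow _ _ hq.pos]), .inl ⟨e, rfl⟩⟩
  · exact ⟨_, key _ (by positivity) (by rw [sgn_of_not e]; simp), .inr ⟨e, rfl⟩⟩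

theorem v_plane (hq : Odd (Fintype.card F)) : padicValNat 2 (Nat.card (sqF F 2).Isom) =
    padicValNat 2 (Fintype.card F + 1) + padicValNat 2 (Fintype.card F - 1) := by
  have h2 := two_ne_of_odd hq
  obtain ⟨N, h, k⟩ := v_card_even (m := 0) (sqF_nondeg h2 2) hq (by simp)
  have t := (type_iff (m := 1) (sqF_nondeg h2 2) h2 (wF_ob (c := fun _ => 1) fun _ => one_ne_zero) (by simp)).1
    (by simp [sqF_Q, Pi.single_apply])
  have := Nat.odd_iff.1 hq
  rw [h]
  rcases k with ⟨k, rfl⟩ | ⟨k, rfl⟩ <;> simp only [k, pow_one, true_iff, false_iff] at t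
  · simp [v_one (n := Fintype.card F + 1) (by omega)]
  · simp [v_one (n := Fintype.card F - 1) (by omega), add_comm]

theorem model_good (hq : Odd (Fintype.card F)) {m k : ℕ} (hm : 2 ≤ m) {c : Fin k → F} (hc : ∀ i, c i ≠ 0)
    (hv : padicValNat 2 (Nat.card (mF m c).Isom) ≤ k +
      (m * (padicValNat 2 (Fintype.card F + 1) + padicValNat 2 (Fintype.card F - 1)) + padicValNat 2 m.factorial))
    {H : Type*} [Group H] (e : H ≃* _root_.commutator (mF m c).Isom) (P : Sylow 2 H) :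
    ∀ x : P.1, x ^ 2 ∈ _root_.commutator P.1 := by
  have h2 := two_ne_of_odd hq
  have hf := mF_nondeg h2 m hc
  have hs : (mF m c).Split := split_of_two_ne h2
  have := finite_linearEquiv (F := F) (V := Fin 2 → F)
  have := finite_linearEquiv (F := F) (V := (Fin m → Fin 2 → F) × (Fin k → F))
  have : Nontrivial (Fin m) := Fin.nontrivial_iff_two_le.2 hm
  let r : (sqF F 2).Isom := ⟨_, rf_mem (Pi.single 0 1)⟩
  obtain ⟨D, hD⟩ := (IsPGroup.of_card (p := 2) (G := zpowers r) (n := 1) (by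
    rw [Nat.card_zpowers, pow_one]
    refine orderOf_eq_prime (Subtype.ext (by simp [r, sq])) fun e => ?_
    have := rf_det (f := sqF F 2) (d := Pi.single 0 1) (by simp [sqF_Q])
    rw [show (sqF F 2).rf (Pi.single 0 1) = 1 from congrArg Subtype.val e] at this
    exact h2 (by simp at this; linear_combination this))).exists_le_sylow
  obtain ⟨T⟩ : Nonempty (Sylow 2 (Perm (Fin m))) := inferInstance
  let φ : W D.1 (Fin m) × (Fin k → ℤˣ) →* (mF m c).Isom := pI.comp ((linI.comp (map D.1.subtype)).prodMap (DI (wF_ob hc)))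
  let χ := ((dick hf hs).prod (sp hf hs)).comp φ
  have dt : ∀ x, (χ x).1 = -1 ↔ LinearMap.det (φ x).1.toLinearMap = -1 := fun x => by
    rw [det_eq_dick hf hs]
    change dick hf hs (φ x) = -1 ↔ _
    rcases Int.units_eq_one_or (dick hf hs (φ x)) with h | h <;> simp [h]
    exact fun e => h2 (by linear_combination e)
  have d1 : ∀ i d, LinearMap.det (φ (sg i d, 1)).1.toLinearMap = LinearMap.det (d.1.1 : (Fin 2 → F) →ₗ[F] _) := fun i d => by
    refine (det_pH (lin (map (sqF F 2).Isom.subtype (map D.1.subtype (sg i d))), (DI (wF_ob hc) 1).1)).trans ?_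
    rw [map_sg, map_sg, det_sg, map_one]; simp
  have cL : Nat.card ((K D.1 T.1).prod (⊤ : Subgroup (Fin k → ℤˣ))) = Nat.card (K D.1 T.1) * 2 ^ k := by
    rw [Nat.card_congr (prodEquiv _ _).toEquiv, Nat.card_prod, card_top]; simp
  have i1 : Function.Injective (DI (wF_ob hc)) := fun a b h => dg_inj h2 (Pi.basisFun F _) (congrArg Subtype.val h)
  have i2 : Function.Injective (linI.comp (map (ι := Fin m) D.1.subtype)) := linI_inj.comp (map_inj D.1.subtype_injective)
  refine good_inf (φ := φ) (L := (K D.1 T.1).prod ⊤) (pI_inj.comp (i2.prodMap i1)) ?_ ?_ ?_ e P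
  · obtain ⟨a, ha⟩ := IsPGroup.iff_card.1 (pg_K D.2 T.2)
    exact .of_card (n := a + k) (by rw [cL, ha, pow_add])
  · rw [cL, padicValNat.mul Nat.card_pos.ne' (by positivity), v_K, v_syl, v_plane hq, padicValNat.prime_pow]
    omega
  have : (_root_.commutator (mF m c).Isom).comap φ = χ.ker := by
    ext x; rw [mem_comap, Fm.mem_comm hf hs, MonoidHom.mem_ker, Prod.ext_iff]; rfl
  rw [this]
  refine good_O (r := ⟨r, hD (mem_zpowers _)⟩) (good_T T) (fun s => ?_) (fun i d h => Subtype.ext (plane_inv h2 ?_))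
    (fun i => ?_) ?_
  · let t : Perm (Fin m × Fin 2) →* (piF (sqF F 2) (Fin m)).Isom := θ.codRestrict _ fun s => mem_Isom_orth.2 fun v => by
      simp only [piF_Q, sqF_Q, ← Fintype.sum_prod_type']
      exact Equiv.sum_comp s⁻¹ fun x => v x.1 x.2 * v x.1 x.2
    refine Eq.trans ?_ (hom_top (((dick hf hs).prod (sp hf hs)).comp (pI.comp ((MonoidHom.inl _ _).comp t))) s)
    exact congrArg ((dick hf hs).prod (sp hf hs)) (congrArg pI (Prod.ext rfl (map_one (DI (wF_ob hc)))))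
  · rw [← d1 i, ← dt, h]
  · rw [dt, d1]; exact rf_det (by simp [sqF_Q])
  · refine eq_top_iff.2 fun x _ => pi_mem_of_mulSingle_mem x fun i => ?_
    rcases Int.units_eq_one_or (x i) with h | h <;> rw [h]
    · simp
    refine subset_closure ⟨(dt _).2 ((det_pH (lin (map (sqF F 2).Isom.subtype (map D.1.subtype 1)), dg (Pi.basisFun F _) _)).trans ?_), funext fun j => Int.units_sq _⟩
    simp [det_dg]

theorem good_of_iso (hq : Odd (Fintype.card F)) {m k : ℕ} (hm : 2 ≤ m) {c : Fin k → F} (hc : ∀ i, c i ≠ 0)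
    (hv : padicValNat 2 (Nat.card (mF m c).Isom) ≤ k +
      (m * (padicValNat 2 (Fintype.card F + 1) + padicValNat 2 (Fintype.card F - 1)) + padicValNat 2 m.factorial))
    {f : CForm (FP.orth F) V} (e : f.Isom ≃* (mF m c).Isom) {G : Type*} [Group G] {ρ : G →* (V ≃ₗ[F] V)} (H : IsOm f ρ)
    (P : Sylow 2 G) : ∀ x : P.1, x ^ 2 ∈ _root_.commutator P.1 :=
  model_good hq hm hc hv ((((MonoidHom.ofInjective H.1).trans (MulEquiv.subgroupCongr H.2)).trans
    (equivMapOfInjective _ _ f.Isom.subtype_injective).symm).trans ((e.subgroupMap _).trans (MulEquiv.subgroupCongr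
      ((map_commutator_eq _ _).trans (by rw [MonoidHom.range_eq_top.2 e.surjective]; rfl))))) P

variable [FiniteDimensional F V] {f : CForm (FP.orth F) V} {G : Type*} [Group G] {ρ : G →* (V ≃ₗ[F] V)}

theorem om_odd (H : IsOm f ρ) (hf : f.Nondeg) (hq : Odd (Fintype.card F)) {m : ℕ} (hm : 2 ≤ m) (h : finrank F V = 2 * m + 1)
    (P : Sylow 2 G) : ∀ x : P.1, x ^ 2 ∈ _root_.commutator P.1 := by
  have hc : ∀ i : Fin 1, (fun _ => (1 : F)) i ≠ 0 := fun _ => one_ne_zero
  have h0 := mF_nondeg (two_ne_of_odd hq) m hc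
  obtain ⟨c, e, c0, he⟩ := orth_exists_similar_odd m hf h0 h (mF_rank _ _)
  refine good_of_iso hq hm hc ?_ ((MulEquiv.subgroupCongr (scale_Isom c0).symm).trans he.isomEquiv) H P
  have h1 : 1 < Fintype.card F := Fintype.one_lt_card
  have p0 : ∏ i ∈ Finset.range m, (Fintype.card F ^ (2 * (i + 1)) - 1) ≠ 0 :=
    Finset.prod_ne_zero_iff.2 fun i _ => sub_ne h1 (by omega)
  rw [orth_card_odd m h0 (mF_rank _ _), Nat.card_eq_fintype_card, padicValNat.mul two_ne_zero (by positivity),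
    v_qpow hq _ p0, v_prod h1 hq, padicValNat.self one_lt_two]

theorem om_even (H : IsOm f ρ) (hf : f.Nondeg) (hq : Odd (Fintype.card F)) {m : ℕ} (h : finrank F V = 2 * m)
    (hm : 3 ≤ m ∨ 2 ≤ m ∧ (f.IsPlus ↔ Fintype.card F ^ m % 4 = 1)) (P : Sylow 2 G) :
    ∀ x : P.1, x ^ 2 ∈ _root_.commutator P.1 := by
  have h2 := two_ne_of_odd hq
  have h1 : 1 < Fintype.card F := Fintype.one_lt_card
  obtain ⟨m, rfl⟩ : ∃ n, m = n + 1 := ⟨m - 1, by omega⟩
  have ho := Nat.odd_iff.1 (hq.pow (n := m + 1))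
  by_cases t : f.IsPlus ↔ Fintype.card F ^ (m + 1) % 4 = 1
  · have hc : ∀ i : Fin 0, (fun _ => (1 : F)) i ≠ 0 := fun _ => one_ne_zero
    have h0 := mF_nondeg h2 (m + 1) hc
    obtain ⟨e, he⟩ := orth_exists_isIso_even (m + 1) hf h0 h (mF_rank _ _)
      (t.trans ((mF_type h2 (m + 1) hc rfl).1 (by simp)).symm)
    refine good_of_iso hq (by omega) hc ?_ he.isomEquiv H P
    obtain ⟨N, n1, n2⟩ := v_card_even (m := m) h0 hq (mF_rank _ _)
    have a1 := v_even h1 hq (Nat.add_one_ne_zero m)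
    rw [v_split h1 (Nat.add_one_ne_zero m)] at a1
    have a2 := v_le (p := 2) (a := 2) (b := Fintype.card F ^ (m + 1) + 1) (by omega) (by omega)
    have a3 := v_le (p := 2) (a := 2) (b := Fintype.card F ^ (m + 1) - 1) (by omega) (sub_ne h1 (by omega))
    rw [padicValNat.self one_lt_two] at a2 a3
    rw [n1, v_fact, add_mul]
    rcases n2 with ⟨-, rfl⟩ | ⟨-, rfl⟩ <;> omega
  · obtain ⟨δ, hδ⟩ := FiniteField.exists_nonsquare (F := F) (by
      rintro e; exact h2 (by have := ringChar.Nat.cast_ringChar (R := F); rw [e] at this; exact_mod_cast this))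
    have hc : ∀ i : Fin 2, ![1, δ] i ≠ 0 := fun i => by
      fin_cases i
      · simp
      · rintro rfl; exact hδ IsSquare.zero
    have h0 := mF_nondeg h2 m hc
    have t' := mt (mF_type h2 m (n := m + 1) hc rfl).2 (by simpa using hδ)
    obtain ⟨e, he⟩ := orth_exists_isIso_even (m + 1) hf h0 h (mF_rank _ _) (by tauto)
    refine good_of_iso hq (by have := hm.resolve_right fun k => t k.2; omega) hc ?_ he.isomEquiv H P
    obtain ⟨N, n1, n2⟩ := v_card_even (m := m) h0 hq (mF_rank _ _)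
    rw [n1, v_one (n := N)]
    rcases n2 with ⟨k, rfl⟩ | ⟨k, rfl⟩ <;> simp only [k, true_iff, false_iff, not_not] at t' <;> omega

end CfsgH5.Wr
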