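import Cfsg.Agent.H5.Wr4
import Cfsg.Agent.S0261
import Cfsg.Agent.S4014

set_option autoImplicit false

/-! Sylow subgroups of symplectic and linear groups in cross characteristic. -/

namespace CfsgH5.Wr

open Cfsg.Agent.S4623 (Good good_iff)
open Equiv Subgroup Module CfsgH5.CForm CfsgH5.Rk
open scoped commutatorElement

universe u v w

section quat
open QuaternionGroup
variable {n : ℕ}

theorem q_comm (i : ZMod (2 * n)) : ⁅(a i : QuaternionGroup n), xa 0⁆ = a (i + i) := by
  rw [commutatorElement_def, mul_inv_eq_iff_eq_mul, mul_inv_eq_iff_eq_mul]; simp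

theorem q_good (h : Even n) : Good 2 (⊤ : Subgroup (QuaternionGroup n)) := by
  have : ∀ i, (a i : QuaternionGroup n) ^ 2 ∈ ⁅(⊤ : Subgroup (QuaternionGroup n)), ⊤⁆ := fun i => by
    rw [sq, a_mul_a, ← q_comm]; exact commutator_mem_commutator trivial trivial
  rintro (i | i) -
  · exact this i
  obtain ⟨k, hk⟩ := h
  simpa [sq, ← Nat.cast_add, ← hk] using this k

theorem q_ds2 : derivedSeries (QuaternionGroup n) 2 = ⊥ := by
  let s : QuaternionGroup n →* ℤˣ := MonoidHom.mk' (fun x => match x with | a _ => 1 | xa _ => -1) (by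
    rintro (i | i) (j | j) <;> simp)
  rw [derivedSeries_succ, derivedSeries_one, eq_bot_iff, commutator_le]
  rintro (i | i) hi (j | j) hj
  · exact commutatorElement_eq_one_iff_mul_comm.2 (by simp [add_comm])
  · simpa [s] using Abelianization.commutator_subset_ker s hj
  all_goals simpa [s] using Abelianization.commutator_subset_ker s hi

theorem q_ds1 (h : 2 ≤ n) : derivedSeries (QuaternionGroup n) 1 ≠ ⊥ := fun e => by
  have : (a (1 + 1) : QuaternionGroup n) ∈ derivedSeries (QuaternionGroup n) 1 :=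
    q_comm (n := n) 1 ▸ commutator_mem_commutator trivial trivial
  rw [e, mem_bot, QuaternionGroup.one_def, a.injEq, one_add_one_eq_two] at this
  have := Nat.le_of_dvd two_pos ((ZMod.natCast_eq_zero_iff 2 _).1 this)
  omega

end quat

section gen
variable {G G' : Type*} [Group G] [Group G'] {p : ℕ}

theorem good_comap {M : Subgroup G} {f : G →* G'} (hf : Function.Injective f) (h : Good p (M.map f)) : Good p M :=
  fun x hx => by
    rw [← mem_map_iff_mem hf, map_commutator, map_pow]; exact h _ ⟨x, hx, rfl⟩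

theorem good_syl_inf [Fact p.Prime] [Finite G] {N : Subgroup G} [N.Normal] (h : ∀ Q : Sylow p N, Good p Q.1) (D : Sylow p G) :
    Good p (N.subgroupOf D.1) := by
  obtain ⟨Q⟩ : Nonempty (Sylow p N) := inferInstance
  obtain ⟨R, hR⟩ := Q.exists_comap_subtype_eq
  obtain ⟨g, rfl⟩ := MulAction.exists_smul_eq G R D
  refine good_comap (subtype_injective _) ?_
  have := ((h Q).map N.subtype).map (MulAut.conj g).toMonoidHom
  rw [← hR, ← subgroupOf, subgroupOf_map_subtype, map_inf _ _ _ (MulAut.conj g).injective] at this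
  rw [subgroupOf_map_subtype, inf_comm]
  rw [show N.map (MulAut.conj g).toMonoidHom = N from Normal.conj_smul_eq_self g N] at this
  exact this

/-- Normal 2-rank at least `k`. -/
def NGe (k : ℕ) (G : Type*) [Group G] : Prop :=
  ∃ E : Subgroup G, E.Normal ∧ Cfsg.IsElementaryAbelian 2 E ∧ 2 ^ k ≤ Nat.card E

/-- Normal 2-rank at most `k`. -/
def NLe (k : ℕ) (G : Type*) [Group G] : Prop :=
  ∀ E : Subgroup G, E.Normal → Cfsg.IsElementaryAbelian 2 E → Nat.card E ≤ 2 ^ k

theorem ea_map {E : Subgroup G} (h : Cfsg.IsElementaryAbelian 2 E) (f : G →* G') : Cfsg.IsElementaryAbelian 2 (E.map f) :=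
  ⟨by have := h.1; infer_instance, by rintro _ ⟨x, hx, rfl⟩; rw [← map_pow, h.2 x hx, map_one]⟩

theorem NGe.equiv {k : ℕ} (h : NGe k G) (e : G ≃* G') : NGe k G' := by
  obtain ⟨E, h1, h2, h3⟩ := h
  exact ⟨E.map e.toMonoidHom, h1.map _ e.surjective, ea_map h2 _, by rwa [card_map_of_injective e.injective]⟩

theorem NLe.equiv {k : ℕ} (h : NLe k G) (e : G ≃* G') : NLe k G' := fun E h1 h2 => by
  have := h (E.map e.symm.toMonoidHom) (h1.map _ e.symm.surjective) (ea_map h2 _)
  rwa [card_map_of_injective e.symm.injective] at this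

theorem NGe.prod {k : ℕ} (h : NGe k G) (j : ℕ) : NGe (k + j) (G × (Fin j → ℤˣ)) := by
  obtain ⟨E, h1, h2, h3⟩ := h
  refine ⟨E.prod ⊤, inferInstance, ⟨⟨⟨fun x y => Subtype.ext (Prod.ext ?_ (mul_comm _ _))⟩⟩, fun x hx =>
    Prod.ext (h2.2 _ hx.1) (funext fun i => Int.units_sq _)⟩, ?_⟩
  · exact congrArg Subtype.val (h2.1.1.1 ⟨_, x.2.1⟩ ⟨_, y.2.1⟩)
  · rw [Nat.card_congr (prodEquiv _ _).toEquiv, Nat.card_prod, card_top, pow_add]
    simpa using h3

theorem NLe.prod [Finite G] {k : ℕ} (h : NLe k G) (j : ℕ) : NLe (k + j) (G × (Fin j → ℤˣ)) := fun E h1 h2 => by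
  have h3 := h _ (h1.map (MonoidHom.fst _ _) Prod.fst_surjective) (ea_map h2 _)
  refine (card_le_of_le (show E ≤ (E.map (MonoidHom.fst _ _)).prod ⊤ from fun x hx => ⟨⟨x, hx, rfl⟩, trivial⟩)).trans ?_
  rw [Nat.card_congr (prodEquiv _ _).toEquiv, Nat.card_prod, card_top, pow_add]
  simpa using h3

theorem NLe.of_rank {k : ℕ} (h : Cfsg.PRankLE 2 k G) (S : Subgroup G) : NLe k S := fun E _ h2 => by
  have := h _ (ea_map h2 S.subtype).1 (ea_map h2 S.subtype).2
  rwa [card_map_of_injective S.subtype_injective] at this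

variable {D : Type u} [Group D] [Finite D] {m : ℕ} (T : Subgroup (Perm (Fin m)))

theorem nge_K [Nontrivial D] (h : IsPGroup 2 D) : NGe m (K D T) := by
  have := h.center_nontrivial
  obtain ⟨k, k0, hk⟩ := (h.to_subgroup (center D)).nontrivial_iff_card.1 this
  obtain ⟨z, hz⟩ := exists_prime_orderOf_dvd_card' (G := center D) 2 (hk ▸ dvd_pow_self 2 k0.ne')
  have c : ∀ x ∈ zpowers z.1, ∀ y, y * x = x * y := fun x hx => mem_center_iff.1 ((zpowers_le (H := center D)).2 z.2 hx)
  refine ⟨((pi Set.univ fun _ => zpowers z.1).map inl).subgroupOf _, ⟨?_⟩, ⟨⟨⟨?_⟩⟩, ?_⟩, ?_⟩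
  · rintro x ⟨f, hf, e⟩ g
    refine ⟨fun i => f (g.1.r⁻¹ i), fun i _ => hf _ trivial, ?_⟩
    change _ = g.1 * x.1 * g.1⁻¹
    rw [← show inl f = x.1 from e]
    ext i <;> simp [c _ (hf _ trivial)]
  · rintro ⟨x, f, hf, e⟩ ⟨y, g, hg, e'⟩
    refine Subtype.ext (Subtype.ext ?_)
    change x.1 * y.1 = y.1 * x.1
    rw [← show inl f = x.1 from e, ← show inl g = y.1 from e', ← map_mul, ← map_mul]
    exact congrArg _ (funext fun i => c _ (hg i trivial) _)
  · rintro x ⟨f, hf, e⟩
    refine Subtype.ext ?_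
    rw [coe_pow, ← show inl f = x.1 from e, ← map_pow, show f ^ 2 = 1 from funext fun i => ?_, map_one, coe_one]
    obtain ⟨j, hj⟩ := hf i trivial
    rw [Pi.pow_apply, ← hj, ← zpow_natCast, ← zpow_mul, mul_comm, zpow_mul, zpow_natCast, ← coe_pow, ← hz,
      pow_orderOf_eq_one]; simp
  · rw [Nat.card_congr (subgroupOfEquivOfLe (by rintro _ ⟨f, -, rfl⟩; exact T.one_mem)).toEquiv,
      card_map_of_injective inl_inj]
    refine le_of_eq_of_le ?_ (Nat.card_le_card_of_injective (α := Fin m → zpowers z.1)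
      (fun f => ⟨fun i => f i, fun i _ => (f i).2⟩) fun f g h => funext fun i => Subtype.ext (congrFun (congrArg Subtype.val h) i))
    rw [Nat.card_fun, Nat.card_zpowers, orderOf_coe, hz, Nat.card_fin]

theorem nle_K (h : NLe 1 D) {d : D} (hd : d ^ 2 ≠ 1) : NLe m (K D T) := fun E h1 h2 => by
  have b : ∀ x ∈ E, x.1.r = 1 := fun x hx => Equiv.ext fun i => by_contra fun e => hd (by
    have := congrArg (fun w : K D T => w.1.l (x.1.r i))
      (h2.2 _ (E.mul_mem (h1.conj_mem x hx ⟨sg (x.1.r i) d, T.one_mem⟩) (E.inv_mem hx)))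
    have e' : i ≠ x.1.r i := fun k => e k.symm
    simpa [sq, sg_apply, e'] using this)
  let π : Fin m → E →* D := fun i => MonoidHom.mk' (fun x => x.1.1.l i) fun x y => by simp [b _ x.2]
  have c : ∀ i, Nat.card (π i).range ≤ 2 := fun i => h _ ⟨by
      rintro _ ⟨x, rfl⟩ g
      exact ⟨⟨_, h1.conj_mem _ x.2 ⟨sg i g, T.one_mem⟩⟩, by simp [π, sg_apply, b _ x.2]⟩⟩ (by
    rw [MonoidHom.range_eq_map]
    exact ea_map ⟨⟨⟨fun x y => Subtype.ext (h2.1.1.1 _ _)⟩⟩, fun x _ => Subtype.ext (h2.2 _ x.2)⟩ _)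
  refine (Nat.card_le_card_of_injective (β := ∀ i, (π i).range) (fun x i => ⟨_, x, rfl⟩) fun x y e =>
    Subtype.ext (Subtype.ext (W.ext (funext fun i => congrArg Subtype.val (congrFun e i))
      ((b _ x.2).trans (b _ y.2).symm)))).trans ?_
  rw [Nat.card_pi]
  simpa using Finset.prod_le_pow_card Finset.univ _ 2 fun i _ => c i

end gen

section sp
variable {F : Type u} [Field F] {V : Type v} [AddCommGroup V] [Module F V] {U : Type w} [AddCommGroup U] [Module F U]

variable (F) in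
/-- The symplectic plane. -/
def dF : CForm (FP.symp F) (Fin 2 → F) where
  B u v := u 0 * v 1 - u 1 * v 0
  Q _ := 0
  B_add_left u v w := by simp; ring
  B_smul_left a u w := by simp; ring
  B_symm u v := by simp; ring
  Q_add := by simp
  Q_smul := by simp
  Q_diag v := ⟨0, by simp, by simp; ring⟩

theorem dF_nondeg : (dF F).Nondeg := fun v hv => by
  have h0 := hv (Pi.single 0 1)
  have h1 := hv (Pi.single 1 1)
  ext i; fin_cases i <;> simp_all [dF]

/-- `SL₂` inside the isometry group of the plane. -/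
noncomputable def dH : Matrix.SpecialLinearGroup (Fin 2) F →* (dF F).Isom :=
  Matrix.SpecialLinearGroup.toLin'.codRestrict _ fun g => mem_Isom_symp.2 fun u v => by
    have := g.det_coe
    rw [Matrix.det_fin_two] at this
    simp [dF, Matrix.SpecialLinearGroup.toLin'_apply, Matrix.mulVec, dotProduct]
    linear_combination (u 0 * v 1 - u 1 * v 0) * this

theorem dH_inj : Function.Injective (dH (F := F)) :=
  fun _ _ h => Matrix.SpecialLinearGroup.toLin'_injective (congrArg Subtype.val h)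

theorem sp_emb [FiniteDimensional F V] [FiniteDimensional F U] {g : CForm (FP.symp F) V} {f : CForm (FP.symp F) U}
    (hg : g.Nondeg) (hf : f.Nondeg) {a b : ℕ} (ha : finrank F V = 2 * a) (hb : finrank F U = 2 * b) (h : a ≤ b) :
    ∃ φ : g.Isom →* f.Isom, Function.Injective φ := by
  obtain ⟨k, rfl⟩ := Nat.exists_eq_add_of_le h
  obtain ⟨e, he⟩ := symp_exists_isIso _ (Gc.prodF_nondeg hg (spForm_nondeg k)) hf
    (by rw [finrank_prod, ha, finrank_sum_fun, mul_add]) hb
  exact ⟨he.isomEquiv.toMonoidHom.comp (pI.comp (MonoidHom.inl _ _)),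
    he.isomEquiv.injective.comp (pI_inj.comp fun _ _ h => congrArg Prod.fst h)⟩

variable [Fintype F]

theorem v_SL2 (hq : Odd (Fintype.card F)) : padicValNat 2 (Nat.card (Matrix.SpecialLinearGroup (Fin 2) F)) =
    padicValNat 2 (Fintype.card F + 1) + padicValNat 2 (Fintype.card F - 1) := by
  have := v_even Fintype.one_lt_card hq one_ne_zero
  rw [card_SL2, ← pow_one (Fintype.card F), v_qpow hq _ (by rw [pow_one]; exact sub_ne Fintype.one_lt_card two_ne_zero)]
  simpa using this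

theorem sp_syl (hq : Odd (Fintype.card F)) (n : ℕ) (P : Sylow 2 (Matrix.symplecticGroup (Fin n) F))
    (D : Sylow 2 (Matrix.SpecialLinearGroup (Fin 2) F)) (T : Sylow 2 (Perm (Fin n))) : Nonempty (K D.1 T.1 ≃* P.1) := by
  have := finite_linearEquiv (F := F) (V := Fin n ⊕ Fin n → F)
  have := Finite.of_equiv _ (spEquiv (F := F) n).symm.toEquiv
  obtain ⟨φ, hφ⟩ := sp_emb (piF_nondeg (ι := Fin n) (dF_nondeg (F := F))) (spForm_nondeg n) (a := n)
    (by simp [finrank_pi_fintype, mul_comm]) (finrank_sum_fun n) le_rfl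
  refine syl_equiv (φ := (spEquiv n).symm.toMonoidHom.comp (φ.comp (linI.comp (map (dH.comp D.1.subtype)))))
    ((spEquiv n).symm.injective.comp (hφ.comp (linI_inj.comp (map_inj (dH_inj.comp D.1.subtype_injective)))))
    (pg_K D.2 T.2) ?_ P
  rw [Nat.card_congr (spEquiv n).toEquiv, symp_card_Isom n (spForm_nondeg n) (finrank_sum_fun n), v_K, v_syl, v_SL2 hq,
    Nat.card_eq_fintype_card, v_qpow hq _ (Finset.prod_ne_zero_iff.2 fun i _ => sub_ne Fintype.one_lt_card (by omega)),
    v_prod Fintype.one_lt_card hq]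

theorem sl2_q (hq : Odd (Fintype.card F)) (D : Sylow 2 (Matrix.SpecialLinearGroup (Fin 2) F)) :
    Good 2 (⊤ : Subgroup D.1) ∧ derivedSeries D.1 2 = ⊥ ∧ derivedSeries D.1 1 ≠ ⊥ := by
  obtain ⟨k, hk, ⟨e⟩⟩ := Cfsg.Agent.S0261.result hq D
  exact ⟨good_equiv e.symm (q_good (Nat.even_pow.2 ⟨even_two, by omega⟩)), ds_inj (φ := e.toMonoidHom) e.injective q_ds2,
    fun h => q_ds1 (Nat.le_self_pow (by omega) 2) (ds_inj (φ := e.symm.toMonoidHom) e.symm.injective h)⟩

theorem dl_sp (hq : Odd (Fintype.card F)) (j : ℕ) : ∀ n, 2 ^ j ≤ n → DL 2 (j + 1) (spForm F n).Isom := by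
  induction j with
  | zero =>
    intro n hn
    obtain ⟨D⟩ : Nonempty (Sylow 2 (Matrix.SpecialLinearGroup (Fin 2) F)) := inferInstance
    obtain ⟨φ, hφ⟩ := sp_emb (dF_nondeg (F := F)) (spForm_nondeg n) (a := 1) (by simp) (finrank_sum_fun n) hn
    exact DL.map (DL.map ⟨D.1, D.2, (sl2_q hq D).2.2⟩ dH_inj) hφ
  | succ j ih =>
    intro n hn
    have := finite_linearEquiv (F := F) (V := Fin (2 ^ j) ⊕ Fin (2 ^ j) → F)
    obtain ⟨φ, hφ⟩ := sp_emb (piF_nondeg (ι := ZMod 2) (spForm_nondeg (F := F) (2 ^ j))) (spForm_nondeg n) (a := 2 ^ (j + 1))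
      (by simp [finrank_pi_fintype]; ring) (finrank_sum_fun n) hn
    exact ((ih _ le_rfl).wr.map linI_inj).map hφ

end sp

end CfsgH5.Wr
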