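import Cfsg.Agent.H5.Wr5

set_option autoImplicit false

/-! Sylow subgroups of general and special linear groups in cross characteristic. -/

namespace CfsgH5.Wr

open Cfsg.Agent.S4623 (Good good_iff)
open Equiv Subgroup Module CfsgH5.CForm CfsgH5.Rk
open scoped commutatorElement

universe u v w

variable {F : Type u} [Field F] {V : Type v} [AddCommGroup V] [Module F V] [FiniteDimensional F V]

/-- Matrices of linear automorphisms. -/
noncomputable def glE {n : ℕ} (h : finrank F V = n) : (V ≃ₗ[F] V) ≃* GL (Fin n) F :=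
  ((Matrix.GeneralLinearGroup.toLin' (finBasisOfFinrankEq F V h)).trans
    (LinearMap.GeneralLinearGroup.generalLinearEquiv F V)).symm

/-- The linear automorphism of a matrix of determinant one. -/
noncomputable def slH {n : ℕ} (e : (Fin n → F) ≃ₗ[F] V) : Matrix.SpecialLinearGroup (Fin n) F →* (V ≃ₗ[F] V) :=
  (conjEquiv e).toMonoidHom.comp Matrix.SpecialLinearGroup.toLin'

omit [FiniteDimensional F V] in
theorem slH_range {n : ℕ} (e : (Fin n → F) ≃ₗ[F] V) (g : V ≃ₗ[F] V) : g ∈ LinearEquiv.det.ker ↔ ∃ s, slH e s = g := by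
  obtain ⟨g, rfl⟩ := (conjEquiv e).surjective g
  rw [MonoidHom.mem_ker, Units.ext_iff, LinearEquiv.coe_det, conjEquiv_det]
  refine ⟨fun k => ⟨⟨LinearMap.toMatrix' g.toLinearMap, by rw [LinearMap.det_toMatrix', k]; rfl⟩, ?_⟩, fun ⟨s, k⟩ => ?_⟩
  · refine congrArg (conjEquiv e) (LinearEquiv.toLinearMap_injective ?_)
    exact (Matrix.SpecialLinearGroup.toLin'_to_linearMap _).trans (Matrix.toLin'_toMatrix' _)
  · rw [← show Matrix.SpecialLinearGroup.toLin' s = g from (conjEquiv e).injective k,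
      Matrix.SpecialLinearGroup.toLin'_to_linearMap, LinearMap.det_toLin', s.2]; rfl

/-- Matrices of linear automorphisms of determinant one. -/
noncomputable def slE {n : ℕ} (h : finrank F V = n) :
    Matrix.SpecialLinearGroup (Fin n) F ≃* (LinearEquiv.det.ker : Subgroup (V ≃ₗ[F] V)) :=
  equivOfRange (slH (finBasisOfFinrankEq F V h).equivFun.symm)
    ((conjEquiv _).injective.comp Matrix.SpecialLinearGroup.toLin'_injective) _ (slH_range _)

theorem uH_inj {E : Type*} [Field E] [Algebra F E] : Function.Injective (DistribMulAction.toModuleAut F E : Eˣ →* _) :=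
  fun _ _ h => Units.ext (by simpa [Units.smul_def] using DFunLike.congr_fun h 1)

theorem dl_gl [Finite F] {p k : ℕ} [hp : Fact p.Prime] (h0 : 0 < finrank F V) (h : DL p k (V ≃ₗ[F] V)) (j : ℕ) :
    ∀ n, p ^ j * finrank F V ≤ n → DL p (k + j) ((Fin n → F) ≃ₗ[F] (Fin n → F)) := by
  induction j with
  | zero =>
    intro n hn
    obtain ⟨φ, hφ⟩ := gl_emb (F := F) (V := V) (U := Fin n → F) (by simpa using hn)
    exact h.map hφ
  | succ j ih =>
    intro n hn
    have : NeZero p := ⟨hp.out.ne_zero⟩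
    have : Nonempty (Fin (p ^ j * finrank F V)) := ⟨⟨0, Nat.mul_pos (pow_pos hp.out.pos _) h0⟩⟩
    have := finite_linearEquiv (F := F) (V := Fin (p ^ j * finrank F V) → F)
    obtain ⟨φ, hφ⟩ := gl_emb (F := F) (V := ZMod p → Fin (p ^ j * finrank F V) → F) (U := Fin n → F)
      (by simpa [finrank_pi_fintype, pow_succ', mul_assoc] using hn)
    exact ((ih _ le_rfl).wr.map lin_inj).map hφ

variable [Fintype F]

instance fin2 : Finite ((Fin 2 → F) ≃ₗ[F] (Fin 2 → F)) := finite_linearEquiv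

theorem good_Q (hq : Odd (Fintype.card F)) (D : Sylow 2 ((Fin 2 → F) ≃ₗ[F] (Fin 2 → F))) :
    Good 2 (LinearEquiv.det.ker.subgroupOf D.1) := good_syl_inf (fun Q => by
  let e := slE (F := F) (V := Fin 2 → F) (n := 2) (by simp)
  have hs : Function.Surjective e.symm.toMonoidHom := e.symm.surjective
  exact good_comap (f := e.symm.toMonoidHom) e.symm.injective (good_top.1 (sl2_q hq (Q.mapSurjective hs)).1)) D

theorem exists_D (hq : Odd (Fintype.card F)) : ∃ D : Sylow 2 ((Fin 2 → F) ≃ₗ[F] (Fin 2 → F)), ∃ x : D.1, x ^ 2 = 1 ∧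
    LinearMap.det x.1.toLinearMap = -1 := by
  obtain ⟨D, hD⟩ := (IsPGroup.map (p := 2) (H := (⊤ : Subgroup (Fin 2 → ℤˣ))) (.of_card (n := 2) (by simp))
    (dg (Pi.basisFun F (Fin 2)))).exists_le_sylow
  exact ⟨D, ⟨_, hD ⟨![-1, 1], trivial, rfl⟩⟩, Subtype.ext (by
    rw [coe_pow, ← map_pow, show ![-1, 1] ^ 2 = (1 : Fin 2 → ℤˣ) by decide, map_one]; rfl), by simp [det_dg]⟩

theorem pm_one (hq : Fintype.card F % 4 = 3) {a : F} {k : ℕ} (h : a ^ 2 ^ k = 1) : a = 1 ∨ a = -1 := by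
  have a0 : a ≠ 0 := by rintro rfl; simp at h
  have h1 := pow_gcd_eq_one.2 ⟨h, FiniteField.pow_card_sub_one_eq_one a a0⟩
  obtain ⟨j, -, hj⟩ := (Nat.dvd_prime_pow Nat.prime_two).1 (Nat.gcd_dvd_left (2 ^ k) (Fintype.card F - 1))
  have h2 := Nat.gcd_dvd_right (2 ^ k) (Fintype.card F - 1)
  rw [hj] at h1 h2
  rcases j with _ | _ | j
  · exact .inl (by simpa using h1)
  · exact mul_self_eq_one_iff.1 (by simpa [sq] using h1)
  · have := (Dvd.intro_left (2 ^ j) (by ring) : 4 ∣ 2 ^ (j + 1 + 1)).trans h2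
    omega

theorem odd3 (hq : Fintype.card F % 4 = 3) : Odd (Fintype.card F) := Nat.odd_iff.2 (by omega)

theorem v_D (hq : Odd (Fintype.card F)) (D : Sylow 2 ((Fin 2 → F) ≃ₗ[F] (Fin 2 → F))) : padicValNat 2 (Nat.card D.1) =
    padicValNat 2 (Fintype.card F + 1) + padicValNat 2 (Fintype.card F - 1) + padicValNat 2 (Fintype.card F - 1) := by
  rw [v_syl, card_gl, Nat.card_eq_fintype_card, v_go2 Fintype.one_lt_card hq]; simp

theorem det_pm (hq : Fintype.card F % 4 = 3) {D : Sylow 2 (V ≃ₗ[F] V)} (d : D.1) :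
    LinearMap.det d.1.toLinearMap = 1 ∨ LinearMap.det d.1.toLinearMap = -1 := by
  obtain ⟨k, hk⟩ := D.2 d
  refine pm_one hq (k := k) ?_
  rw [← LinearEquiv.coe_det, ← Units.val_pow_eq_pow_val, ← map_pow, ← coe_pow, hk]; simp

theorem good_D (hq : Fintype.card F % 4 = 3) {D : Sylow 2 ((Fin 2 → F) ≃ₗ[F] (Fin 2 → F))} {x : D.1} (h : x ^ 2 = 1)
    (k : LinearMap.det x.1.toLinearMap = -1) : (∀ d : D.1, LinearEquiv.det d.1 = 1 ∨ LinearEquiv.det (d * x⁻¹).1 = 1) ∧
    Good 2 (⊤ : Subgroup D.1) := by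
  have : ∀ d : D.1, LinearEquiv.det d.1 = 1 ∨ LinearEquiv.det (d * x⁻¹).1 = 1 := fun d =>
    (det_pm hq d).imp (fun e => Units.ext (by rw [LinearEquiv.coe_det, e]; rfl)) fun e => by
      rw [coe_mul, coe_inv, map_mul, map_inv, mul_inv_eq_one]
      exact Units.ext (by rw [LinearEquiv.coe_det, LinearEquiv.coe_det, e, k])
  refine ⟨this, good_of fun d _ => ?_⟩
  have g := le_pw (good_Q (odd3 hq) D) le_top
  rcases this d with e | e
  · exact g e
  · simpa using mul_mem (g (x := d * x⁻¹) e) (mem_pw.2 ⟨mem_top x, h ▸ one_mem _⟩)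

theorem card_D (hq : Fintype.card F % 4 = 3) (D : Sylow 2 ((Fin 2 → F) ≃ₗ[F] (Fin 2 → F))) : 16 ≤ Nat.card D.1 := by
  have h1 := v_D (odd3 hq) D
  have h2 := v_le (p := 2) (a := 2 ^ 2) (b := Fintype.card F + 1) (by omega) (by omega)
  rw [padicValNat.prime_pow] at h2
  rw [v_one (n := Fintype.card F - 1) (by omega)] at h1
  exact Nat.le_of_dvd Nat.card_pos ((pow_dvd_pow 2 (by omega : 4 ≤ _)).trans pow_padicValNat_dvd)

theorem nle_D (hq : Fintype.card F % 4 = 3) (D : Sylow 2 ((Fin 2 → F) ≃ₗ[F] (Fin 2 → F))) : NLe 1 D.1 := fun E h1 hE => by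
  have h2 := two_ne_of_odd (odd3 hq)
  obtain ⟨b', hb'⟩ := exists_basis (D.1.subtype.comp E.subtype) h2 hE.1.1.1 fun a => Subtype.ext (hE.2 _ a.2)
  let c : Fin (finrank F (Fin 2 → F)) ≃ Fin 2 := finCongr (by simp)
  let b := b'.reindex c
  have hb : ∀ a ∈ E, ∃ e, a.1 = dg b e := fun a ha => by
    obtain ⟨e, he⟩ := hb' ⟨a, ha⟩
    exact ⟨e ∘ c.symm, he.trans (eq_dg _ fun i => by simp [b, dg_apply])⟩
  by_contra! hc
  obtain ⟨x, hx, e, he, hne⟩ : ∃ x ∈ E, ∃ e, x.1 = dg b e ∧ e 0 ≠ e 1 := by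
    by_contra! k
    refine hc.not_ge ((card_le (D.1.subtype.comp E.subtype) (D.1.subtype_injective.comp E.subtype_injective) b
      (fun a => hb _ a.2) (zpowers (-1)) fun a e he => ?_).trans ?_)
    · have := k _ a.2 e he
      rcases Int.units_eq_one_or (e 1) with h | h
      · rw [show e = 1 by ext i; fin_cases i <;> simp_all]; exact one_mem _
      · rw [show e = -1 by ext i; fin_cases i <;> simp_all]; exact mem_zpowers _
    · rw [Nat.card_zpowers]; exact orderOf_le_of_pow_eq_one two_pos (by decide)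
  have z : ∀ g : (Fin 2 → F) ≃ₗ[F] (Fin 2 → F), g * dg b (-1) = dg b (-1) * g := fun g => by
    rw [← eq_dg (g := LinearEquiv.neg F) b (by simp)]; ext; simp
  have cj : ∀ g : D.1, g ∉ centralizer {x} → g.1 * x.1 * g.1⁻¹ = dg b (-1) * x.1 := fun g hg => by
    obtain ⟨e', he'⟩ := hb _ (h1.conj_mem x hx g)
    have d : e' 0 * e' 1 = e 0 * e 1 := sg_inj h2 (by
      rw [← Fin.prod_univ_two, ← Fin.prod_univ_two, ← det_dg b, ← det_dg b, ← he, ← he', ← LinearEquiv.coe_det,
        ← LinearEquiv.coe_det]; simp [mul_comm])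
    have n : e' ≠ e := by
      rintro rfl
      exact hg (mem_centralizer_singleton_iff.2 (mul_inv_eq_iff_eq_mul.1 (Subtype.ext (he'.trans he.symm))))
    refine he'.trans ?_
    rw [he, ← map_mul]
    congr 1
    exact (by decide : ∀ e e' : Fin 2 → ℤˣ, e 0 ≠ e 1 → e' 0 * e' 1 = e 0 * e 1 → e' ≠ e → e' = -1 * e) _ _ hne d n
  have i2 : (centralizer {x}).index ∣ 2 := by
    by_cases k : ∃ a, a ∉ centralizer {x}
    · obtain ⟨a, ha⟩ := k
      refine index_dvd_two_iff.2 ⟨a, fun g => or_iff_not_imp_right.2 fun hg => mem_centralizer_singleton_iff.2 ?_⟩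
      refine Subtype.ext (mul_inv_eq_iff_eq_mul.1 ?_)
      calc _ = g.1 * (a.1 * x.1 * a.1⁻¹) * g.1⁻¹ := by simp [mul_assoc]
        _ = dg b (-1) * (g.1 * x.1 * g.1⁻¹) := by rw [cj a ha, ← mul_assoc, z, mul_assoc, mul_assoc, mul_assoc]
        _ = _ := by rw [cj g hg, ← mul_assoc, ← map_mul]; simp
    · push Not at k
      rw [(eq_top_iff' _).2 k, index_top]; exact one_dvd _
  have c4 : Nat.card (centralizer {x}) ≤ 4 := by
    refine (card_le (D.1.subtype.comp (centralizer {x}).subtype) (D.1.subtype_injective.comp (subtype_injective _)) b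
      (fun g => ?_) ⊤ fun _ _ _ => trivial).trans (by simp)
    have hg : g.1.1 * x.1 = x.1 * g.1.1 := congrArg Subtype.val (mem_centralizer_singleton_iff.1 g.2)
    have : ∀ i, ∃ s, g.1.1 (b i) = Rk.sg F s • b i := fun i => by
      have h3 := DFunLike.congr_fun hg (b i)
      have h4 := b.sum_repr (g.1.1 (b i))
      rw [LinearEquiv.mul_apply, LinearEquiv.mul_apply, he, dg_apply, map_smul, ← h4, Fin.sum_univ_two, map_add, map_smul,
        map_smul, dg_apply, dg_apply] at h3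
      have h5 := congrArg (b.repr · 0) h3
      have h6 := congrArg (b.repr · 1) h3
      have h7 : Rk.sg F (e 0) ≠ Rk.sg F (e 1) := fun k => hne (sg_inj h2 k)
      have h8 : g.1.1 (b i) = b.repr (g.1.1 (b i)) i • b i := by
        rw [Fin.sum_univ_two] at h4
        fin_cases i <;> simp [mul_comm, h7, h7.symm] at h5 h6 h4 ⊢ <;> simp_all
      obtain ⟨k, hk⟩ := D.2 g.1
      have h9 : ∀ n, (g.1.1 ^ n) (b i) = b.repr (g.1.1 (b i)) i ^ n • b i := fun n => by
        induction n with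
        | zero => simp
        | succ n ih => rw [pow_succ', LinearEquiv.mul_apply, ih, map_smul, pow_succ, mul_smul, ← h8]
      have := h9 (2 ^ k)
      rw [← coe_pow, hk] at this
      rcases pm_one hq (smul_left_injective F (b.ne_zero i) (this.symm.trans (one_smul F _).symm)) with k | k
      exacts [⟨1, by rw [h8, k, map_one]⟩, ⟨-1, by rw [h8, k, sg_neg]⟩]
    choose s hs using this
    exact ⟨s, eq_dg b hs⟩
  have := card_D hq D
  rw [← (centralizer {x}).index_mul_card] at this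
  have := Nat.mul_le_mul (Nat.le_of_dvd two_pos i2) c4
  omega

theorem exp_D (hq : Fintype.card F % 4 = 3) (D : Sylow 2 ((Fin 2 → F) ≃ₗ[F] (Fin 2 → F))) : ∃ d : D.1, d ^ 2 ≠ 1 := by
  by_contra! k
  have := nle_D hq D ⊤ inferInstance ⟨⟨⟨fun a b => Subtype.ext (Commute.of_orderOf_dvd_two
    (fun g => orderOf_dvd_of_pow_eq_one (k g)) _ _)⟩⟩, fun a _ => k a⟩
  have := card_D hq D
  rw [card_top] at *
  omega

omit [Fintype F] in
theorem rank2 (m : ℕ) : finrank F (Fin m → Fin 2 → F) = 2 * m := by simp [finrank_pi_fintype, mul_comm]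

end CfsgH5.Wr
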