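import Cfsg.Agent.H5.Wr6

set_option autoImplicit false

/-! Sylow 2-subgroups of full and special orthogonal groups in odd characteristic. -/

namespace CfsgH5.Wr

open Cfsg.Agent.S4623 (Good good_iff)
open Equiv Subgroup Module CfsgH5.CForm CfsgH5.Rk CfsgH5.Fm CfsgH5.Au

universe u v w

variable {F : Type u} [Field F] {V : Type v} [AddCommGroup V] [Module F V]

variable [Fintype F]

theorem model_good2 (hq : Odd (Fintype.card F)) {m k : ℕ} (hm : 2 ≤ m) {c : Fin k → F} (hc : ∀ i, c i ≠ 0)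
    (hv : padicValNat 2 (Nat.card (mF m c).Isom) ≤ k +
      (m * (padicValNat 2 (Fintype.card F + 1) + padicValNat 2 (Fintype.card F - 1)) + padicValNat 2 m.factorial))
    {N : Subgroup (mF m c).Isom}
    (hN : (dick (mF_nondeg (two_ne_of_odd hq) m hc) (split_of_two_ne (two_ne_of_odd hq))).ker ≤ N)
    {H : Type*} [Group H] (e : H ≃* N) (P : Sylow 2 H) :
    ∀ x : P.1, x ^ 2 ∈ _root_.commutator P.1 := by
  have h2 := two_ne_of_odd hq
  have hf := mF_nondeg h2 m hc
  have hs : (mF m c).Split := split_of_two_ne h2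
  have := finite_linearEquiv (F := F) (V := Fin 2 → F)
  have := finite_linearEquiv (F := F) (V := (Fin m → Fin 2 → F) × (Fin k → F))
  have : Nontrivial (Fin m) := Fin.nontrivial_iff_two_le.2 hm
  let r : (sqF F 2).Isom := ⟨_, rf_mem (Pi.single 0 1)⟩
  obtain ⟨D, hD⟩ := (IsPGroup.of_card (p := 2) (G := zpowers r) (n := 1) (by
    rw [Nat.card_zpowers, pow_one]
    refine orderOf_eq_prime (Subtype.ext (by simp [r, sq])) fun e => ?_
    have := rf_det (f := sqF F 2) (d := Pi.single 0 1) (by simp [sqF_Q])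
    rw [show (sqF F 2).rf (Pi.single 0 1) = 1 from congrArg Subtype.val e] at this
    exact h2 (by simp at this; linear_combination this))).exists_le_sylow
  obtain ⟨T⟩ : Nonempty (Sylow 2 (Perm (Fin m))) := inferInstance
  let φ : W D.1 (Fin m) × (Fin k → ℤˣ) →* (mF m c).Isom := pI.comp ((linI.comp (map D.1.subtype)).prodMap (DI (wF_ob hc)))
  let χ := ((dick hf hs).prod (1 : _ →* ℤˣ)).comp φ
  have dt : ∀ x, (χ x).1 = -1 ↔ LinearMap.det (φ x).1.toLinearMap = -1 := fun x => by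
    rw [det_eq_dick hf hs]
    change dick hf hs (φ x) = -1 ↔ _
    rcases Int.units_eq_one_or (dick hf hs (φ x)) with h | h <;> simp [h]
    exact fun e => h2 (by linear_combination e)
  have d1 : ∀ i d, LinearMap.det (φ (sg i d, 1)).1.toLinearMap = LinearMap.det (d.1.1 : (Fin 2 → F) →ₗ[F] _) := fun i d => by
    refine (det_pH (lin (map (sqF F 2).Isom.subtype (map D.1.subtype (sg i d))), (DI (wF_ob hc) 1).1)).trans ?_
    rw [map_sg, map_sg, det_sg, map_one]; simp
  have cL : Nat.card ((K D.1 T.1).prod (⊤ : Subgroup (Fin k → ℤˣ))) = Nat.card (K D.1 T.1) * 2 ^ k := by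
    rw [Nat.card_congr (prodEquiv _ _).toEquiv, Nat.card_prod, card_top]; simp
  have i1 : Function.Injective (DI (wF_ob hc)) := fun a b h => dg_inj h2 (Pi.basisFun F _) (congrArg Subtype.val h)
  have i2 : Function.Injective (linI.comp (map (ι := Fin m) D.1.subtype)) := linI_inj.comp (map_inj D.1.subtype_injective)
  have nN : N.Normal := ⟨fun x hx g => by
    have : g * x * g⁻¹ * x⁻¹ ∈ N := Abelianization.commutator_subset_ker _ |>.trans hN <| commutator_mem_commutator (mem_top g) (mem_top x)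
    simpa using N.mul_mem this hx⟩
  refine good_inf (φ := φ) (L := (K D.1 T.1).prod ⊤) (pI_inj.comp (i2.prodMap i1)) ?_ ?_ ?_ e P
  · obtain ⟨a, ha⟩ := IsPGroup.iff_card.1 (pg_K D.2 T.2)
    exact .of_card (n := a + k) (by rw [cL, ha, pow_add])
  · rw [cL, padicValNat.mul Nat.card_pos.ne' (by positivity), v_K, v_syl, v_plane hq, padicValNat.prime_pow]
    omega
  by_cases hT : N = ⊤
  · rw [hT, comap_top, inf_top_eq]
    have gD : Good 2 (⊤ : Subgroup D.1) := good_of fun d _ => by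
      have inv : ∀ x : D.1, (χ (sg ⟨0, by omega⟩ x, 1)).1 = -1 → x ∈ pw 2 ⊤ := fun x h => mem_pw.2 ⟨trivial, by
        rw [show x ^ 2 = 1 from Subtype.ext (plane_inv h2 (by rw [← d1, ← dt, h]))]; exact one_mem _⟩
      have hr : (χ (sg ⟨0, by omega⟩ ⟨r, hD (mem_zpowers _)⟩, 1)).1 = -1 := by
        rw [dt, d1]; exact rf_det (by simp [sqF_Q])
      rcases Int.units_eq_one_or (χ (sg ⟨0, by omega⟩ d, 1)).1 with h | h
      · have := mul_mem (inv (d * ⟨r, hD (mem_zpowers _)⟩) (by
          rw [map_mul, ← mul_one (1 : Fin k → ℤˣ), ← Prod.mk_mul_mk, map_mul, Prod.fst_mul, h, hr, one_mul])) (inv_mem (inv _ hr))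
        simpa using this
      · exact inv d h
    refine good_of fun w hw => ?_
    rw [← Prod.fst_mul_snd w]
    exact mul_mem (le_pw ((good_K gD (good_T T)).map (MonoidHom.inl _ _)) (by
      rintro _ ⟨x, hx, rfl⟩; exact ⟨hx, trivial⟩) ⟨_, hw.1, rfl⟩) (mem_pw.2 ⟨⟨one_mem _, trivial⟩, by
        rw [Prod.pow_mk, one_pow, show w.2 ^ 2 = 1 from funext fun i => Int.units_sq _]; exact one_mem _⟩)
  have : N.comap φ = χ.ker := by
    ext x
    rw [mem_comap, MonoidHom.mem_ker, Prod.ext_iff]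
    refine ⟨fun h => ⟨(Int.units_eq_one_or _).resolve_right fun k => hT (eq_top_iff.2 fun y _ => ?_), rfl⟩, fun h => hN h.1⟩
    rcases Int.units_eq_one_or (dick hf hs y) with e | e
    · exact hN e
    · have : y * (φ x)⁻¹ ∈ N := hN (by
        rw [MonoidHom.mem_ker, map_mul, map_inv, e, show dick hf hs (φ x) = -1 from k]; rfl)
      simpa using N.mul_mem this h
  rw [this]
  refine good_O (r := ⟨r, hD (mem_zpowers _)⟩) (good_T T) (fun s => ?_) (fun i d h => Subtype.ext (plane_inv h2 ?_))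
    (fun i => ?_) ?_
  · let t : Perm (Fin m × Fin 2) →* (piF (sqF F 2) (Fin m)).Isom := θ.codRestrict _ fun s => mem_Isom_orth.2 fun v => by
      simp only [piF_Q, sqF_Q, ← Fintype.sum_prod_type']
      exact Equiv.sum_comp s⁻¹ fun x => v x.1 x.2 * v x.1 x.2
    refine Eq.trans ?_ (hom_top (((dick hf hs).prod (1 : _ →* ℤˣ)).comp (pI.comp ((MonoidHom.inl _ _).comp t))) s)
    exact congrArg ((dick hf hs).prod (1 : _ →* ℤˣ)) (congrArg pI (Prod.ext rfl (map_one (DI (wF_ob hc)))))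
  · rw [← d1 i, ← dt, h]
  · rw [dt, d1]; exact rf_det (by simp [sqF_Q])
  · refine eq_top_iff.2 fun x _ => pi_mem_of_mulSingle_mem x fun i => ?_
    rcases Int.units_eq_one_or (x i) with h | h <;> rw [h]
    · simp
    refine subset_closure ⟨(dt _).2 ((det_pH (lin (map (sqF F 2).Isom.subtype (map D.1.subtype 1)), dg (Pi.basisFun F _) _)).trans ?_), funext fun j => Int.units_sq _⟩
    simp [det_dg]

theorem so4 [FiniteDimensional F V] {f : CForm (FP.orth F) V} (hf : f.Nondeg) (hq : Odd (Fintype.card F))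
    (h : finrank F V = 4) (hp : f.IsPlus) {N : Subgroup f.Isom} (hN : (dick hf (split_of_two_ne (two_ne_of_odd hq))).ker ≤ N)
    {H : Type*} [Group H] (e : H ≃* N) (P : Sylow 2 H) : ∀ x : P.1, x ^ 2 ∈ _root_.commutator P.1 := by
  have h2 := two_ne_of_odd hq
  have h1 : 1 < Fintype.card F := Fintype.one_lt_card
  have hc : ∀ i : Fin 0, (fun _ => (1 : F)) i ≠ 0 := fun _ => one_ne_zero
  have h0 := mF_nondeg h2 2 hc
  have t : (mF 2 fun _ : Fin 0 => (1 : F)).IsPlus := ((mF_type h2 2 (n := 2) hc rfl).1 (by simp)).2 (by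
    obtain ⟨k, hk⟩ := hq
    rw [hk, show (2 * k + 1) ^ 2 = 1 + 4 * (k * k + k) by ring, Nat.add_mul_mod_self_left])
  obtain ⟨j, hj⟩ := orth_exists_isIso_even 2 hf h0 h (mF_rank _ _) (by simp [hp, t])
  refine model_good2 hq le_rfl hc ?_ (N := N.map hj.isomEquiv.toMonoidHom) (fun g hg => ?_)
    (e.trans (hj.isomEquiv.subgroupMap N)) P
  · obtain ⟨N, n1, n2⟩ := v_card_even (m := 1) h0 hq (mF_rank _ _)
    obtain rfl : N = Fintype.card F ^ (2 * 1) - 1 := (n2.resolve_right fun k => k.1 t).2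
    rw [n1, v_even h1 hq one_ne_zero]
    simp; omega
  obtain ⟨g, rfl⟩ := hj.isomEquiv.surjective g
  refine ⟨g, hN ((dick_iff_det _ _ h2 _).2 ?_), rfl⟩
  rw [← conjEquiv_det j]
  exact (dick_iff_det _ _ h2 _).1 hg

end CfsgH5.Wr
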